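import Mathlib.FieldTheory.IntermediateField.Adjoin.Basic
import Mathlib.FieldTheory.IntermediateField.Adjoin.Algebra
import Mathlib.RingTheory.Localization.FractionRing
import Mathlib.RingTheory.TensorProduct.Finite
import Mathlib.LinearAlgebra.Dimension.Constructions
import Mathlib.LinearAlgebra.FreeModule.Finite.Basic

/-!
# Two lemmas on finite extensions of fraction fields

* `finiteDimensional_of_finite`: the fraction field of a finite domain extension is finite.
* `finiteDimensional_adjoin_range`, `finrank_adjoin_range_le`: the degree of a compositum over one factor.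
-/

set_option autoImplicit false

namespace K660.FieldAux

open scoped TensorProduct

/-- The fraction fields of a module-finite extension of domains form a finite extension. -/
theorem finiteDimensional_of_finite {R S K L : Type*} [CommRing R] [CommRing S] [Field K] [Field L]
    [Algebra R S] [Module.Finite R S] [Algebra R K] [Algebra S L] [IsFractionRing S L]
    [Algebra K L] (h : ∀ r : R, algebraMap K L (algebraMap R K r) = algebraMap S L (algebraMap R S r)) :
    FiniteDimensional K L := by
  obtain ⟨s, hs⟩ := (Module.Finite.fg_top : (⊤ : Submodule R S).FG)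
  have hint : ∀ x : S, IsIntegral K (algebraMap S L x) := by
    intro x
    obtain ⟨p, hp, hpx⟩ := Algebra.IsIntegral.isIntegral (R := R) x
    refine ⟨p.map (algebraMap R K), hp.map _, ?_⟩
    rw [Polynomial.eval₂_map]
    have h1 : (algebraMap K L).comp (algebraMap R K) = (algebraMap S L).comp (algebraMap R S) :=
      RingHom.ext h
    rw [h1, ← Polynomial.hom_eval₂, hpx, map_zero]
  set E := IntermediateField.adjoin K (algebraMap S L '' (s : Set S)) with hE
  have hfinE : FiniteDimensional K E := by
    have : Finite (algebraMap S L '' (s : Set S)) := (s.finite_toSet.image _).to_subtype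
    exact IntermediateField.finiteDimensional_adjoin (by
      rintro _ ⟨x, -, rfl⟩
      exact hint x)
  have hS : ∀ x : S, algebraMap S L x ∈ E := by
    intro x
    have hx : x ∈ Submodule.span R (s : Set S) := by rw [hs]; trivial
    induction hx using Submodule.span_induction with
    | mem x hx => exact IntermediateField.subset_adjoin _ _ ⟨x, hx, rfl⟩
    | zero => rw [map_zero]; exact E.zero_mem
    | add x y _ _ hx hy => rw [map_add]; exact E.add_mem hx hy
    | smul r x _ hx =>
      rw [Algebra.smul_def, map_mul, ← h]
      exact E.mul_mem (E.algebraMap_mem _) hx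
  have htop : E = ⊤ := by
    rw [eq_top_iff]
    intro x _
    obtain ⟨a, b, -, rfl⟩ := IsFractionRing.div_surjective (A := S) x
    exact E.div_mem (hS a) (hS b)
  rw [htop] at hfinE
  exact Module.Finite.equiv (IntermediateField.topEquiv (F := K) (E := L)).toLinearEquiv

section Compositum

variable {K₀ K F M : Type*} [Field K₀] [Field K] [Field F] [Field M] [Algebra K₀ K] [Algebra K₀ F]
  [Algebra K M] [Algebra F M] [FiniteDimensional K₀ F]

/-- The compositum of `K` with a finite extension `F` of `K₀` is spanned over `K` by at most `[F : K₀]` elements. -/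
theorem finrank_adjoin_range_le
    (h : ∀ r : K₀, algebraMap K M (algebraMap K₀ K r) = algebraMap F M (algebraMap K₀ F r)) :
    FiniteDimensional K (IntermediateField.adjoin K (Set.range (algebraMap F M))) ∧
      Module.finrank K (IntermediateField.adjoin K (Set.range (algebraMap F M))) ≤ Module.finrank K₀ F := by
  let _ : Algebra K₀ M := ((algebraMap K M).comp (algebraMap K₀ K)).toAlgebra
  have : IsScalarTower K₀ K M := IsScalarTower.of_algebraMap_eq' rfl
  have : IsScalarTower K₀ F M := IsScalarTower.of_algebraMap_eq' (RingHom.ext h)
  let φ : K ⊗[K₀] F →ₐ[K] M :=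
    Algebra.TensorProduct.lift (Algebra.ofId K M) (IsScalarTower.toAlgHom K₀ F M) (fun _ _ => mul_comm _ _)
  have hφ : ∀ (a : K) (b : F), φ (a ⊗ₜ b) = algebraMap K M a * algebraMap F M b := fun a b => by
    simp [φ, Algebra.ofId_apply]
  have hfinT : FiniteDimensional K (K ⊗[K₀] F) := inferInstance
  have hfinR : FiniteDimensional K φ.range := Module.Finite.of_surjective φ.rangeRestrict.toLinearMap
    φ.rangeRestrict_surjective
  have hint : ∀ x ∈ Set.range (algebraMap F M), IsAlgebraic K x := by
    rintro _ ⟨x, rfl⟩
    have h1 : IsIntegral K₀ x := Algebra.IsIntegral.isIntegral x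
    exact ((h1.algebraMap (B := M)).tower_top (A := K)).isAlgebraic
  have heq := IntermediateField.adjoin_toSubalgebra_of_isAlgebraic (F := K) (E := M) hint
  have hle : Algebra.adjoin K (Set.range (algebraMap F M)) ≤ φ.range := by
    rw [Algebra.adjoin_le_iff]
    rintro _ ⟨x, rfl⟩
    exact ⟨1 ⊗ₜ x, by
      have := hφ 1 x
      rw [map_one, one_mul] at this
      exact this⟩
  have hle' : (IntermediateField.adjoin K (Set.range (algebraMap F M))).toSubalgebra ≤ φ.range := by
    rw [heq]; exact hle
  let ι : IntermediateField.adjoin K (Set.range (algebraMap F M)) →ₗ[K] φ.range :=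
    (Subalgebra.inclusion hle').toLinearMap
  have hι : Function.Injective ι := Subalgebra.inclusion_injective hle'
  have h2 : FiniteDimensional K (IntermediateField.adjoin K (Set.range (algebraMap F M))) :=
    Module.Finite.of_injective ι hι
  refine ⟨h2, ?_⟩
  calc Module.finrank K (IntermediateField.adjoin K (Set.range (algebraMap F M)))
      ≤ Module.finrank K φ.range := LinearMap.finrank_le_finrank_of_injective hι
    _ ≤ Module.finrank K (K ⊗[K₀] F) :=
      LinearMap.finrank_le_finrank_of_surjective (f := φ.rangeRestrict.toLinearMap) φ.rangeRestrict_surjective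
    _ = Module.finrank K₀ F := Module.finrank_baseChange

end Compositum

end K660.FieldAux
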