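import Mathlib.AlgebraicGeometry.FunctionField
import Mathlib.AlgebraicGeometry.Morphisms.Finite
import Groth.Agent.Vanish.K660.FieldAux

/-!
# The map of function fields of a dominant morphism of integral schemes

`ff f h : K(X) → K(Y)` for `f : Y ⟶ X` with `f η_Y = η_X`; compatibility with stalk maps, sections, composition; finiteness
for finite `f`.
-/

set_option autoImplicit false
universe u

open CategoryTheory AlgebraicGeometry TopologicalSpace

namespace K660.FF

variable {X Y Z : Scheme.{u}} [IsIntegral X] [IsIntegral Y] [IsIntegral Z]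

/-- The map of function fields. -/
noncomputable def ff (f : Y ⟶ X) (h : f (genericPoint Y) = genericPoint X) : X.functionField →+* Y.functionField :=
  (X.presheaf.stalkSpecializes (specializes_of_eq h) ≫ f.stalkMap (genericPoint Y)).hom

theorem ff_algebraMap (f : Y ⟶ X) (h : f (genericPoint Y) = genericPoint X) (x : Y)
    (a : X.presheaf.stalk (f x)) :
    ff f h (algebraMap (X.presheaf.stalk (f x)) X.functionField a) =
      algebraMap (Y.presheaf.stalk x) Y.functionField ((f.stalkMap x).hom a) := by
  have hx : genericPoint X ⤳ f x := (genericPoint_spec X).specializes trivial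
  have hy : genericPoint Y ⤳ x := (genericPoint_spec Y).specializes trivial
  have h1 : X.presheaf.stalkSpecializes hx ≫ X.presheaf.stalkSpecializes (specializes_of_eq h) ≫
      f.stalkMap (genericPoint Y) = f.stalkMap x ≫ Y.presheaf.stalkSpecializes hy := by
    rw [← Scheme.Hom.stalkSpecializes_stalkMap, ← Category.assoc]
    rw [TopCat.Presheaf.stalkSpecializes_comp]
  exact congrArg (fun φ => φ.hom a) h1

theorem ff_germ (f : Y ⟶ X) (h : f (genericPoint Y) = genericPoint X) (U : X.Opens) (hU : genericPoint X ∈ U)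
    (hU' : genericPoint Y ∈ f ⁻¹ᵁ U) (a : Γ(X, U)) :
    ff f h ((X.presheaf.germ U (genericPoint X) hU).hom a) =
      (Y.presheaf.germ (f ⁻¹ᵁ U) (genericPoint Y) hU').hom ((f.app U).hom a) := by
  have h1 : X.presheaf.germ U (genericPoint X) hU ≫ X.presheaf.stalkSpecializes (specializes_of_eq h) ≫
      f.stalkMap (genericPoint Y) = f.app U ≫ Y.presheaf.germ (f ⁻¹ᵁ U) (genericPoint Y) hU' := by
    rw [TopCat.Presheaf.germ_stalkSpecializes_assoc, Scheme.Hom.germ_stalkMap]
  exact congrArg (fun φ => φ.hom a) h1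

theorem ff_comp (g : Z ⟶ Y) (f : Y ⟶ X) (hg : g (genericPoint Z) = genericPoint Y)
    (hf : f (genericPoint Y) = genericPoint X) (hgf : (g ≫ f) (genericPoint Z) = genericPoint X)
    (a : X.functionField) : ff (g ≫ f) hgf a = ff g hg (ff f hf a) := by
  have h1 : X.presheaf.stalkSpecializes (specializes_of_eq hgf) ≫ (g ≫ f).stalkMap (genericPoint Z) =
      (X.presheaf.stalkSpecializes (specializes_of_eq hf) ≫ f.stalkMap (genericPoint Y)) ≫
      (Y.presheaf.stalkSpecializes (specializes_of_eq hg) ≫ g.stalkMap (genericPoint Z)) := by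
    rw [Scheme.Hom.stalkMap_comp]
    rw [Category.assoc, ← Scheme.Hom.stalkSpecializes_stalkMap_assoc]
    rw [TopCat.Presheaf.stalkSpecializes_comp_assoc]
    rfl
  exact congrArg (fun φ => φ.hom a) h1

theorem ff_congr {f g : Y ⟶ X} (hfg : f = g) (hf : f (genericPoint Y) = genericPoint X)
    (hg : g (genericPoint Y) = genericPoint X) : ff f hf = ff g hg := by
  subst hfg
  rfl

/-- The function field extension of a finite morphism is finite. -/
theorem finiteDimensional_ff (f : Y ⟶ X) (h : f (genericPoint Y) = genericPoint X) [IsFinite f] :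
    @FiniteDimensional X.functionField Y.functionField _ _ (ff f h).toAlgebra.toModule := by
  obtain ⟨_, ⟨U, hU, rfl⟩, hxU, -⟩ :=
    X.isBasis_affineOpens.exists_subset_of_mem_open (Set.mem_univ (genericPoint X)) isOpen_univ
  have hxU : genericPoint X ∈ U := hxU
  have hyU : genericPoint Y ∈ f ⁻¹ᵁ U := by
    change f (genericPoint Y) ∈ U
    rw [h]; exact hxU
  have hN : Nonempty (f ⁻¹ᵁ U) := ⟨⟨_, hyU⟩⟩
  have hNU : Nonempty U := ⟨⟨_, hxU⟩⟩
  let _ : Algebra Γ(X, U) Γ(Y, f ⁻¹ᵁ U) := (f.app U).hom.toAlgebra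
  have hfin : Module.Finite Γ(X, U) Γ(Y, f ⁻¹ᵁ U) := IsFinite.finite_app f U hU
  have hfr : IsFractionRing Γ(Y, f ⁻¹ᵁ U) Y.functionField :=
    functionField_isFractionRing_of_isAffineOpen Y _ (hU.preimage f)
  let _ : Algebra X.functionField Y.functionField := (ff f h).toAlgebra
  refine FieldAux.finiteDimensional_of_finite (R := Γ(X, U)) (S := Γ(Y, f ⁻¹ᵁ U)) (K := X.functionField)
    (L := Y.functionField) (fun r => ?_)
  exact ff_germ f h U hxU hyU r

end K660.FF
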