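import Groth.Agent.Sga4B.SmoothNormal
import Groth.Agent.Ega1.GenPts
import Groth.Agent.Sga3C.LocConn
import Mathlib.AlgebraicGeometry.Morphisms.ClosedImmersion

/-!
# Connected components of smooth schemes over a field are integral, open and closed
-/

set_option autoImplicit false
universe u

open CategoryTheory AlgebraicGeometry TopologicalSpace

namespace K660.ConnComp

/-- The connected component of a point of a smooth scheme over a field: open, closed and integral. -/
theorem exists_component {k : Type u} [Field k] {T : Scheme.{u}} (s : T ⟶ Spec (CommRingCat.of k)) [Smooth s]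
    (t : T) : ∃ W : T.Opens, t ∈ W ∧ IsClosed (W : Set T) ∧ (W : Set T) = connectedComponent t ∧
      IsIntegral (W : Scheme.{u}) := by
  have hT : IsLocallyNoetherian T := LocallyOfFiniteType.isLocallyNoetherian s
  have := Groth.Agent.Sga3C.LocConn.locallyConnectedSpace_of_isLocallyNoetherian T
  let W : T.Opens := ⟨connectedComponent t, isOpen_connectedComponent⟩
  refine ⟨W, mem_connectedComponent, isClosed_connectedComponent, rfl, ?_⟩
  have hW : IsLocallyNoetherian (W : Scheme.{u}) := LocallyOfFiniteType.isLocallyNoetherian (W.ι ≫ s)
  rw [Groth.Agent.Ega1.GenPts.isIntegral_iff]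
  constructor
  · exact isConnected_iff_connectedSpace.1 isConnected_connectedComponent
  · intro x
    exact (Groth.Agent.Sga4B.SmoothNormal.isNormalScheme_of_smooth (W.ι ≫ s) x).1

/-- The inclusion of an open and closed subscheme is a closed immersion. -/
theorem isClosedImmersion_ι {T : Scheme.{u}} (W : T.Opens) (h : IsClosed (W : Set T)) : IsClosedImmersion W.ι := by
  have h1 : IsPreimmersion W.ι := inferInstance
  exact IsClosedImmersion.of_isPreimmersion W.ι (by
    have : Set.range W.ι = (W : Set T) := W.range_ι
    rw [this]; exact h)

end K660.ConnComp
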