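import Groth.Agent.Vanish.K660.SmoothComp
import Groth.Agent.Vanish.K660.ConnComp
import Mathlib.AlgebraicGeometry.IdealSheaf.Functorial

/-!
# Refining a normal crossing divisor to integral components

* `isNCD_of_local`: a family which is locally a subfamily of an NCD family is NCD;
* `exists_refine`: over a field, the family of connected components of an NCD family.
-/

set_option autoImplicit false
universe u

open CategoryTheory CategoryTheory.Limits AlgebraicGeometry TopologicalSpace Opposite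

namespace K660.NcdRefine

open LogNCD K911.Ncd

variable {X S : Scheme.{u}} {f : X ⟶ S}

/-- A family which is locally a subfamily of a normal crossing family is normal crossing. -/
theorem isNCD_of_local {r r' : ℕ} {D : Fin r → X.IdealSheafData} {D' : Fin r' → X.IdealSheafData} (hD : IsNCD D f)
    (h : ∀ x : X, Nonempty (Through D' x) → ∃ (W₀ : X.Opens) (_ : x ∈ W₀) (σ : Through D' x → Through D x),
      Function.Injective σ ∧
      (∀ (i : Through D' x) (U : X.affineOpens), U.1 ≤ W₀ → (D' i.1).ideal U = (D (σ i).1).ideal U) ∧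
      (∀ i : Fin r', x ∉ (D' i).support → ∀ U : X.affineOpens, U.1 ≤ W₀ → (D' i).ideal U = ⊤)) :
    IsNCD D' f := by
  intro x hx
  obtain ⟨W₀, hxW₀, σ, hσ, h1, h2⟩ := h x hx
  obtain ⟨W, hxW, n, v, e, he, het, hv, hv'⟩ := hD x (hx.map σ)
  have hle : W ⊓ W₀ ≤ W := inf_le_left
  refine ⟨W ⊓ W₀, ⟨hxW, hxW₀⟩, n, fun i => (X.homOfLE hle).appTop (v i), e ∘ σ, he.comp hσ, ?_, ?_, ?_⟩
  · have h3 := AffineSpace.comp_homOfVector v (X.homOfLE hle) (W.ι ≫ f)
    have h4 : X.homOfLE hle ≫ W.ι ≫ f = (W ⊓ W₀).ι ≫ f := by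
      rw [← Category.assoc, Scheme.homOfLE_ι]
    rw [h4] at h3
    have h5 : (fun i => (X.homOfLE hle).appTop (v i)) = (X.homOfLE hle).appTop ∘ v := rfl
    rw [h5, ← h3]
    infer_instance
  · intro i U hU
    have h6 := h1 i U (hU.trans inf_le_right)
    rw [h6, hv (σ i) U (hU.trans hle)]
    congr 2
    have h7 := congr($(Groth.Agent.Pi1.H411.Chart.homOfLE_appTop_topIso (W ⊓ W₀) W hle).hom (v (ULift.up (e (σ i)))))
    rw [sectOn_eq, sectOn_eq]
    have h8 : (W ⊓ W₀).topIso.hom ((X.homOfLE hle).appTop (v (ULift.up (e (σ i))))) =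
        X.presheaf.map (homOfLE hle).op (W.topIso.hom (v (ULift.up (e (σ i))))) := h7
    change _ = X.presheaf.map (homOfLE hU).op ((W ⊓ W₀).topIso.hom ((X.homOfLE hle).appTop (v (ULift.up (e (σ i))))))
    rw [h8, ← homOfLE_comp hU hle, op_comp, Functor.map_comp]
    rfl
  · intro i hi U hU
    exact h2 i hi U (hU.trans inf_le_right)

/-- The kernel of the inclusion of an open and closed piece `W` of a closed subscheme, over an affine open
over which everything lies in `W`. -/
theorem ker_ideal_of_le {T : Scheme.{u}} (ι : T ⟶ X) [QuasiCompact ι] (W : T.Opens) [QuasiCompact (W.ι ≫ ι)]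
    (U : X.affineOpens) (h : ι ⁻¹ᵁ U.1 ≤ W) : (W.ι ≫ ι).ker.ideal U = ι.ker.ideal U := by
  rw [Scheme.Hom.ker_apply, Scheme.Hom.ker_apply, Scheme.Hom.comp_app]
  have h1 : IsIso (W.ι.app (ι ⁻¹ᵁ U.1)) := Scheme.Hom.isIso_app _ _ (by rwa [Scheme.Opens.opensRange_ι])
  ext a
  rw [RingHom.mem_ker, RingHom.mem_ker]
  change (W.ι.app (ι ⁻¹ᵁ U.1)) (ι.app U.1 a) = 0 ↔ _
  constructor
  · intro h2
    have h3 : Function.Injective (W.ι.app (ι ⁻¹ᵁ U.1)) :=
      (ConcreteCategory.bijective_of_isIso (W.ι.app (ι ⁻¹ᵁ U.1))).1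
    exact h3 (h2.trans (map_zero _).symm)
  · intro h2
    have h3 : ι.app U.1 a = 0 := h2
    rw [h3, map_zero]

/-- Over an affine open missing the range, the kernel is everything. -/
theorem ker_ideal_eq_top {T : Scheme.{u}} (j : T ⟶ X) [QuasiCompact j]
    (U : X.affineOpens) (h : ∀ t : T, j t ∉ U.1) : j.ker.ideal U = ⊤ := by
  rw [Scheme.Hom.ker_apply]
  have h1 : j ⁻¹ᵁ U.1 = ⊥ := by
    ext t
    simp only [TopologicalSpace.Opens.coe_bot, Set.mem_empty_iff_false, iff_false]
    exact h t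
  have h2 : Subsingleton Γ(T, j ⁻¹ᵁ U.1) := by
    rw [h1]; infer_instance
  rw [Ideal.eq_top_iff_one, RingHom.mem_ker]
  exact Subsingleton.elim _ _

/-- The connected components of the components of a normal crossing divisor on a quasi-compact smooth scheme over a
field form a normal crossing divisor with integral components. -/
theorem exists_refine {k : Type u} [Field k] {X : Scheme.{u}} (f : X ⟶ Spec (CommRingCat.of k)) [Smooth f]
    [CompactSpace X] {r : ℕ} (D : Fin r → X.IdealSheafData) (hD : IsNCD D f) :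
    ∃ (r' : ℕ) (D' : Fin r' → X.IdealSheafData), IsNCD D' f ∧ (∀ j, IsIntegral (D' j).subscheme) ∧
      ∀ x : X, (∃ j, x ∈ (D' j).support) ↔ ∃ i, x ∈ (D i).support := by
  classical
  let T : Fin r → Scheme.{u} := fun i => (D i).subscheme
  let ι : ∀ i, T i ⟶ X := fun i => (D i).subschemeι
  have hsm : ∀ i, Smooth (ι i ≫ f) := fun i => SmoothComp.smooth_subscheme hD i
  have hrange : ∀ i (t : T i), ι i t ∈ (D i).support := fun i t => by
    have h2 : ι i t ∈ Set.range (D i).subschemeι := ⟨t, rfl⟩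
    rw [(D i).range_subschemeι] at h2
    exact h2
  have hrange' : ∀ i (x : X), x ∈ (D i).support → ∃ t : T i, ι i t = x := fun i x hx => by
    have h2 : x ∈ Set.range (D i).subschemeι := by
      rw [(D i).range_subschemeι]; exact hx
    exact h2
  have hinj : ∀ i, Function.Injective (ι i) := fun i => (ι i).isClosedEmbedding.injective
  have hcomp : ∀ i, ∀ c : ConnectedComponents (T i), ∃ W : (T i).Opens, IsClosed (W : Set (T i)) ∧
      (∀ t, t ∈ W ↔ (t : ConnectedComponents (T i)) = c) ∧ IsIntegral (W : Scheme.{u}) := by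
    intro i c
    obtain ⟨t, rfl⟩ := ConnectedComponents.surjective_coe c
    obtain ⟨W, htW, hW, hW', hWi⟩ := ConnComp.exists_component (ι i ≫ f) t
    refine ⟨W, hW, fun t' => ?_, hWi⟩
    rw [ConnectedComponents.coe_eq_coe']
    change t' ∈ (W : Set (T i)) ↔ _
    rw [hW']
  choose W hWc hW hWi using hcomp
  have hcompact : ∀ i, CompactSpace (T i) := fun i => (ι i).isClosedEmbedding.compactSpace
  have hln : ∀ i, IsLocallyNoetherian (T i) := fun i => LocallyOfFiniteType.isLocallyNoetherian (ι i ≫ f)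
  have hlc : ∀ i, LocallyConnectedSpace (T i) := fun i =>
    Groth.Agent.Sga3C.LocConn.locallyConnectedSpace_of_isLocallyNoetherian (T i)
  have hcl : ∀ i c, IsClosedImmersion (W i c).ι := fun i c => ConnComp.isClosedImmersion_ι _ (hWc i c)
  let J := Σ i : Fin r, ConnectedComponents (T i)
  have hJ : Finite J := inferInstance
  let e : J ≃ Fin (Nat.card J) := Finite.equivFin J
  let j : ∀ a : J, (W a.1 a.2 : Scheme.{u}) ⟶ X := fun a => (W a.1 a.2).ι ≫ ι a.1
  have hj : ∀ a, IsClosedImmersion (j a) := fun a => inferInstance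
  have hjs : ∀ (a : J) (x : X), x ∈ (j a).ker.support ↔ ∃ t : T a.1, t ∈ W a.1 a.2 ∧ ι a.1 t = x := by
    intro a x
    have h1 : ((j a).ker.support : Set X) = Set.range (j a) := by
      rw [Scheme.Hom.support_ker, (j a).isClosedEmbedding.isClosed_range.closure_eq]
    have h2 : x ∈ (j a).ker.support ↔ x ∈ Set.range (j a) := by
      rw [← h1]; rfl
    rw [h2]
    constructor
    · rintro ⟨t, rfl⟩
      exact ⟨(W a.1 a.2).ι t, t.2, rfl⟩
    · rintro ⟨t, ht, rfl⟩
      exact ⟨⟨t, ht⟩, rfl⟩
  have hker : ∀ i, (ι i).ker = D i := fun i => Scheme.IdealSheafData.ker_subschemeι (D i)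
  have hjD : ∀ (a : J) (x : X), x ∈ (j a).ker.support → x ∈ (D a.1).support := by
    intro a x hx
    obtain ⟨t, -, ht⟩ := (hjs a x).1 hx
    rw [← ht]
    exact hrange _ t
  let K : J → X.IdealSheafData := fun a => (j a).ker
  refine ⟨Nat.card J, fun b => K (e.symm b), ?_, ?_, ?_⟩
  · refine isNCD_of_local hD fun x _ => ?_
    let O : X.Opens := ⟨⋂ a : {a : J // x ∉ (j a).ker.support}, ((j a.1).ker.support : Set X)ᶜ,
      isOpen_iInter_of_finite fun a => (j a.1).ker.support.isClosed.isOpen_compl⟩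
    have hO : ∀ y, y ∈ O → ∀ a, y ∈ (j a).ker.support → x ∈ (j a).ker.support := by
      intro y hy a ha
      by_contra hx
      exact Set.mem_iInter.1 hy ⟨a, hx⟩ ha
    have hxO : x ∈ O := Set.mem_iInter.2 fun a => a.2
    refine ⟨O, hxO, fun b => ⟨(e.symm b.1).1, ?_⟩, ?_, ?_, ?_⟩
    · exact hjD _ x b.2
    · intro b b' hbb
      have h1 : (e.symm b.1).1 = (e.symm b'.1).1 := congrArg Subtype.val hbb
      obtain ⟨t, ht, htx⟩ := (hjs _ x).1 b.2
      obtain ⟨t', ht', htx'⟩ := (hjs _ x).1 b'.2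
      rw [hW] at ht ht'
      apply Subtype.ext
      apply e.symm.injective
      generalize e.symm b.1 = a at *
      generalize e.symm b'.1 = a' at *
      obtain ⟨i, c⟩ := a
      obtain ⟨i', c'⟩ := a'
      obtain rfl : i = i' := h1
      have h2 : t = t' := hinj i (htx.trans htx'.symm)
      subst h2
      have h3 : c = c' := ht.symm.trans ht'
      rw [h3]
    · intro b U hU
      generalize hb : e.symm b.1 = a
      have hxa : x ∈ (j a).ker.support := by
        rw [← hb]; exact b.2
      obtain ⟨t, ht, htx⟩ := (hjs _ x).1 hxa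
      have h1 : (j a).ker.ideal U = (ι a.1).ker.ideal U := by
        refine ker_ideal_of_le (ι a.1) (W a.1 a.2) U fun s hs => ?_
        have h2 : x ∈ (j ⟨a.1, (s : ConnectedComponents (T a.1))⟩).ker.support :=
          hO (ι a.1 s) (hU hs) _ ((hjs _ _).2 ⟨s, (hW _ _ _).2 rfl, rfl⟩)
        obtain ⟨t', ht', htx'⟩ := (hjs _ x).1 h2
        have h3 : t' = t := hinj _ (htx'.trans htx.symm)
        subst h3
        rw [hW] at ht ht' ⊢
        exact ht'.symm.trans ht
      rw [hker] at h1
      change (K a).ideal U = (D (e.symm b.1).1).ideal U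
      rw [hb]
      exact h1
    · intro b hb U hU
      refine ker_ideal_eq_top _ U fun t ht => hb ?_
      exact hO _ (hU ht) _ ((hjs _ _).2 ⟨(W _ _).ι t, t.2, rfl⟩)
  · intro b
    have h1 : IsIso (j (e.symm b)).toImage := inferInstance
    have h2 : IsIntegral (W (e.symm b).1 (e.symm b).2 : Scheme.{u}) := hWi _ _
    have h3 : Nonempty (j (e.symm b)).ker.subscheme := Nonempty.map (j (e.symm b)).toImage inferInstance
    exact isIntegral_of_isOpenImmersion (inv (j (e.symm b)).toImage)
  · intro x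
    constructor
    · rintro ⟨b, hb⟩
      obtain ⟨t, -, ht⟩ := (hjs _ x).1 hb
      exact ⟨_, ht ▸ hrange _ t⟩
    · rintro ⟨i, hi⟩
      obtain ⟨t, rfl⟩ := hrange' i x hi
      refine ⟨e ⟨i, (t : ConnectedComponents (T i))⟩, ?_⟩
      change ι i t ∈ (K (e.symm (e ⟨i, (t : ConnectedComponents (T i))⟩))).support
      rw [Equiv.symm_apply_apply]
      exact (hjs _ _).2 ⟨t, (hW _ _ _).2 rfl, rfl⟩

end K660.NcdRefine
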