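import Groth.Agent.Vanish.K27.Bert0
import Mathlib.Algebra.MvPolynomial.Funext
import Groth.Agent.Vanish.K660.NcdRefine
import Groth.Agent.Fga.ZeroClass
import Groth.Agent.VarietyB.GGStalk
import Groth.Agent.VarietyB.GenLocusTensor
import Groth.Agent.Pi1C.ZeroScheme
import Groth.Agent.AbVar.K513.Theta1

/-!
# Kollár's surjectivity, upstairs

`EV k`: the statement of S17103 (surjectivity for `L^N = O(D)` with `D` strict normal crossing and multiplicities `< N`).
`upstairs`: the same when `L^N = G ⊗ O(Σ c_j D_j)` with `G` semi-ample and `c_j < N` (Bertini).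
-/

set_option autoImplicit false
universe u

open CategoryTheory CategoryTheory.Limits AlgebraicGeometry Opposite TopologicalSpace

namespace K660.KolUp

open Groth.Agent.Grpsch.PicGrp Groth.Agent.Fga.JacFactor Groth.Agent.Fga.ZeroClass Groth.Agent.Divis.EffCartier
open Groth.Agent.Fdesc.LocGen

/-- The statement of S17103. -/
def EV (k : Type u) [Field k] : Prop :=
  ∀ (X : Scheme.{u}) [X.Over (Spec (CommRingCat.of k))] [IsProper (X ↘ Spec (CommRingCat.of k))]
    [Smooth (X ↘ Spec (CommRingCat.of k))] [IrreducibleSpace X] (n : ℕ) (_ : topologicalKrullDim X = n)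
    (H : X.Modules) (_ : CohB1.IsAmple H)
    (L Linv : X.Modules) (_ : PicF.IsInvertible L) (_ : ClSub.IsInverseOf Linv L)
    (N : ℕ) (_ : 1 ≤ N) (r : ℕ) (D : Fin r → X.IdealSheafData) (_ : LogNCD.IsNCD D (X ↘ Spec (CommRingCat.of k)))
    (α : Fin r → ℕ) (_ : ∀ j, 0 < α j ∧ α j < N)
    (_ : ClSub.IsInverseOf (CohB1.tensorPow L N) (ClSub.idealMod (∏ j, D j ^ α j)))
    (μ : Fin r → ℕ) (b : ℕ),
    Function.Surjective (Sheaf.H.map ((SheafOfModules.toSheaf X.ringCatSheaf).map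
      (LogNCD.inclTwist Linv (∏ j, D j ^ μ j))) b)

/-- `H^b` of a morphism of modules. -/
noncomputable def Hm {X : Scheme.{u}} {M N : X.Modules} (φ : M ⟶ N) (b : ℕ) : Coh.HH X M b →+ Coh.HH X N b :=
  Sheaf.H.map ((SheafOfModules.toSheaf X.ringCatSheaf).map φ) b

theorem Hm_comp {X : Scheme.{u}} {M N P : X.Modules} (φ : M ⟶ N) (ψ : N ⟶ P) (b : ℕ) (x : Coh.HH X M b) :
    Hm ψ b (Hm φ b x) = Hm (φ ≫ ψ) b x := by
  change Sheaf.H.map _ b (Sheaf.H.map _ b x) = Sheaf.H.map ((SheafOfModules.toSheaf X.ringCatSheaf).map (φ ≫ ψ)) b x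
  rw [Functor.map_comp, Sheaf.H.map_comp_apply]

theorem Hm_id {X : Scheme.{u}} (M : X.Modules) (b : ℕ) (x : Coh.HH X M b) : Hm (𝟙 M) b x = x := by
  have h : (SheafOfModules.toSheaf X.ringCatSheaf).map (𝟙 M) = 𝟙 _ :=
    (SheafOfModules.toSheaf X.ringCatSheaf).map_id M
  change Sheaf.H.map ((SheafOfModules.toSheaf X.ringCatSheaf).map (𝟙 M)) b x = x
  refine (congrArg (fun u => Sheaf.H.map u b x) h).trans ?_
  exact Sheaf.H.map_id_apply x

/-- `H^b` of a morphism of modules is surjective. -/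
def Surj {X : Scheme.{u}} {M N : X.Modules} (φ : M ⟶ N) (b : ℕ) : Prop :=
  Function.Surjective (Hm φ b)

theorem Surj.of_iso {X : Scheme.{u}} {M M' N N' : X.Modules} {φ : M ⟶ N} {φ' : M' ⟶ N'} (e : M ≅ M') (e' : N ≅ N')
    (h : φ ≫ e'.hom = e.hom ≫ φ') {b : ℕ} (hs : Surj φ' b) : Surj φ b := by
  intro t
  obtain ⟨s, hs'⟩ := hs (Hm e'.hom b t)
  refine ⟨Hm e.inv b s, ?_⟩
  have h2 : e.inv ≫ φ = φ' ≫ e'.inv := by
    rw [Iso.inv_comp_eq, ← Category.assoc, ← h, Category.assoc, e'.hom_inv_id, Category.comp_id]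
  rw [Hm_comp, h2, ← Hm_comp, hs', Hm_comp, e'.hom_inv_id, Hm_id]

section pic

variable {X Y : Scheme.{u}}

theorem isEff_pow {J : X.IdealSheafData} (hJ : BlowUp.IsEffCartierIdeal J) (n : ℕ) :
    BlowUp.IsEffCartierIdeal (J ^ n) := by
  induction n with
  | zero => rw [pow_zero]; exact isEff_top
  | succ n ih => rw [pow_succ]; exact isEff_mul ih hJ

theorem dcl_pow {J : X.IdealSheafData} (hJ : BlowUp.IsEffCartierIdeal J) (n : ℕ)
    (h : BlowUp.IsEffCartierIdeal (J ^ n)) : dcl (J ^ n) h = dcl J hJ ^ n := by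
  obtain ⟨h', e⟩ := K513.Theta1.exists_dcl_pow hJ n
  exact e

theorem pull_dcl (g : Y ⟶ X) {D : X.IdealSheafData} (hD : BlowUp.IsEffCartierIdeal D)
    (hE : BlowUp.IsEffCartierIdeal (D.comap g)) : pull g (dcl D hD) = dcl (D.comap g) hE := by
  rw [dcl, dcl, pull_mk, mk_eq_iff]
  exact Groth.Agent.Dix.IdealModCartier.pullback_idealMod g hD hE

theorem isInverseOf_iff {L M : X.Modules} (hL : PicF.IsInvertible L) (hM : PicF.IsInvertible M) :
    ClSub.IsInverseOf L M ↔ mk L hL * mk M hM = 1 := by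
  rw [mk_mul_mk, mk_eq_one_iff]
  rfl

end pic

/-- A finite generating family of sections of a globally generated invertible module. -/
theorem exists_sections {X : Scheme.{u}} [CompactSpace X] {P : X.Modules} (hP : PicF.IsInvertible P)
    (hgg : Curv2.IsGloballyGenerated P) :
    ∃ (r : ℕ) (s : Fin r → (Coh.structureModule X ⟶ P)), ⨆ i, PicF2.zeroScheme P (s i) = ⊤ := by
  choose s hs using fun x : X => Groth.Agent.VarietyB.GenLocusTensor.exists_mem_genLocus hP hgg x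
  obtain ⟨t, ht⟩ := CompactSpace.elim_nhds_subcover (X := X) (fun x => (CohB1.genLocus P (s x) : Set X))
    (fun x => (CohB1.genLocus P (s x)).isOpen.mem_nhds (hs x))
  obtain ⟨r, ⟨e⟩⟩ := Finite.exists_equiv_fin t
  refine ⟨r, fun i => s (e.symm i).1, ?_⟩
  rw [← Scheme.IdealSheafData.support_eq_bot_iff, eq_bot_iff]
  intro x hx
  have hx' : x ∈ ⋃ y ∈ t, (CohB1.genLocus P (s y) : Set X) := by
    rw [ht]
    trivial
  simp only [Set.mem_iUnion] at hx'
  obtain ⟨y, hy, hxy⟩ := hx'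
  have h1 : PicF2.zeroScheme P (s y) ≤ ⨆ i, PicF2.zeroScheme P (s (e.symm i).1) := by
    have := le_iSup (fun i => PicF2.zeroScheme P (s (e.symm i).1)) (e ⟨y, hy⟩)
    simpa using this
  have h2 : x ∈ (PicF2.zeroScheme P (s y)).support := Scheme.IdealSheafData.support_antitone h1 hx
  exact ((Groth.Agent.Pi1C.ZeroScheme.mem_support_iff (s y) hP x).1 h2 hxy).elim

theorem exists_eval_ne_zero {k : Type u} [Field k] [Infinite k] {ι : Type} [Finite ι] (p : MvPolynomial ι k)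
    (hp : p ≠ 0) : ∃ c : ι → k, MvPolynomial.eval c p ≠ 0 := by
  by_contra h
  exact hp (MvPolynomial.funext fun c => by
    rw [map_zero]
    by_contra hc
    exact h ⟨c, hc⟩)

/-- Surjectivity upstairs: `L^N = G ⊗ O(Σ c_j D_j)` with `G` semi-ample and `c_j < N`. -/
theorem upstairs {k : Type u} [Field k] [IsAlgClosed k] [CharZero k] (hEV : EV k) {X : Scheme.{u}}
    (f : X ⟶ Spec (CommRingCat.of k)) [IsIntegral X] [IsProper f] [Smooth f] (n : ℕ) (hn : topologicalKrullDim X = n)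
    (H : X.Modules) (hH : CohB1.IsAmple H) {L Linv : X.Modules} (hL : PicF.IsInvertible L)
    (hLinv : ClSub.IsInverseOf Linv L) {r : ℕ} (D : Fin r → X.IdealSheafData) (hD : LogNCD.IsNCD D f)
    (c μ : Fin r → ℕ) (hc : ∀ j, 0 < c j) {G : X.Modules} (hG : PicF.IsInvertible G) (m N : ℕ) (hm : 1 ≤ m)
    (hgg : Curv2.IsGloballyGenerated (CohB1.tensorPow G m)) (hN : 2 ≤ N) (hcN : ∀ j, c j < N)
    (hC : BlowUp.IsEffCartierIdeal (∏ j, D j ^ c j))
    (e : mk L hL ^ N * dcl (∏ j, D j ^ c j) hC = mk G hG) (b : ℕ) :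
    Surj (LogNCD.inclTwist Linv (∏ j, D j ^ μ j)) b := by
  let _ : X.Over (Spec (CommRingCat.of k)) := ⟨f⟩
  have : IsProper (X ↘ Spec (CommRingCat.of k)) := inferInstanceAs (IsProper f)
  have : Smooth (X ↘ Spec (CommRingCat.of k)) := inferInstanceAs (Smooth f)
  have : CompactSpace X := hH.2.1
  set P := CohB1.tensorPow G m with hPdef
  have hP : PicF.IsInvertible P := isInvertible_tensorPow hG m
  obtain ⟨r₁, s, hs⟩ := exists_sections hP hgg
  obtain ⟨p, hp, hpc⟩ := K27.Bert0.exists_poly_isNCD (k := k) (X := X) (D := D) hD hP s hs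
  have : Infinite k := IsAlgClosed.instInfinite
  obtain ⟨a, ha⟩ := exists_eval_ne_zero p hp
  have hNCD := hpc a ha
  set E : X.IdealSheafData := PicF2.zeroScheme P (K27.Bert0.member k s a) with hEdef
  have hEeff : BlowUp.IsEffCartierIdeal E := by
    have := K911.Ncd.isEff_of_isNCD hNCD (Fin.last r)
    simpa [K27.Bert0.snocD] using this
  have hEcl : mk P hP = (dcl E hEeff)⁻¹ :=
    mk_eq_inv_dcl hP _ (K513.Theta1.isZeroIdeal_zeroScheme hP _) hEeff
  have hprod : ∀ (α : Fin r → ℕ) (β : ℕ),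
      ∏ j, (K27.Bert0.snocD D E) j ^ (Fin.snoc (α := fun _ => ℕ) α β : Fin (r + 1) → ℕ) j =
        (∏ j, D j ^ α j) * E ^ β := by
    intro α β
    rw [Fin.prod_univ_castSucc]
    simp only [K27.Bert0.snocD, Fin.snoc_castSucc, Fin.snoc_last]
  have hmul : (∏ j, D j ^ (m * c j)) = (∏ j, D j ^ c j) ^ m := by
    rw [← Finset.prod_pow]
    exact Finset.prod_congr rfl fun j _ => by rw [← pow_mul, mul_comm]
  have key := hEV X n hn H hH L Linv hL hLinv (m * N) (Nat.mul_pos hm (by omega)) (r + 1) (K27.Bert0.snocD D E)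
    hNCD (Fin.snoc (α := fun _ => ℕ) (fun j => m * c j) 1) ?_ ?_ (Fin.snoc (α := fun _ => ℕ) μ 0) b
  · rw [hprod, pow_zero, mul_one] at key
    exact key
  · intro j
    refine Fin.lastCases ?_ (fun j => ?_) j
    · rw [Fin.snoc_last]
      exact ⟨Nat.one_pos, by nlinarith⟩
    · rw [Fin.snoc_castSucc]
      exact ⟨Nat.mul_pos hm (hc j), Nat.mul_lt_mul_of_pos_left (hcN j) hm⟩
  · rw [hprod, hmul, pow_one]
    have h1 : BlowUp.IsEffCartierIdeal ((∏ j, D j ^ c j) ^ m) := isEff_pow hC m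
    have h2 : BlowUp.IsEffCartierIdeal ((∏ j, D j ^ c j) ^ m * E) := isEff_mul h1 hEeff
    rw [isInverseOf_iff (isInvertible_tensorPow hL (m * N)) (Groth.Agent.Dix.IdealModCartier.isInvertible_idealMod h2)]
    have h3 : mk (ClSub.idealMod ((∏ j, D j ^ c j) ^ m * E))
        (Groth.Agent.Dix.IdealModCartier.isInvertible_idealMod h2) = dcl _ h2 := rfl
    rw [h3, dcl_mul h1 hEeff, dcl_pow hC m h1, mk_tensorPow hL, ← mul_assoc, mul_comm m N, pow_mul, ← mul_pow, e,
      ← mk_tensorPow hG m]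
    change mk P hP * dcl E hEeff = 1
    rw [hEcl, inv_mul_cancel]

end K660.KolUp
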