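import Groth.Agent.Vanish.K911.Ncd
import Groth.Agent.Divis.CartierBasic
import Groth.Agent.Divis.CartierCompl
import Groth.Agent.Divis.StalkPrime
import Groth.Agent.Ega4late.H533.DescScheme
import Groth.Agent.Divis.EffCartier

/-!
# Stalks of divisors at points of codimension one, and complements of normal crossing divisors

* `stalkIdeal_eq_maximalIdeal_of_isIntegral`, `stalkIdeal_radical_eq_maximalIdeal`: stalks of reduced effective divisors at
  points with discrete valuation rings;
* `map_maximalIdeal_eq_pow`: the ramification of a cover along a divisor whose pull-back is an `N`-th power;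
* `compl`: the complement of a family of divisors, with affine inclusion and containing the generic point.
-/

set_option autoImplicit false
universe u

open CategoryTheory CategoryTheory.Limits AlgebraicGeometry TopologicalSpace IsLocalRing

namespace K660.Ram

open Groth.Agent.Divis.CartierBasic

variable {X Y : Scheme.{u}}

/-- A nonzero proper radical ideal of a discrete valuation ring is the maximal ideal. -/
theorem eq_maximalIdeal_of_isRadical {R : Type*} [CommRing R] [IsDomain R] [IsDiscreteValuationRing R] (J : Ideal R)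
    (h0 : J ≠ ⊥) (h1 : J ≤ maximalIdeal R) (hJ : J.IsRadical) : J = maximalIdeal R := by
  refine le_antisymm h1 ?_
  obtain ⟨ϖ, hϖ⟩ := IsDiscreteValuationRing.exists_irreducible R
  obtain ⟨n, hn⟩ := IsDiscreteValuationRing.ideal_eq_span_pow_irreducible h0 hϖ
  rw [hϖ.maximalIdeal_eq, Ideal.span_le, Set.singleton_subset_iff]
  refine hJ ⟨n, ?_⟩
  rw [hn]
  exact Ideal.mem_span_singleton_self _

theorem stalkIdeal_ne_bot_of_isEff {I : X.IdealSheafData} (hI : BlowUp.IsEffCartierIdeal I) (x : X)
    [Nontrivial (X.presheaf.stalk x)] : stalkIdeal I x ≠ ⊥ := by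
  obtain ⟨g, hg, h⟩ := exists_stalkIdeal_eq_span hI x
  rw [h]
  intro h0
  rw [Ideal.span_singleton_eq_bot] at h0
  subst h0
  exact zero_ne_one ((mem_nonZeroDivisors_iff_right.1 hg 1 (mul_zero 1)).symm)

theorem stalkIdeal_eq_maximalIdeal_of_isIntegral {I : X.IdealSheafData} (hI : BlowUp.IsEffCartierIdeal I)
    [IsIntegral I.subscheme] (x : X) (hx : x ∈ I.support) [IsDomain (X.presheaf.stalk x)]
    [IsDiscreteValuationRing (X.presheaf.stalk x)] : stalkIdeal I x = maximalIdeal (X.presheaf.stalk x) := by
  have h1 := Groth.Agent.Divis.StalkPrime.isPrime_stalkIdeal I hx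
  exact eq_maximalIdeal_of_isRadical _ (stalkIdeal_ne_bot_of_isEff hI x)
    ((mem_support_iff_stalkIdeal_le I x).1 hx) h1.isRadical

theorem isRadical_stalkIdeal_radical (I : X.IdealSheafData) (x : X) : (stalkIdeal I.radical x).IsRadical := by
  obtain ⟨U, hxU⟩ := exists_affine x
  rw [stalkIdeal_eq _ U hxU, Scheme.IdealSheafData.radical_ideal]
  let := X.presheaf.algebra_section_stalk (⟨x, hxU⟩ : U.1)
  have := U.2.isLocalization_stalk ⟨x, hxU⟩
  have h := IsLocalization.map_radical (U.2.primeIdealOf ⟨x, hxU⟩).asIdeal.primeCompl (X.presheaf.stalk x)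
    (I.ideal U)
  have h2 : ((I.ideal U).radical.map (X.presheaf.germ U.1 x hxU).hom) =
      ((I.ideal U).map (X.presheaf.germ U.1 x hxU).hom).radical := h
  rw [h2]
  exact Ideal.radical_isRadical _

theorem stalkIdeal_radical_eq_maximalIdeal {I : X.IdealSheafData} (hI : BlowUp.IsEffCartierIdeal I.radical)
    (x : X) (hx : x ∈ I.support) [IsDomain (X.presheaf.stalk x)]
    [IsDiscreteValuationRing (X.presheaf.stalk x)] : stalkIdeal I.radical x = maximalIdeal (X.presheaf.stalk x) :=
  eq_maximalIdeal_of_isRadical _ (stalkIdeal_ne_bot_of_isEff hI x)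
    ((mem_support_iff_stalkIdeal_le I.radical x).1 hx) (isRadical_stalkIdeal_radical I x)

/-- The ramification of a cover along a divisor whose pull-back is an `N`-th power. -/
theorem map_maximalIdeal_eq_pow (τ : Y ⟶ X) (D : X.IdealSheafData) (hD : BlowUp.IsEffCartierIdeal D)
    [IsIntegral D.subscheme] (N : ℕ) (h : D.comap τ = (D.comap τ).radical ^ N)
    (hD' : BlowUp.IsEffCartierIdeal (D.comap τ).radical) (y : Y) (hy : y ∈ (D.comap τ).support)
    [IsDomain (X.presheaf.stalk (τ y))] [IsDiscreteValuationRing (X.presheaf.stalk (τ y))]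
    [IsDomain (Y.presheaf.stalk y)] [IsDiscreteValuationRing (Y.presheaf.stalk y)] :
    (maximalIdeal (X.presheaf.stalk (τ y))).map (τ.stalkMap y).hom = maximalIdeal (Y.presheaf.stalk y) ^ N := by
  have hx : τ y ∈ D.support := (K911.Ncd.mem_support_comap D τ y).1 hy
  have h1 := Groth.Agent.Ega4late.H533.DescScheme.stalkIdeal_comap τ D y
  rw [stalkIdeal_eq_maximalIdeal_of_isIntegral hD (τ y) hx, h, stalkIdeal_pow,
    stalkIdeal_radical_eq_maximalIdeal hD' y hy] at h1
  exact h1.symm

theorem isEff_prod {ι : Type*} (s : Finset ι) (D : ι → X.IdealSheafData)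
    (hD : ∀ i, BlowUp.IsEffCartierIdeal (D i)) : BlowUp.IsEffCartierIdeal (∏ i ∈ s, D i) := by
  classical
  induction s using Finset.induction_on with
  | empty => rw [Finset.prod_empty]; exact Groth.Agent.Divis.EffCartier.isEff_top
  | insert a s has ih =>
    rw [Finset.prod_insert has]
    exact Groth.Agent.Divis.EffCartier.isEff_mul (hD a) ih

theorem mem_support_prod {ι : Type*} (s : Finset ι) (I : ι → X.IdealSheafData) (x : X) :
    x ∈ (∏ i ∈ s, I i).support ↔ ∃ i ∈ s, x ∈ (I i).support := by
  classical
  induction s using Finset.induction_on with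
  | empty =>
    simp only [Finset.prod_empty, Scheme.IdealSheafData.one_eq_top,
      Scheme.IdealSheafData.support_top, Finset.notMem_empty, false_and, exists_false, iff_false]
    exact Set.notMem_empty x
  | insert a s ha ih =>
    rw [Finset.prod_insert ha, Scheme.IdealSheafData.support_mul, ← SetLike.mem_coe,
      TopologicalSpace.Closeds.coe_sup, Set.mem_union, SetLike.mem_coe, SetLike.mem_coe, ih]
    simp

/-- The complement of a finite family of effective Cartier divisors: affine inclusion. -/
theorem exists_compl {r : ℕ} (D : Fin r → X.IdealSheafData) (hD : ∀ i, BlowUp.IsEffCartierIdeal (D i)) :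
    ∃ V : X.Opens, IsAffineHom V.ι ∧ ∀ x, x ∈ V ↔ ∀ i, x ∉ (D i).support := by
  have h1 := isEff_prod Finset.univ D hD
  refine ⟨(∏ i, D i).support.compl, Groth.Agent.Divis.CartierCompl.isAffineHom_compl h1, fun x => ?_⟩
  have h2 := mem_support_prod Finset.univ D x
  change x ∉ (∏ i, D i).support ↔ _
  rw [h2]
  simp

/-- The generic point does not lie on an effective Cartier divisor. -/
theorem genericPoint_notMem_support [IsIntegral X] {D : X.IdealSheafData} (hD : BlowUp.IsEffCartierIdeal D) :
    genericPoint X ∉ D.support := by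
  rw [mem_support_iff_stalkIdeal_ne_top, not_not]
  have h1 := stalkIdeal_ne_bot_of_isEff hD (genericPoint X)
  let _ : Field (X.presheaf.stalk (genericPoint X)) := inferInstanceAs (Field X.functionField)
  exact (eq_bot_or_eq_top (stalkIdeal D (genericPoint X))).resolve_left h1

end K660.Ram
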