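import Groth.Agent.Vanish.K660.SubTw
import Groth.Agent.Pi1C.ZeroScheme

/-!
# Pull-back of submodules `I N` of an invertible module
-/

set_option autoImplicit false
universe u

open CategoryTheory CategoryTheory.Limits AlgebraicGeometry Opposite TopologicalSpace

namespace K660.SubTw

open Groth.Agent.Sga67.Sec Groth.Agent.Krr.H496.GenLocus Groth.Agent.Krr.H487.LocBasisPull

variable {X Y : Scheme.{u}}

theorem exists_isGen {L : X.Modules} (hL : PicF.IsInvertible L) (W : X.Opens) (x : X) (hx : x ∈ W) :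
    ∃ (U : X.affineOpens) (_ : x ∈ U.1) (_ : U.1 ≤ W) (e : Sec L U.1), IsGen e := by
  obtain ⟨U, hU, hxU, hUW, e, he⟩ := Groth.Agent.Pi1C.ZeroScheme.exists_affine_isGen hL W x hx
  exact ⟨⟨U, hU⟩, hxU, hUW, e, isGen_iff.2 he⟩

/-- A morphism which is injective on small sections is a monomorphism. -/
theorem mono_of_locally {M N : X.Modules} (φ : M ⟶ N)
    (H : ∀ (x : X) (U : X.Opens), x ∈ U → ∃ (V : X.Opens), V ≤ U ∧ x ∈ V ∧
      ∀ s : Sec M V, appS φ V s = 0 → s = 0) : Mono φ := by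
  refine Preadditive.mono_of_cancel_zero _ fun {T} g hg => ?_
  apply hom_ext_of_locally
  intro x U hx
  obtain ⟨V, hVU, hxV, hV⟩ := H x U hx
  refine ⟨V, hVU, hxV, fun s => hV _ ?_⟩
  rw [← appS_comp, hg, appS_zero]

/-- Local frames of a morphism of invertible modules with image `I N`. -/
theorem exists_frame {M N : X.Modules} (hM : PicF.IsInvertible M) (hN : PicF.IsInvertible N) {φ : M ⟶ N}
    {I : X.IdealSheafData} (h : HasIm φ I) (x : X) :
    ∃ (U : X.affineOpens) (_ : x ∈ U.1) (m : Sec M U.1) (n : Sec N U.1) (g : Γ(X, U.1)), IsGen m ∧ IsGen n ∧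
      appS φ U.1 m = g • n ∧ I.ideal U = Ideal.span {g} := by
  obtain ⟨U, G, hxU, hIG, hU⟩ := h x
  obtain ⟨U₁, hxU₁, hU₁, m, hm⟩ := exists_isGen hM U.1 x hxU
  obtain ⟨U₂, hxU₂, hU₂, n, hn⟩ := exists_isGen hN U₁.1 x hxU₁
  have hU₂U : U₂.1 ≤ U.1 := hU₂.trans hU₁
  set m' := res M hU₂ m
  have hm' : IsGen m' := hm.res hU₂
  obtain ⟨g, hg⟩ := hn.exists_smul (appS φ U₂.1 m')
  refine ⟨U₂, hxU₂, m', n, g, hm', hn, hg.symm, ?_⟩
  rw [ideal_resO I hU₂U G hIG]
  obtain ⟨e', he'⟩ := (hU U₂ hU₂U _).1 ⟨m', rfl⟩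
  obtain ⟨b, hb⟩ := hn.exists_smul e'
  obtain ⟨s, hs⟩ := (hU U₂ hU₂U (resO X hU₂U G • n)).2 ⟨n, rfl⟩
  obtain ⟨a, ha⟩ := hm'.exists_smul s
  apply le_antisymm
  · rw [Ideal.span_singleton_le_span_singleton]
    refine ⟨a, hn.smul_injective ?_⟩
    rw [← hs, ← ha, map_smul, ← hg, ← mul_smul, mul_comm]
  · rw [Ideal.span_singleton_le_span_singleton]
    refine ⟨b, hn.smul_injective ?_⟩
    rw [hg, he', ← hb, ← mul_smul]

theorem mem_nonZeroDivisors_of_span_eq {R : Type*} [CommRing R] {f g : R} (hf : f ∈ nonZeroDivisors R)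
    (h : Ideal.span {f} = Ideal.span {g}) : g ∈ nonZeroDivisors R := by
  have h1 : f ∈ Ideal.span {g} := by rw [← h]; exact Ideal.mem_span_singleton_self _
  obtain ⟨u, hu⟩ := Ideal.mem_span_singleton.1 h1
  rw [mem_nonZeroDivisors_iff_right] at hf ⊢
  intro a ha
  refine hf a ?_
  rw [hu, ← mul_assoc, ha, zero_mul]

theorem pullback_aux (π : Y ⟶ X) {M N : X.Modules} (hM : PicF.IsInvertible M) (hN : PicF.IsInvertible N)
    {φ : M ⟶ N} {I : X.IdealSheafData} (h : HasIm φ I) (hI' : BlowUp.IsEffCartierIdeal (I.comap π)) (y : Y) :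
    ∃ (V : Y.affineOpens) (_ : y ∈ V.1) (m : Sec ((Scheme.Modules.pullback π).obj M) V.1)
      (n : Sec ((Scheme.Modules.pullback π).obj N) V.1) (g : Γ(Y, V.1)), IsGen m ∧ IsGen n ∧
      appS ((Scheme.Modules.pullback π).map φ) V.1 m = g • n ∧ (I.comap π).ideal V = Ideal.span {g} ∧
      g ∈ nonZeroDivisors Γ(Y, V.1) := by
  obtain ⟨U, hxU, m, n, g, hm, hn, hg, hI⟩ := exists_frame hM hN h (π y)
  obtain ⟨U₀, hyU₀, t, ht, hIt⟩ := hI' y
  obtain ⟨V, hyV, hV⟩ := exists_affine_le y (π ⁻¹ᵁ U.1 ⊓ U₀.1) ⟨hxU, hyU₀⟩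
  have hVU : V.1 ≤ π ⁻¹ᵁ U.1 := hV.trans inf_le_left
  have hVU₀ : V.1 ≤ U₀.1 := hV.trans inf_le_right
  have hideal : (I.comap π).ideal V = Ideal.span {resO Y hVU (π.app U.1 g)} := by
    rw [Groth.Agent.Divis.IdealComap.ideal_comap _ π U V hVU, hI, Ideal.map_span, Set.image_singleton]
    rfl
  refine ⟨V, hyV, res _ hVU (pbS π M m), res _ hVU (pbS π N n), resO Y hVU (π.app U.1 g),
    IsGen.res (isGen_pbS π hm) hVU, IsGen.res (isGen_pbS π hn) hVU, ?_, hideal, ?_⟩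
  · rw [appS_res, appS_pbS, hg, pbS_smul, res_smul]
  · refine mem_nonZeroDivisors_of_span_eq ?_ ((ideal_resO _ hVU₀ t hIt).symm.trans hideal)
    exact Groth.Agent.Divis.EffCartier.res_mem_nonZeroDivisors U₀.2 V.2 hVU₀ ht

theorem resO_mem_nonZeroDivisors {V W : Y.affineOpens} (h : W.1 ≤ V.1) {g : Γ(Y, V.1)}
    (hg : g ∈ nonZeroDivisors Γ(Y, V.1)) : resO Y h g ∈ nonZeroDivisors Γ(Y, W.1) :=
  Groth.Agent.Divis.EffCartier.res_mem_nonZeroDivisors V.2 W.2 h hg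

theorem hasIm_pullback (π : Y ⟶ X) {M N : X.Modules} (hM : PicF.IsInvertible M) (hN : PicF.IsInvertible N)
    {φ : M ⟶ N} {I : X.IdealSheafData} (h : HasIm φ I) (hI' : BlowUp.IsEffCartierIdeal (I.comap π)) :
    HasIm ((Scheme.Modules.pullback π).map φ) (I.comap π) := by
  intro y
  obtain ⟨V, hyV, m, n, g, hm, hn, hg, hIg, -⟩ := pullback_aux π hM hN h hI' y
  refine ⟨V, g, hyV, hIg, fun W hW e => ?_⟩
  have hg' : appS ((Scheme.Modules.pullback π).map φ) W.1 (res _ hW m) = resO Y hW g • res _ hW n := by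
    rw [appS_res, hg, res_smul]
  constructor
  · rintro ⟨s, rfl⟩
    obtain ⟨a, rfl⟩ := (hm.res hW).exists_smul s
    refine ⟨a • res _ hW n, ?_⟩
    rw [map_smul, hg', smul_comm]
  · rintro ⟨e', rfl⟩
    obtain ⟨a, rfl⟩ := (hn.res hW).exists_smul e'
    refine ⟨a • res _ hW m, ?_⟩
    rw [map_smul, hg', smul_comm]

theorem mono_pullback (π : Y ⟶ X) {M N : X.Modules} (hM : PicF.IsInvertible M) (hN : PicF.IsInvertible N)
    {φ : M ⟶ N} {I : X.IdealSheafData} (h : HasIm φ I) (hI' : BlowUp.IsEffCartierIdeal (I.comap π)) :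
    Mono ((Scheme.Modules.pullback π).map φ) := by
  apply mono_of_locally
  intro y O hyO
  obtain ⟨V, hyV, m, n, g, hm, hn, hg, hIg, hgz⟩ := pullback_aux π hM hN h hI' y
  obtain ⟨W, hyW, hW⟩ := exists_affine_le y (V.1 ⊓ O) ⟨hyV, hyO⟩
  have hWV : W.1 ≤ V.1 := hW.trans inf_le_left
  refine ⟨W.1, hW.trans inf_le_right, hyW, fun s hs => ?_⟩
  obtain ⟨a, rfl⟩ := (hm.res hWV).exists_smul s
  rw [map_smul, appS_res, hg, res_smul, ← mul_smul] at hs
  have h0 : a * resO Y hWV g = 0 := (hn.res hWV).smul_injective (hs.trans (zero_smul _ _).symm)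
  have h1 := resO_mem_nonZeroDivisors hWV hgz
  have h2 : a = 0 := (mem_nonZeroDivisors_iff_right.1 h1) a h0
  rw [h2, zero_smul]

/-- Pull-back of `Linv ⊗ I ⟶ Linv`. -/
theorem exists_iso_pullback_inclTwist (π : Y ⟶ X) {E : X.Modules} (hE : PicF.IsInvertible E)
    {I : X.IdealSheafData} (hI : BlowUp.IsEffCartierIdeal I) (hIm : PicF.IsInvertible (CohB1.tensorMod E (ClSub.idealMod I)))
    (hI' : BlowUp.IsEffCartierIdeal (I.comap π)) (hEf : FlatMod.IsFinLocFree E)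
    (hEf' : FlatMod.IsFinLocFree ((Scheme.Modules.pullback π).obj E)) :
    ∃ e : (Scheme.Modules.pullback π).obj (CohB1.tensorMod E (ClSub.idealMod I)) ≅
        CohB1.tensorMod ((Scheme.Modules.pullback π).obj E) (ClSub.idealMod (I.comap π)),
      e.hom ≫ LogNCD.inclTwist ((Scheme.Modules.pullback π).obj E) (I.comap π) =
        (Scheme.Modules.pullback π).map (LogNCD.inclTwist E I) := by
  have h1 := hasIm_inclTwist hEf hI
  have h2 := mono_pullback π hIm hE h1 hI'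
  have h3 := K913.TauAff.mono_inclTwist (I.comap π) hEf'
  exact exists_iso (hasIm_pullback π hIm hE h1 hI') (hasIm_inclTwist hEf' hI')

end K660.SubTw
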