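import Groth.Agent.Vanish.K909.AltInterface
import Groth.Agent.Vanish.K660.KolUp
import Groth.Agent.Vanish.K660.SubTwPull
import Groth.Agent.Vanish.K660.Ram
import Groth.Agent.S1659

/-!
# Kollár's surjectivity from alterations

`kol`: `k` algebraically closed of characteristic zero; given strict normal crossing alterations (`Alt k`), descent of
surjectivity along alterations (`Desc k`) and S17103 (`EV k`): let `X` be a projective manifold, `L` invertible, `I`, `C`
effective Cartier with `supp I ⊆ supp C`, and suppose that for arbitrarily large `N` the module `L^N(-C)` is semi-ample.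
Then `H^b(L⁻¹ ⊗ I) → H^b(L⁻¹)` is surjective for all `b`.
-/

set_option autoImplicit false
universe u

open CategoryTheory CategoryTheory.Limits AlgebraicGeometry Opposite TopologicalSpace

namespace K660.Kol

open Groth.Agent.Grpsch.PicGrp Groth.Agent.Fga.JacFactor Groth.Agent.Divis.EffCartier Groth.Agent.Fdesc.LocGen
open K909.AltInterface KolUp

section prelim

variable {X Y : Scheme.{u}}

theorem isFinLocFree_of_isInvertible {L : X.Modules} (hL : PicF.IsInvertible L) :
    FlatMod.IsFinLocFree L := by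
  intro x
  obtain ⟨U, hx, ⟨e⟩⟩ := hL x
  exact ⟨U, 1, hx, ⟨e ≪≫ (coproductUniqueIso
    (fun _ : Fin 1 => Coh.structureModule (U : Scheme.{u}))).symm⟩⟩

theorem isEff_comap_of_generic [IsIntegral Y] (f : Y ⟶ X) {D : X.IdealSheafData}
    (hD : BlowUp.IsEffCartierIdeal D) (h : f (genericPoint Y) ∉ D.support) :
    BlowUp.IsEffCartierIdeal (D.comap f) := by
  intro y
  obtain ⟨U, hyU, a, ha, hIa⟩ := hD (f y)
  obtain ⟨V, hyV, hV⟩ := SubTw.exists_affine_le y (f ⁻¹ᵁ U.1) hyU
  have hI : (D.comap f).ideal V = Ideal.span {f.appLE U.1 V.1 hV a} := by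
    rw [Groth.Agent.Divis.IdealComap.ideal_comap D f U V hV, hIa, Ideal.map_span, Set.image_singleton]
  refine ⟨V, hyV, f.appLE U.1 V.1 hV a, ?_, hI⟩
  have hne : Nonempty V.1 := ⟨⟨y, hyV⟩⟩
  have hV : genericPoint Y ∈ V.1 :=
    ((genericPoint_spec Y).mem_open_set_iff V.1.isOpen).2 ⟨y, trivial, hyV⟩
  rw [mem_nonZeroDivisors_iff_ne_zero]
  intro h0
  apply h
  have h1 : genericPoint Y ∈ (D.comap f).support := by
    rw [Scheme.IdealSheafData.mem_support_iff_of_mem hV, hI, h0]
    simp
  rw [Scheme.IdealSheafData.support_comap] at h1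
  exact h1

theorem mem_support_of_pow {J : X.IdealSheafData} {n : ℕ} {x : X} (h : x ∈ (J ^ n).support) : x ∈ J.support := by
  induction n with
  | zero =>
    rw [pow_zero, Scheme.IdealSheafData.one_eq_top, Scheme.IdealSheafData.support_top] at h
    exact h.elim
  | succ n ih =>
    rw [pow_succ, Scheme.IdealSheafData.support_mul, ← SetLike.mem_coe, TopologicalSpace.Closeds.coe_sup,
      Set.mem_union, SetLike.mem_coe, SetLike.mem_coe] at h
    exact h.elim ih id

/-- A subfamily of a normal crossing family is normal crossing. -/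
theorem isNCD_comp {S : Scheme.{u}} {f : X ⟶ S} {r r' : ℕ} {D : Fin r → X.IdealSheafData} (hD : LogNCD.IsNCD D f)
    (σ : Fin r' → Fin r) (hσ : Function.Injective σ) : LogNCD.IsNCD (fun j => D (σ j)) f := by
  intro x hx
  let s : LogNCD.Through (fun j => D (σ j)) x → LogNCD.Through D x := fun i => ⟨σ i.1, i.2⟩
  obtain ⟨W, hxW, n, v, e, he, het, hv, hv'⟩ := hD x (hx.map s)
  refine ⟨W, hxW, n, v, e ∘ s, he.comp ?_, het, fun i U hU => hv (s i) U hU, fun i hi U hU => hv' (σ i) hi U hU⟩
  intro i i' h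
  exact Subtype.ext (hσ (congrArg Subtype.val h))

/-- Decomposition with positive multiplicities. -/
theorem exists_eq_prod_pos [IsNoetherian X] {r : ℕ} (D : Fin r → X.IdealSheafData)
    (hD : ∀ i, BlowUp.IsEffCartierIdeal (D i)) (hint : ∀ i, IsIntegral (D i).subscheme) (C : X.IdealSheafData)
    (hC : BlowUp.IsEffCartierIdeal C) (hsub : ∀ x ∈ C.support, ∃ i, x ∈ (D i).support) :
    ∃ (r' : ℕ) (σ : Fin r' → Fin r) (c : Fin r' → ℕ), Function.Injective σ ∧ (∀ j, 0 < c j) ∧
      C = ∏ j, D (σ j) ^ c j := by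
  classical
  obtain ⟨a, ha⟩ := Groth.Agent.S1659.result X C hC r D hD hint
    (fun x hx => Set.mem_iUnion.2 (hsub x hx))
  let J : Finset (Fin r) := Finset.univ.filter fun j => a j ≠ 0
  let e := J.equivFin
  refine ⟨J.card, fun j => (e.symm j).1, fun j => a (e.symm j).1, ?_, ?_, ?_⟩
  · intro i j h
    exact e.symm.injective (Subtype.ext h)
  · intro j
    exact Nat.pos_of_ne_zero (Finset.mem_filter.1 (e.symm j).2).2
  · rw [ha]
    rw [Equiv.prod_comp e.symm (fun j : J => D j.1 ^ a j.1)]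
    rw [Finset.prod_coe_sort J (fun j => D j ^ a j)]
    symm
    apply Finset.prod_subset (Finset.filter_subset _ _)
    intro j _ hj
    have : a j = 0 := by
      by_contra h
      exact hj (Finset.mem_filter.2 ⟨Finset.mem_univ _, h⟩)
    rw [this, pow_zero]

end prelim

theorem kol {k : Type u} [Field k] [IsAlgClosed k] [CharZero k] (hAlt : Alt k) (hDesc : Desc k) (hEV : EV k)
    {X : Scheme.{u}} (f : X ⟶ Spec (CommRingCat.of k)) [IsIntegral X] [IsProper f] [Smooth f] (n : ℕ)
    (hn : topologicalKrullDim X = n) (A : X.Modules) (hA : CohB1.IsAmple A) {L Linv : X.Modules}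
    (hL : PicF.IsInvertible L) (hLinv : ClSub.IsInverseOf Linv L) (C I : X.IdealSheafData)
    (hC : BlowUp.IsEffCartierIdeal C) (hI : BlowUp.IsEffCartierIdeal I) (hIC : ∀ x ∈ I.support, x ∈ C.support)
    (h : ∀ N₀ : ℕ, ∃ N, N₀ ≤ N ∧ ∃ (G : X.Modules) (hG : PicF.IsInvertible G) (m : ℕ), 1 ≤ m ∧
      Curv2.IsGloballyGenerated (CohB1.tensorPow G m) ∧ mk L hL ^ N * dcl C hC = mk G hG) (b : ℕ) :
    Surj (LogNCD.inclTwist Linv I) b := by
  have hLi : PicF.IsInvertible Linv := (Groth.Agent.Dix.IdealModCartier.isInvertible_of_isInverseOf hLinv).1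
  have hηC : genericPoint X ∉ C.support := Ram.genericPoint_notMem_support hC
  obtain ⟨X₁, π, A₁, r, D, hX₁, hsm, hπ, hπs, hdim, hA₁, hNCD, hDint, hcov⟩ := hAlt X f A hA (C.support : Set X)
    C.support.isClosed (fun h => hηC (by
      have : genericPoint X ∈ (C.support : Set X) := by rw [h]; trivial
      exact this))
  have hπη : π (genericPoint X₁) = genericPoint X := by
    obtain ⟨x, hx⟩ := π.surjective (genericPoint X)
    have h1 : π (genericPoint X₁) ⤳ genericPoint X := by
      rw [← hx]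
      exact ((genericPoint_spec X₁).specializes trivial).map π.continuous
    exact (h1.antisymm ((genericPoint_spec X).specializes trivial)).eq
  have hηI : genericPoint X ∉ I.support := fun h => hηC (hIC _ h)
  have hC₁ : BlowUp.IsEffCartierIdeal (C.comap π) := isEff_comap_of_generic π hC (by rw [hπη]; exact hηC)
  have hI₁ : BlowUp.IsEffCartierIdeal (I.comap π) := isEff_comap_of_generic π hI (by rw [hπη]; exact hηI)
  have hX₁p : IsProper (π ≫ f) := inferInstance
  have hX₁c : CompactSpace X₁ := hA₁.2.1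
  have hX₁n : IsLocallyNoetherian X₁ := LocallyOfFiniteType.isLocallyNoetherian (π ≫ f)
  have hX₁N : IsNoetherian X₁ := {}
  have hDeff := K911.Ncd.isEff_of_isNCD hNCD
  obtain ⟨r', σ, c, hσ, hc, hCc⟩ := exists_eq_prod_pos D hDeff hDint (C.comap π) hC₁ (fun x hx =>
    hcov x ((K911.Ncd.mem_support_comap C π x).1 hx))
  obtain ⟨μ, hμ⟩ := Groth.Agent.S1659.result X₁ (I.comap π) hI₁ r' (fun j => D (σ j)) (fun j => hDeff _)
    (fun j => hDint _) (by
      intro x hx
      have h1 : x ∈ (C.comap π).support :=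
        (K911.Ncd.mem_support_comap C π x).2 (hIC _ ((K911.Ncd.mem_support_comap I π x).1 hx))
      rw [hCc, Ram.mem_support_prod] at h1
      obtain ⟨j, -, hj⟩ := h1
      exact Set.mem_iUnion.2 ⟨j, mem_support_of_pow hj⟩)
  obtain ⟨N, hN, G, hG, m, hm, hgg, e⟩ := h (∑ j, c j + 2)
  have hcN : ∀ j, c j < N := fun j => by
    have := Finset.single_le_sum (f := c) (fun i _ => Nat.zero_le _) (Finset.mem_univ j)
    omega
  -- the pull-backs
  have hLπ := isInvertible_pullback π hL
  have hLiπ := isInvertible_pullback π hLi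
  have hGπ := isInvertible_pullback π hG
  have hggπ : Curv2.IsGloballyGenerated (CohB1.tensorPow ((Scheme.Modules.pullback π).obj G) m) := by
    have h1 := Groth.Agent.VarietyB.GGStalk.isGloballyGenerated_pullback π _ hgg
    have h2 : mk _ (isInvertible_pullback π (isInvertible_tensorPow hG m)) =
        mk _ (isInvertible_tensorPow hGπ m) := by
      rw [← pull_mk π (isInvertible_tensorPow hG m), mk_tensorPow hG, mk_tensorPow hGπ, ← pull_mk π hG, map_pow]
    obtain ⟨i⟩ := (mk_eq_iff _ _).1 h2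
    obtain ⟨J, p, hp⟩ := h1
    exact ⟨J, p ≫ i.hom, inferInstance⟩
  have hLinvπ : ClSub.IsInverseOf ((Scheme.Modules.pullback π).obj Linv) ((Scheme.Modules.pullback π).obj L) := by
    rw [isInverseOf_iff hLiπ hLπ, ← pull_mk π hLi, ← pull_mk π hL, ← map_mul, (isInverseOf_iff hLi hL).1 hLinv, map_one]
  have hCc' : BlowUp.IsEffCartierIdeal (∏ j, D (σ j) ^ c j) := hCc ▸ hC₁
  have hdcl : dcl (∏ j, D (σ j) ^ c j) hCc' = dcl (C.comap π) hC₁ := by
    congr 1
    exact hCc.symm
  have up := upstairs hEV (π ≫ f) n (hdim.trans hn) A₁ hA₁ hLπ hLinvπ (fun j => D (σ j)) (isNCD_comp hNCD σ hσ) c μ hc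
    hGπ m N hm hggπ (by omega) hcN hCc' (by
      rw [hdcl, ← pull_dcl π hC hC₁, ← pull_mk π hL, ← pull_mk π hG, ← map_pow, ← map_mul, e]) b
  rw [← hμ] at up
  -- descent
  have hIinv := Groth.Agent.Dix.IdealModCartier.isInvertible_idealMod hI
  have hM : PicF.IsInvertible (CohB1.tensorMod Linv (ClSub.idealMod I)) := isInvertible_tensorMod hLi hIinv
  obtain ⟨e₁, he₁⟩ := SubTw.exists_iso_pullback_inclTwist π hLi hI hM hI₁
    (isFinLocFree_of_isInvertible hLi)
    (isFinLocFree_of_isInvertible hLiπ)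
  have down := (hDesc X X₁ f π hdim ⟨A, hA⟩ ⟨A₁, hA₁⟩).1 _ _ (LogNCD.inclTwist Linv I) b hM hLi
  refine down (Surj.of_iso e₁ (Iso.refl _) ?_ up)
  rw [he₁]
  exact Category.comp_id _

end K660.Kol
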