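import Groth.Agent.Vanish.K660.Kol
import Groth.Agent.PosLin.K931.Basic
import Groth.Agent.PosLin.K931.Eff
import Groth.Agent.VarietyB.GlobGen
import Groth.Agent.AdjLin.K802.GoodPoint
import Groth.Agent.S2328
import Groth.Agent.S2329

/-!
# Kollár's surjectivity for semi-ample modules

Calculus of globally generated and semi-ample classes; `semi` = S16893 modulo `Alt`, `Desc`, `EV`.
-/

set_option autoImplicit false
universe u

open CategoryTheory CategoryTheory.Limits AlgebraicGeometry Opposite TopologicalSpace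

namespace K660.Semi

open Groth.Agent.Grpsch.PicGrp Groth.Agent.Fga.JacFactor Groth.Agent.Divis.EffCartier Groth.Agent.Fdesc.LocGen
open Groth.Agent.VarietyB.GenLocusTensor (exists_mem_genLocus genLocus_id)
open K909.AltInterface KolUp K931.Eff

section cls

variable {X : Scheme.{u}}

/-- The class of a globally generated invertible module. -/
def GGc (c : Pic X) : Prop := ∃ (L : X.Modules) (hL : PicF.IsInvertible L), c = mk L hL ∧ Curv2.IsGloballyGenerated L

theorem gg_of_iso {L L' : X.Modules} (e : L ≅ L') (h : Curv2.IsGloballyGenerated L) :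
    Curv2.IsGloballyGenerated L' := by
  obtain ⟨J, p, hp⟩ := h
  exact ⟨J, p ≫ e.hom, inferInstance⟩

theorem ggc_mk {L : X.Modules} (hL : PicF.IsInvertible L) : GGc (mk L hL) ↔ Curv2.IsGloballyGenerated L := by
  constructor
  · rintro ⟨M, hM, h, hg⟩
    obtain ⟨e⟩ := (mk_eq_iff hL hM).mp h
    exact gg_of_iso e.symm hg
  · exact fun h => ⟨L, hL, rfl, h⟩

theorem gg_of_sections {L : X.Modules} (h : ∀ x : X, ∃ s : Coh.structureModule X ⟶ L, x ∈ CohB1.genLocus L s) :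
    Curv2.IsGloballyGenerated L := by
  choose s hs using h
  exact Groth.Agent.VarietyB.GlobGen.isGloballyGenerated_of_cover s fun x => ⟨x, hs x⟩

theorem GGc.mul {c d : Pic X} (hc : GGc c) (hd : GGc d) : GGc (c * d) := by
  obtain ⟨L, hL, rfl, hg⟩ := hc
  obtain ⟨M, hM, rfl, hg'⟩ := hd
  rw [mk_mul_mk, ggc_mk]
  refine gg_of_sections fun x => ?_
  obtain ⟨s, hs⟩ := exists_mem_genLocus hL hg x
  obtain ⟨t, ht⟩ := exists_mem_genLocus hM hg' x
  exact ⟨tmulHom s t, by rw [genLocus_tmulHom hL hM]; exact ⟨hs, ht⟩⟩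

theorem GGc.one : GGc (1 : Pic X) := by
  rw [one_def, ggc_mk]
  exact gg_of_sections fun x => ⟨𝟙 _, by rw [genLocus_id]; trivial⟩

theorem GGc.pow {c : Pic X} (hc : GGc c) (n : ℕ) : GGc (c ^ n) := by
  induction n with
  | zero => rw [pow_zero]; exact GGc.one
  | succ n ih => rw [pow_succ]; exact ih.mul hc

/-- Semi-ample classes. -/
def SA (c : Pic X) : Prop := ∃ m : ℕ, 0 < m ∧ GGc (c ^ m)

theorem SA.mul {c d : Pic X} (hc : SA c) (hd : SA d) : SA (c * d) := by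
  obtain ⟨m, hm, h⟩ := hc
  obtain ⟨l, hl, h'⟩ := hd
  refine ⟨m * l, Nat.mul_pos hm hl, ?_⟩
  rw [mul_pow, pow_mul, mul_comm m l, pow_mul d]
  exact (h.pow l).mul (h'.pow m)

theorem SA.one : SA (1 : Pic X) := ⟨1, one_pos, by rw [pow_one]; exact GGc.one⟩

theorem SA.pow {c : Pic X} (hc : SA c) (n : ℕ) : SA (c ^ n) := by
  induction n with
  | zero => rw [pow_zero]; exact SA.one
  | succ n ih => rw [pow_succ]; exact ih.mul hc

theorem sa_mk {L : X.Modules} (hL : PicF.IsInvertible L) :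
    SA (mk L hL) ↔ ∃ m : ℕ, 0 < m ∧ Curv2.IsGloballyGenerated (CohB1.tensorPow L m) := by
  constructor
  · rintro ⟨m, hm, h⟩
    refine ⟨m, hm, ?_⟩
    rwa [← mk_tensorPow, ggc_mk] at h
  · rintro ⟨m, hm, h⟩
    refine ⟨m, hm, ?_⟩
    rwa [← mk_tensorPow, ggc_mk]

theorem SA.exists_rep {c : Pic X} (h : SA c) : ∃ (G : X.Modules) (hG : PicF.IsInvertible G) (m : ℕ), 1 ≤ m ∧
    Curv2.IsGloballyGenerated (CohB1.tensorPow G m) ∧ c = mk G hG := by
  induction c using Groth.Agent.Grpsch.PicGrp.ind with | _ L hL => ?_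
  obtain ⟨m, hm, hg⟩ := (sa_mk hL).1 h
  exact ⟨L, hL, m, hm, hg, rfl⟩

section ample

variable [CompactSpace X] [X.IsSeparated]

theorem Amp.eventually_ggc {c : Pic X} (h : Amp c) (d : Pic X) :
    ∃ n₀ : ℕ, 0 < n₀ ∧ ∀ n, n₀ ≤ n → GGc (c ^ n * d) := by
  induction c using Groth.Agent.Grpsch.PicGrp.ind with | _ L hL => ?_
  induction d using Groth.Agent.Grpsch.PicGrp.ind with | _ M hM => ?_
  obtain ⟨n₀, h0, hn⟩ := Groth.Agent.S2329.result X L M ((amp_mk hL).mp h) hM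
  refine ⟨n₀, h0, fun n hle => ?_⟩
  rw [← mk_tensorPow, mk_mul_mk, ggc_mk]
  exact (hn n hle).2

/-- Ample is semi-ample. -/
theorem Amp.sa {c : Pic X} (h : Amp c) : SA c := by
  obtain ⟨n₀, h0, hn⟩ := Amp.eventually_ggc h 1
  refine ⟨n₀, h0, ?_⟩
  have := hn n₀ le_rfl
  rwa [mul_one] at this

/-- Ample times semi-ample is ample. -/
theorem Amp.mul_sa {c d : Pic X} (h : Amp c) (h' : SA d) : Amp (c * d) := by
  induction c using Groth.Agent.Grpsch.PicGrp.ind with | _ L hL => ?_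
  induction d using Groth.Agent.Grpsch.PicGrp.ind with | _ M hM => ?_
  obtain ⟨m, hm, hg⟩ := (sa_mk hM).1 h'
  rw [mk_mul_mk, amp_mk]
  refine Groth.Agent.S2328.result X L M ((amp_mk hL).mp h) hM fun x => ?_
  obtain ⟨s, hs⟩ := exists_mem_genLocus (isInvertible_tensorPow hM m) hg x
  obtain ⟨l, rfl⟩ : ∃ l, m = l + 1 := ⟨m - 1, by omega⟩
  exact ⟨l, s, hs⟩

end ample

/-- The divisor of a nonzero section. -/
theorem Eff.exists_div [AlgebraicGeometry.IsIntegral X] {c : Pic X} (h : Eff c) :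
    ∃ (D : X.IdealSheafData) (hD : BlowUp.IsEffCartierIdeal D), dcl D hD = c⁻¹ := by
  obtain ⟨L, hL, rfl, s, hs⟩ := h
  refine ⟨PicF2.zeroScheme L s, K513.Theta1.isEffCartierIdeal_zeroScheme hL s hs, ?_⟩
  rw [Groth.Agent.Fga.ZeroClass.mk_eq_inv_dcl hL (Groth.Agent.Fdesc.LocGen.sec s ⊤)
    (K513.Theta1.isZeroIdeal_zeroScheme hL s) (K513.Theta1.isEffCartierIdeal_zeroScheme hL s hs), inv_inv]

end cls

section main

variable {k : Type u} [Field k] [IsAlgClosed k] [CharZero k] {X : Scheme.{u}}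
  (f : X ⟶ Spec (CommRingCat.of k)) [AlgebraicGeometry.IsIntegral X] [IsProper f] [Smooth f] (n : ℕ)
  (hn : topologicalKrullDim X = n) (A : X.Modules) (hA : CohB1.IsAmple A) {L Linv : X.Modules}
  (hL : PicF.IsInvertible L) (hLinv : ClSub.IsInverseOf Linv L)

include f hn hA hLinv in
/-- `kol` in terms of classes. -/
theorem kolc (hAlt : Alt k) (hDesc : Desc k) (hEV : EV k) (C I : X.IdealSheafData)
    (hC : BlowUp.IsEffCartierIdeal C) (hI : BlowUp.IsEffCartierIdeal I) (hIC : ∀ x ∈ I.support, x ∈ C.support)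
    (h : ∀ N₀ : ℕ, ∃ N, N₀ ≤ N ∧ SA (mk L hL ^ N * dcl C hC)) (b : ℕ) :
    Surj (LogNCD.inclTwist Linv I) b := by
  refine Kol.kol hAlt hDesc hEV f n hn A hA hL hLinv C I hC hI hIC (fun N₀ => ?_) b
  obtain ⟨N, hN, h⟩ := h N₀
  obtain ⟨G, hG, m, hm, hgg, e⟩ := h.exists_rep
  exact ⟨N, hN, G, hG, m, hm, hgg, e⟩

omit [AlgebraicGeometry.IsIntegral X] in
theorem mem_support_mul {I J : X.IdealSheafData} {x : X} (h : x ∈ I.support) : x ∈ (I * J).support := by
  rw [Scheme.IdealSheafData.support_mul, ← SetLike.mem_coe, TopologicalSpace.Closeds.coe_sup]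
  exact Or.inl h

include f hn hA hLinv in
/-- Kollár's surjectivity for semi-ample `L`, modulo `Alt`, `Desc`, `EV`. -/
theorem semi (hAlt : Alt k) (hDesc : Desc k) (hEV : EV k) (hsa : SA (mk L hL)) (I : X.IdealSheafData)
    (hI : BlowUp.IsEffCartierIdeal I) (ν : ℕ) (hsec : Eff (mk L hL ^ ν * dcl I hI)) (b : ℕ) :
    Surj (LogNCD.inclTwist Linv I) b := by
  obtain ⟨D, hD, hd⟩ := Eff.exists_div hsec
  refine kolc f n hn A hA hL hLinv hAlt hDesc hEV (I * D) I (isEff_mul hI hD) hI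
    (fun x hx => mem_support_mul hx) (fun N₀ => ⟨ν + N₀, by omega, ?_⟩) b
  have : mk L hL ^ (ν + N₀) * dcl (I * D) (isEff_mul hI hD) = mk L hL ^ N₀ := by
    rw [dcl_mul hI hD, hd, mul_inv, pow_add]
    rw [show mk L hL ^ ν * mk L hL ^ N₀ * (dcl I hI * ((mk L hL ^ ν)⁻¹ * (dcl I hI)⁻¹)) =
      mk L hL ^ N₀ * (mk L hL ^ ν * (mk L hL ^ ν)⁻¹) * (dcl I hI * (dcl I hI)⁻¹) by
        simp only [mul_comm, mul_left_comm, mul_assoc]]
    rw [mul_inv_cancel, mul_inv_cancel, mul_one, mul_one]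
  rw [this]
  exact hsa.pow N₀

end main

end K660.Semi
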