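import Groth.Agent.Vanish.K660.Van
import Groth.Prelude.Def_Pic13
import Groth.Prelude.Def_FGA

/-!
# The rows S16892, S16893 modulo `Alt`, `Desc`, `EV`
-/

set_option autoImplicit false
universe u

open CategoryTheory CategoryTheory.Limits AlgebraicGeometry Opposite TopologicalSpace

namespace K660.Rows

open Groth.Agent Groth.Agent.Grpsch.PicGrp Groth.Agent.Fga.JacFactor Groth.Agent.Divis.EffCartier
open Groth.Agent.Fdesc.LocGen
open K909.AltInterface KolUp K931.Eff Semi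

theorem row16893 (k : Type u) [Field k] [IsAlgClosed k] [CharZero k] (hAlt : Alt k) (hDesc : Desc k) (hEV : EV k)
    (X : Scheme.{u}) [X.Over (Spec (CommRingCat.of k))] [IsProper (X ↘ Spec (CommRingCat.of k))]
    [Smooth (X ↘ Spec (CommRingCat.of k))] [IrreducibleSpace X] (n : ℕ) (hn : topologicalKrullDim X = n)
    (H : X.Modules) (hH : CohB1.IsAmple H)
    (L Linv : X.Modules) (hL : PicF.IsInvertible L) (hLinv : ClSub.IsInverseOf Linv L)
    (hsa : ∃ μ : ℕ, 0 < μ ∧ Curv2.IsGloballyGenerated (CohB1.tensorPow L μ))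
    (I : X.IdealSheafData) (hI : PicF.IsInvertible (ClSub.idealMod I))
    (hsec : ∃ ν : ℕ, 0 < ν ∧ Nontrivial (Coh.HH X (CohB1.tensorMod (CohB1.tensorPow L ν) (ClSub.idealMod I)) 0))
    (b : ℕ) :
    Function.Surjective (Sheaf.H.map ((SheafOfModules.toSheaf X.ringCatSheaf).map
      (KoszTw.tensorMap (𝟙 Linv) (ClSub.idealModι I) ≫ (SecTwist.unitorR Linv).hom)) b) := by
  have hX : IsIntegral X := K802.GoodPoint.isIntegral_of_smooth (X ↘ Spec (CommRingCat.of k))
  obtain ⟨ν, -, hν⟩ := hsec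
  have hIe := Dix.IdealModCartier.isEffCartierIdeal_of_isInvertible hI
  refine semi (X ↘ Spec (CommRingCat.of k)) n hn H hH hL hLinv hAlt hDesc hEV ((sa_mk hL).2 hsa) I hIe ν ?_ b
  rw [K931.Basic.nontrivial_H0_iff, ← eff_mk (isInvertible_tensorMod (isInvertible_tensorPow hL ν) hI),
    ← mk_mul_mk (isInvertible_tensorPow hL ν) hI, mk_tensorPow hL] at hν
  exact hν

theorem eff_of_mono {X : Scheme.{u}} [IsIntegral X] {L : X.Modules} (hL : PicF.IsInvertible L) {ν : ℕ}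
    {A : X.Modules} (hA : PicF.IsInvertible A) (φ : A ⟶ CohB1.tensorPow L ν) [Mono φ] :
    Eff (mk L hL ^ ν / mk A hA) := by
  rw [← mk_tensorPow hL, ← exists_mono_iff]
  exact ⟨φ, ‹_›⟩

theorem row16892 (k : Type u) [Field k] [IsAlgClosed k] [CharZero k] (hAlt : Alt k) (hDesc : Desc k) (hEV : EV k)
    (X : Scheme.{u}) [X.Over (Spec (CommRingCat.of k))] [IsProper (X ↘ Spec (CommRingCat.of k))]
    [Smooth (X ↘ Spec (CommRingCat.of k))] [IrreducibleSpace X] (n : ℕ) (hn : topologicalKrullDim X = n)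
    (L Linv : X.Modules) (hL : PicF.IsInvertible L) (hLinv : ClSub.IsInverseOf Linv L)
    (hsa : ∃ μ : ℕ, 0 < μ ∧ Curv2.IsGloballyGenerated (CohB1.tensorPow L μ))
    (hbig : ∃ (ν : ℕ) (A : X.Modules) (φ : A ⟶ CohB1.tensorPow L ν), 0 < ν ∧ CohB1.IsAmple A ∧ Mono φ)
    (b : ℕ) (hb : b < n) :
    Subsingleton (Coh.HH X Linv b) := by
  have hX : IsIntegral X := K802.GoodPoint.isIntegral_of_smooth (X ↘ Spec (CommRingCat.of k))
  obtain ⟨ν, A, φ, -, hA, hφ⟩ := hbig
  have hcomp : CompactSpace X := hA.2.1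
  have hsep : X.IsSeparated := K931.Basic.isSeparated k X
  refine Van.van hAlt hDesc hEV (X ↘ Spec (CommRingCat.of k)) n hn hL hLinv (fun a ha N => ?_) ν
    (mk A hA.1) ((amp_mk hA.1).2 hA) (eff_of_mono hL hA.1 φ) b hb
  rw [mul_comm]
  exact Amp.mul_sa ha (((sa_mk hL).2 hsa).pow N)

end K660.Rows
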