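import Mathlib.AlgebraicGeometry.Sites.Fpqc
import Groth.Agent.Vanish.K660.FF

/-!
# Generation of the function field of a subscheme of a fibre product

`gen`: if `Y` maps to `Z ×_B X` and the generic point of `Y` maps monomorphically, then the function field of `Y` is
generated by those of `Z` and `X`.
-/

set_option autoImplicit false
universe u

open CategoryTheory AlgebraicGeometry CategoryTheory.Limits

namespace K660.Gen

/-- A subfield whose inclusion is a monomorphism of spectra is everything. -/
theorem eq_top_of_mono {M : Type u} [Field M] (F : Subfield M)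
    (h : Mono (Spec.map (CommRingCat.ofHom F.subtype))) : F = ⊤ := by
  have : Flat (Spec.map (CommRingCat.ofHom F.subtype)) := by
    rw [Flat.SpecMap_iff]
    let _ : Algebra F M := F.subtype.toAlgebra
    exact (inferInstance : Module.Flat F M)
  have hs : Surjective (Spec.map (CommRingCat.ofHom F.subtype)) := by
    refine ⟨fun x => ?_⟩
    refine ⟨(⊥ : PrimeSpectrum M), ?_⟩
    let _ : Unique (PrimeSpectrum F) := PrimeSpectrum.instUnique
    exact Subsingleton.elim (α := PrimeSpectrum F) _ _
  have : IsIso (Spec.map (CommRingCat.ofHom F.subtype)) := isIso_of_mono_of_strongEpi _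
  have h3 := ((isIso_SpecMap_iff).1 this).2
  rw [eq_top_iff]
  intro x _
  obtain ⟨y, hy⟩ := h3 x
  have : ((y : F) : M) = x := hy
  rw [← this]
  exact y.2

theorem epi_subtype {M : Type u} [Field M] (F : Subfield M) :
    Epi (Spec.map (CommRingCat.ofHom F.subtype)) := by
  have : Flat (Spec.map (CommRingCat.ofHom F.subtype)) := by
    rw [Flat.SpecMap_iff]
    let _ : Algebra F M := F.subtype.toAlgebra
    exact (inferInstance : Module.Flat F M)
  have hs : Surjective (Spec.map (CommRingCat.ofHom F.subtype)) := by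
    refine ⟨fun x => ?_⟩
    refine ⟨(⊥ : PrimeSpectrum M), ?_⟩
    let _ : Unique (PrimeSpectrum F) := PrimeSpectrum.instUnique
    exact Subsingleton.elim (α := PrimeSpectrum F) _ _
  exact Flat.epi_of_flat_of_surjective _

variable {B Z X Y : Scheme.{u}} [IsIntegral Z] [IsIntegral X] [IsIntegral Y]

/-- The generic point of `Y` followed by `g : Y ⟶ Z`, through the function fields. -/
theorem fromSpecStalk_comp (g : Y ⟶ Z) (hg : g (genericPoint Y) = genericPoint Z) :
    Y.fromSpecStalk (genericPoint Y) ≫ g =
      Spec.map (CommRingCat.ofHom (FF.ff g hg)) ≫ Z.fromSpecStalk (genericPoint Z) := by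
  rw [← Scheme.SpecMap_stalkMap_fromSpecStalk]
  have h2 : Spec.map (Z.presheaf.stalkSpecializes (specializes_of_eq hg) ≫ g.stalkMap (genericPoint Y)) ≫
      Z.fromSpecStalk (genericPoint Z) =
      Spec.map (g.stalkMap (genericPoint Y)) ≫ Z.fromSpecStalk (g (genericPoint Y)) := by
    rw [Spec.map_comp, Category.assoc, Scheme.SpecMap_stalkSpecializes_fromSpecStalk]
  exact h2.symm

theorem gen (t : Z ⟶ B) (q : X ⟶ B) (g : Y ⟶ Z) (h : Y ⟶ X) (w : g ≫ t = h ≫ q)
    (hg : g (genericPoint Y) = genericPoint Z) (hh : h (genericPoint Y) = genericPoint X)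
    (hm : Mono (Y.fromSpecStalk (genericPoint Y) ≫ pullback.lift g h w))
    (F : Subfield Y.functionField) (h1 : ∀ a, FF.ff g hg a ∈ F) (h2 : ∀ a, FF.ff h hh a ∈ F) : F = ⊤ := by
  apply eq_top_of_mono
  let ι : Spec (CommRingCat.of Y.functionField) ⟶ Spec (CommRingCat.of F) :=
    Spec.map (CommRingCat.ofHom F.subtype)
  have hepi : Epi ι := epi_subtype F
  let a : Spec (CommRingCat.of F) ⟶ Z :=
    Spec.map (CommRingCat.ofHom ((FF.ff g hg).codRestrict F h1)) ≫ Z.fromSpecStalk (genericPoint Z)
  let b : Spec (CommRingCat.of F) ⟶ X :=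
    Spec.map (CommRingCat.ofHom ((FF.ff h hh).codRestrict F h2)) ≫ X.fromSpecStalk (genericPoint X)
  have ha : ι ≫ a = Y.fromSpecStalk (genericPoint Y) ≫ g := by
    rw [fromSpecStalk_comp g hg]
    simp only [ι, a]
    rw [← Category.assoc, ← Spec.map_comp]
    rfl
  have hb : ι ≫ b = Y.fromSpecStalk (genericPoint Y) ≫ h := by
    rw [fromSpecStalk_comp h hh]
    simp only [ι, b]
    rw [← Category.assoc, ← Spec.map_comp]
    rfl
  have hab : a ≫ t = b ≫ q := by
    rw [← cancel_epi ι, ← Category.assoc, ha, ← Category.assoc, hb, Category.assoc, Category.assoc, w]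
  have hc : ι ≫ pullback.lift a b hab = Y.fromSpecStalk (genericPoint Y) ≫ pullback.lift g h w := by
    apply pullback.hom_ext
    · simp only [Category.assoc, pullback.lift_fst]
      exact ha
    · simp only [Category.assoc, pullback.lift_snd]
      exact hb
  rw [← hc] at hm
  exact mono_of_mono ι (pullback.lift a b hab)

end K660.Gen
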