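import Groth.Agent.Vanish.K660.ConnComp
import Groth.Agent.Vanish.K660.Gen
import Groth.Agent.Pi1.H384.NormFin
import Groth.Agent.S1377
import Groth.Agent.CurvesB.RegModelNorm
import Groth.Agent.Sga3C.DimTop

/-!
# The normal finite cover dominating the base change of a finite cover

`exists_cover`: `q : X ⟶ B` finite surjective, étale over `W`; `t : Z ⟶ B` dominant, `Z` smooth over a field and `V ⊆ t⁻¹ W`
open with affine inclusion: there are `Y` normal integral, `g : Y ⟶ Z` finite surjective, étale over `V`, and `h : Y ⟶ X`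
over `B` such that the function field of `Y` is generated by those of `Z` and `X`.
-/

set_option autoImplicit false
universe u

open CategoryTheory AlgebraicGeometry CategoryTheory.Limits TopologicalSpace

namespace K660.Constr

/-- In an integral scheme, a point generizing the generic point is the generic point. -/
theorem eq_genericPoint_of_specializes {Z : Scheme.{u}} [IsIntegral Z] {z : Z} (h : z ⤳ genericPoint Z) :
    z = genericPoint Z :=
  (h.antisymm ((genericPoint_spec Z).specializes trivial)).eq

theorem etale_restrict_pullback {B X Z : Scheme.{u}} (q : X ⟶ B) (t : Z ⟶ B) (W : B.Opens) [Etale (q ∣_ W)]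
    (V : Z.Opens) (hVW : V ≤ t ⁻¹ᵁ W) : Etale ((pullback.fst t q) ∣_ V) := by
  have h1 : IsPullback (pullback.fst t q) (pullback.snd t q) t q := IsPullback.of_hasPullback t q
  have h2 : IsPullback ((pullback.fst t q) ∣_ V) ((pullback.fst t q ⁻¹ᵁ V).ι) V.ι (pullback.fst t q) :=
    isPullback_morphismRestrict (pullback.fst t q) V
  -- the base change of `q` along `V ⟶ Z ⟶ B`
  have h3 : IsPullback ((pullback.fst t q) ∣_ V) ((pullback.fst t q ⁻¹ᵁ V).ι ≫ pullback.snd t q) (V.ι ≫ t) q :=
    h2.paste_vert h1
  let l : (V : Scheme.{u}) ⟶ W := IsOpenImmersion.lift W.ι (V.ι ≫ t) (by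
    rw [Scheme.Opens.range_ι]
    rintro _ ⟨x, rfl⟩
    exact hVW x.2)
  have hl : l ≫ W.ι = V.ι ≫ t := IsOpenImmersion.lift_fac _ _ _
  have h4 : IsPullback (q ∣_ W) (q ⁻¹ᵁ W).ι W.ι q := isPullback_morphismRestrict q W
  rw [← hl] at h3
  have h5 := IsPullback.of_bot' h3 h4
  exact MorphismProperty.of_isPullback h5.flip inferInstance

/-- A restricted morphism is a base change: étaleness transfers from any other base change. -/
theorem etale_restrict_of_isPullback {Y Z Y₀ : Scheme.{u}} (g : Y ⟶ Z) (V : Z.Opens) {j : Y₀ ⟶ Y}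
    {v : Y₀ ⟶ V} (h : IsPullback j v g V.ι) [Etale v] : Etale (g ∣_ V) := by
  have h1 := isPullback_morphismRestrict g V
  let e := h.isoIsPullback _ _ h1.flip
  have he : e.hom ≫ (g ∣_ V) = v := h.isoIsPullback_hom_snd _ _ h1.flip
  have : (g ∣_ V) = e.inv ≫ v := by rw [← he, Iso.inv_hom_id_assoc]
  rw [this]
  infer_instance

theorem exists_cover {k : Type u} [Field k] {B X Z : Scheme.{u}} [IsIntegral B] [IsIntegral X] [IsIntegral Z]
    (s : Z ⟶ Spec (CommRingCat.of k)) [Smooth s] (q : X ⟶ B) [IsFinite q] [Surjective q] (t : Z ⟶ B)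
    (W : B.Opens) [Etale (q ∣_ W)] (V : Z.Opens) [IsAffineHom V.ι] (hηV : genericPoint Z ∈ V)
    (hVW : V ≤ t ⁻¹ᵁ W) (ht : t (genericPoint Z) = genericPoint B) (hq : q (genericPoint X) = genericPoint B) :
    ∃ (Y : Scheme.{u}) (g : Y ⟶ Z) (h : Y ⟶ X) (w : g ≫ t = h ≫ q) (_ : IsIntegral Y),
      Pi1.IsNormalScheme Y ∧ IsFinite g ∧ Surjective g ∧ Etale (g ∣_ V) ∧
      g (genericPoint Y) = genericPoint Z ∧ h (genericPoint Y) = genericPoint X ∧
      Mono (Y.fromSpecStalk (genericPoint Y) ≫ pullback.lift g h w) := by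
  have hZn : IsLocallyNoetherian Z := LocallyOfFiniteType.isLocallyNoetherian s
  have hZnorm : Pi1.IsNormalScheme Z := Groth.Agent.Sga4B.SmoothNormal.isNormalScheme_of_smooth s
  let p₁ := pullback.fst t q
  let p₂ := pullback.snd t q
  have hp₁ : IsFinite p₁ := inferInstance
  have hp₁s : Surjective p₁ := inferInstance
  obtain ⟨e₀, he₀⟩ := p₁.surjective (genericPoint Z)
  let E : (pullback t q).Opens := p₁ ⁻¹ᵁ V
  have hEt : Etale (p₁ ∣_ V) := etale_restrict_pullback q t W V hVW
  have hFin : IsFinite (p₁ ∣_ V) := inferInstance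
  let e : (E : Scheme.{u}) := ⟨e₀, by change p₁ e₀ ∈ V; rw [he₀]; exact hηV⟩
  let sE : (E : Scheme.{u}) ⟶ Spec (CommRingCat.of k) := (p₁ ∣_ V) ≫ V.ι ≫ s
  have hsE : Smooth sE := inferInstance
  obtain ⟨C, heC, hCcl, -, hCint⟩ := ConnComp.exists_component sE e
  have hCι : IsClosedImmersion C.ι := ConnComp.isClosedImmersion_ι C hCcl
  let v : (C : Scheme.{u}) ⟶ V := C.ι ≫ (p₁ ∣_ V)
  have hv1 : Etale v := inferInstance
  have hv2 : IsFinite v := inferInstance
  let e' : (C : Scheme.{u}) ⟶ Z := v ≫ V.ι
  have he'1 : Etale e' := inferInstance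
  have he'2 : IsAffineHom e' := inferInstance
  have hCnorm : Pi1.IsNormalScheme (C : Scheme.{u}) :=
    Groth.Agent.Sga4B.SmoothNormal.isNormalScheme_of_smooth (C.ι ≫ sE)
  have hpb : IsPullback e'.toNormalization v e'.fromNormalization V.ι :=
    Groth.Agent.S1377.isPullback_normalization V v
  have hfin : IsFinite e'.fromNormalization :=
    Groth.Agent.Pi1.H384.NormFin.isFinite_fromNormalization e' hZnorm ⊤ ⟨genericPoint Z, trivial⟩
  have hYnorm : Pi1.IsNormalScheme e'.normalization :=
    Groth.Agent.CurvesB.RegModelNorm.isNormalScheme_normalization hCnorm e'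
  -- the map to the fibre product
  let f₁ : (C : Scheme.{u}) ⟶ pullback t q := C.ι ≫ E.ι
  have hf₁ : e' = f₁ ≫ p₁ := by
    simp only [e', f₁, v, Category.assoc]
    rw [morphismRestrict_ι]
  let m : e'.normalization ⟶ pullback t q := e'.normalizationDesc f₁ p₁ hf₁
  have hm1 : e'.toNormalization ≫ m = f₁ := e'.toNormalization_normalizationDesc f₁ p₁ hf₁
  have hm2 : m ≫ p₁ = e'.fromNormalization := e'.normalizationDesc_comp f₁ p₁ hf₁
  have hw : e'.fromNormalization ≫ t = (m ≫ p₂) ≫ q := by
    rw [← hm2, Category.assoc, Category.assoc, pullback.condition]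
  have hlift : pullback.lift e'.fromNormalization (m ≫ p₂) hw = m := by
    apply pullback.hom_ext
    · rw [pullback.lift_fst]; exact hm2.symm
    · rw [pullback.lift_snd]
  have hj : IsOpenImmersion e'.toNormalization :=
    MorphismProperty.of_isPullback hpb.flip inferInstance
  -- generic points
  have hgenY : e'.toNormalization (genericPoint (C : Scheme.{u})) = genericPoint e'.normalization :=
    genericPoint_eq_of_isOpenImmersion e'.toNormalization
  have hgenC : e' (genericPoint (C : Scheme.{u})) = genericPoint Z := by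
    apply eq_genericPoint_of_specializes
    have h1 : genericPoint (C : Scheme.{u}) ⤳ (⟨e, heC⟩ : C) := (genericPoint_spec _).specializes trivial
    have h2 : e' (⟨e, heC⟩ : C) = genericPoint Z := by
      rw [hf₁, Scheme.Hom.comp_apply]
      exact he₀
    rw [← h2]
    exact h1.map e'.continuous
  have hgenZ : e'.fromNormalization (genericPoint e'.normalization) = genericPoint Z := by
    rw [← hgenY, ← Scheme.Hom.comp_apply, e'.toNormalization_fromNormalization]
    exact hgenC
  refine ⟨e'.normalization, e'.fromNormalization, m ≫ p₂, hw, inferInstance, hYnorm, hfin, ?_, ?_, hgenZ, ?_, ?_⟩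
  · refine ⟨fun z => ?_⟩
    have hcl : IsClosed (Set.range e'.fromNormalization) := e'.fromNormalization.isClosedMap.isClosed_range
    have hz : z ∈ closure ({genericPoint Z} : Set Z) := by
      rw [genericPoint_closure]; trivial
    exact hcl.closure_subset_iff.2 (by
      rintro _ rfl
      exact ⟨_, hgenZ⟩) hz
  · exact etale_restrict_of_isPullback _ V hpb
  · symm
    refine Groth.Agent.Sga3C.DimTop.eq_of_specializes_of_isIntegralHom q _ _
      ((genericPoint_spec X).specializes trivial) ?_
    rw [hq, ← Scheme.Hom.comp_apply, ← hw, Scheme.Hom.comp_apply, hgenZ, ht]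
  · rw [hlift]
    have key : ∀ y : e'.normalization, e'.toNormalization (genericPoint (C : Scheme.{u})) = y →
        Mono (e'.normalization.fromSpecStalk y ≫ m) := by
      rintro _ rfl
      have h1 := Scheme.SpecMap_stalkMap_fromSpecStalk e'.toNormalization (x := genericPoint (C : Scheme.{u}))
      have h2 : IsIso (e'.toNormalization.stalkMap (genericPoint (C : Scheme.{u}))) := inferInstance
      have h3 : e'.normalization.fromSpecStalk (e'.toNormalization (genericPoint (C : Scheme.{u}))) ≫ m =
          inv (Spec.map (e'.toNormalization.stalkMap (genericPoint (C : Scheme.{u})))) ≫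
          (C : Scheme.{u}).fromSpecStalk (genericPoint (C : Scheme.{u})) ≫ f₁ := by
        rw [eq_comm, IsIso.inv_comp_eq, ← hm1, ← Category.assoc, ← Category.assoc, h1]
      rw [h3]
      infer_instance
    exact key _ hgenY

end K660.Constr
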