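import Groth.Agent.Vanish.K911.Ncd

/-!
# Normal crossing divisors pull back under étale morphisms
-/

set_option autoImplicit false
universe u

open CategoryTheory CategoryTheory.Limits AlgebraicGeometry TopologicalSpace Opposite

namespace K660.NcdEt

open LogNCD K911.Ncd Groth.Agent.Divis.IdealComap Groth.Agent.Divis.BlowChart2
open Groth.Agent.Pi1.H403.RelSNCBase

variable {X S X' : Scheme.{u}} {f : X ⟶ S} (g : X' ⟶ X)

/-- Normal crossing divisors pull back under étale morphisms. -/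
theorem isNCD_comap_of_etale [Etale g] {r : ℕ} {D : Fin r → X.IdealSheafData}
    (hD : IsNCD D f) : IsNCD (fun i => (D i).comap g) (g ≫ f) := by
  intro x' hx'
  obtain ⟨W, hxW, n, v, e, he, het, hv, hv'⟩ := hD (g x') (hx'.map (throughEquiv D g x'))
  have key : ∀ (U' : X'.affineOpens) (_ : U'.1 ≤ g ⁻¹ᵁ W) (x : X') (_ : x ∈ U'.1),
      ∃ (U : X.affineOpens) (V' : X'.affineOpens), x ∈ V'.1 ∧ V'.1 ≤ U'.1 ∧ U.1 ≤ W ∧
        V'.1 ≤ g ⁻¹ᵁ U.1 := by
    intro U' hU' x hx
    obtain ⟨U, V', hfx, hxV', hV', hU, e⟩ := exists_affine_le g x U'.1 hx W (hU' hx)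
    exact ⟨U, V', hxV', hV', hU, e⟩
  have hchart : Etale (AffineSpace.homOfVector ((g ⁻¹ᵁ W).ι ≫ g ≫ f) (fun i => (g ∣_ W).appTop (v i))) := by
    have h1 := AffineSpace.comp_homOfVector v (g ∣_ W) (W.ι ≫ f)
    have h2 : (g ∣_ W) ≫ W.ι ≫ f = (g ⁻¹ᵁ W).ι ≫ g ≫ f := by
      rw [← Category.assoc, morphismRestrict_ι, Category.assoc]
    rw [h2] at h1
    have h3 : (fun i => (g ∣_ W).appTop (v i)) = (g ∣_ W).appTop ∘ v := rfl
    rw [h3, ← h1]
    have : Etale (g ∣_ W) := inferInstance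
    infer_instance
  refine ⟨g ⁻¹ᵁ W, hxW, n, fun i => (g ∣_ W).appTop (v i), e ∘ throughEquiv D g x',
    he.comp (Equiv.injective _), hchart, ?_, ?_⟩
  · intro i U' hU'
    refine ideal_eq_span_of_local U' _ fun x hx => ?_
    obtain ⟨U, V', hxV', hV', hU, eV⟩ := key U' hU' x hx
    refine ⟨V', hV', hxV', ?_⟩
    rw [ideal_comap _ g U V' eV]
    have h1 := hv (throughEquiv D g x' i) U hU
    change (D i.1).ideal U = _ at h1
    rw [h1, Ideal.map_span, Set.image_singleton, sectOn_res]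
    congr 2
    exact appLE_sectOn g W hU eV _
  · intro i hi U' hU'
    rw [← Ideal.span_singleton_one]
    refine ideal_eq_span_of_local U' _ fun x hx => ?_
    obtain ⟨U, V', hxV', hV', hU, eV⟩ := key U' hU' x hx
    refine ⟨V', hV', hxV', ?_⟩
    rw [ideal_comap _ g U V' eV, hv' i (fun h => hi ((mem_support_comap (D i) g x').2 h)) U hU,
      Ideal.map_top, map_one, Ideal.span_singleton_one]

end K660.NcdEt
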