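import Groth.Agent.Vanish.K909.AltFinal
import Groth.Agent.Resolve.K284.NodeB
import Groth.Agent.Vanish.K910.DescNZ
import Groth.Agent.Vanish.K660.KolUp
import Groth.Agent.S17103

/-!
# (ALT), (DESC), (EV) hold
-/

set_option autoImplicit false
universe u
open CategoryTheory CategoryTheory.Limits AlgebraicGeometry

namespace K660.AltThm

/-- (ALT) holds. -/
theorem alt (k : Type u) [Field k] [IsAlgClosed k] [CharZero k] : K909.AltInterface.Alt k :=
  K909.AltFinal.alt k (K284.NodeB.nodeB k)

/-- (DESC) holds. -/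
theorem desc (k : Type u) [Field k] [IsAlgClosed k] [CharZero k] : K909.AltInterface.Desc k :=
  K910.DescNZ.desc k

/-- (EV) holds. -/
theorem ev (k : Type u) [Field k] [IsAlgClosed k] [CharZero k] : KolUp.EV k :=
  fun X _ _ _ _ n hn H hH L Linv hL hLinv N hN _ D hD α hα hLN μ b =>
    Groth.Agent.S17103.result k X n hn H hH L Linv hL hLinv N hN D hD α hα hLN μ b

end K660.AltThm
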