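import Groth.Agent.Variety.K424.TrdMap
import Groth.Agent.VarietyB.DimSch
import Groth.Agent.Vanish.K562.DimF
import Groth.Prelude.Def_EGA4Misc

/-!
# Birational morphisms preserve the dimension
-/

set_option autoImplicit false
universe u
open CategoryTheory CategoryTheory.Limits AlgebraicGeometry Opposite TopologicalSpace

namespace K660.DimBir

open Groth.Agent

theorem dim_eq (k : Type u) [Field k] {X Z : Scheme.{u}} [X.Over (Spec (CommRingCat.of k))]
    [Z.Over (Spec (CommRingCat.of k))] [IsIntegral X] [IsIntegral Z]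
    [LocallyOfFiniteType (X ↘ Spec (CommRingCat.of k))] [LocallyOfFiniteType (Z ↘ Spec (CommRingCat.of k))]
    (f : X ⟶ Z) (hf : f ≫ (Z ↘ Spec (CommRingCat.of k)) = X ↘ Spec (CommRingCat.of k)) [Surjective f]
    (hbir : RadPt.IsBirational f) : topologicalKrullDim Z = topologicalKrullDim X := by
  have hη : f (genericPoint X) = genericPoint Z := K562.DimF.map_genericPoint f
  have hb := (hbir.2 (f (genericPoint X)) (by
    rw [hη]
    change closure {genericPoint Z} ∈ irreducibleComponents Z
    rw [irreducibleComponents_eq_singleton, (genericPoint_spec Z)]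
    rfl)).2 (genericPoint X) rfl
  have h2 := VarietyB.ResMap.trd_eq_of_bijective k f hf (genericPoint X) hb
  have h3 := VarietyB.DimSch.topologicalKrullDim_eq_trd (X := X) k
  have h4 := VarietyB.DimSch.topologicalKrullDim_eq_trd (X := Z) k
  have h5 := VarietyB.DimSch.trdeg_eq_trd (X := X) k (genericPoint X)
  have h6 := VarietyB.DimSch.trdeg_eq_trd (X := Z) k (genericPoint Z)
  rw [h3, h4]
  rw [hη] at h2
  have h7 : (VarietyB.DimSch.trd k X (genericPoint X) : Cardinal.{u}) = VarietyB.DimSch.trd k Z (genericPoint Z) := by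
    rw [← h5, ← h6]
    exact h2.symm
  rw [Nat.cast_inj] at h7
  rw [h7]

end K660.DimBir
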