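import Groth.Agent.Dcoh.StalkRes
import Groth.Prelude.Def_TorSh

/-!
# Torsion-freeness and restriction to open subschemes
-/

set_option autoImplicit false
universe u

open CategoryTheory CategoryTheory.Limits AlgebraicGeometry Opposite TopologicalSpace

namespace K660.TFRes

open Groth.Agent

theorem isTorsionFree_of_semilinear {R S M N : Type*} [CommRing R] [CommRing S] [AddCommGroup M] [AddCommGroup N]
    [Module R M] [Module S N] (σ : R ≃+* S) (e : N ≃+ M) (he : ∀ (r : R) (n : N), e (σ r • n) = r • e n)
    (h : Module.IsTorsionFree R M) : Module.IsTorsionFree S N := by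
  refine ⟨fun s hs a b hab => ?_⟩
  have hr : IsRegular (σ.symm s) := by
    refine ⟨fun c d hcd => ?_, fun c d hcd => ?_⟩
    · apply σ.injective
      apply hs.left
      dsimp only at hcd ⊢
      have := congrArg σ hcd
      simpa using this
    · apply σ.injective
      apply hs.right
      dsimp only at hcd ⊢
      have := congrArg σ hcd
      simpa using this
  apply e.injective
  apply h.isSMulRegular hr
  dsimp only at hab ⊢
  rw [← he, ← he, σ.apply_symm_apply, hab]

variable {X Y : Scheme.{u}} (f : X ⟶ Y) [IsOpenImmersion f]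

theorem isTorsionFree_restrict {M : Y.Modules} (h : TorSh.IsTorsionFree M) : TorSh.IsTorsionFree (M.restrict f) :=
  fun x => isTorsionFree_of_semilinear (Dcoh.StalkRes.ringIso f x) (Dcoh.StalkRes.addIso f M x)
    (Dcoh.StalkRes.addIso_smul f M x) (h (f x))

theorem isTorsionFree_stalk_of_restrict {M : Y.Modules} (h : TorSh.IsTorsionFree (M.restrict f)) (x : X) :
    Module.IsTorsionFree (Y.presheaf.stalk (f x)) (M.presheaf.stalk (f x)) := by
  refine isTorsionFree_of_semilinear (Dcoh.StalkRes.ringIso f x).symm (Dcoh.StalkRes.addIso f M x).symm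
    (fun r n => ?_) (h x)
  rw [AddEquiv.symm_apply_eq]
  obtain ⟨r', rfl⟩ := (Dcoh.StalkRes.ringIso f x).surjective r
  rw [Dcoh.StalkRes.addIso_smul, AddEquiv.apply_symm_apply, RingEquiv.symm_apply_apply]

/-- Torsion-freeness is local. -/
theorem isTorsionFree_of_local (M : Y.Modules) (h : ∀ y : Y, ∃ V : Y.Opens, y ∈ V ∧ TorSh.IsTorsionFree (M.restrict V.ι)) :
    TorSh.IsTorsionFree M := by
  intro y
  obtain ⟨V, hy, hV⟩ := h y
  exact isTorsionFree_stalk_of_restrict V.ι hV ⟨y, hy⟩

end K660.TFRes
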