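import Groth.Agent.Vanish.K660.GR
import Groth.Agent.Vanish.K660.TFRes
import Groth.Agent.ShStab.K848.TF
import Groth.Agent.Vanish.K660.DimBir

/-!
# Torsion-freeness of `R^b f_* ω`, and the rows S16890, S16891, modulo `Alt`, `Desc`, `EV`
-/

set_option autoImplicit false
universe u

open CategoryTheory CategoryTheory.Limits AlgebraicGeometry Opposite TopologicalSpace

namespace K660.GR

open Groth.Agent Groth.Agent.Grpsch.PicGrp Groth.Agent.Fga.JacFactor Groth.Agent.Divis.EffCartier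
open Groth.Agent.Fdesc.LocGen
open K909.AltInterface KolUp K931.Eff Semi
open Groth.Agent.Vanish.K415.ChowAlt

theorem mono_of_retract {C D : Type*} [Category C] [Category D] 
    (F : C ⥤ D) {M N : C} (i : M ⟶ N) (r : N ⟶ M) (h : i ≫ r = 𝟙 M) : Mono (F.map i) := by
  have : F.map i ≫ F.map r = 𝟙 _ := by rw [← F.map_comp, h, F.map_id]
  exact mono_of_mono_fac this

/-- `TFP.torsionFree` for the trivial invertible module. -/
theorem torsionFree_proj (k : Type u) [Field k] [IsAlgClosed k] [CharZero k] (hAlt : Alt k) (hDesc : Desc k)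
    (hEV : EV k) {Y Z : Scheme.{u}} (z : Z ⟶ Spec (CommRingCat.of k)) (f : Y ⟶ Z) [IsIntegral Y] [IsIntegral Z]
    [IsProper z] [IsProper (f ≫ z)] [Smooth (f ≫ z)] (n : ℕ) (hn : topologicalKrullDim Y = n)
    (A : Y.Modules) (hA : CohB1.IsAmple A) (K : Z.Modules) (hK : CohB1.IsAmple K) [Surjective f]
    {W : Y.Modules} (hW : ExtPow.IsExtPow n (Omega.sheaf (f ≫ z)) W)
    [HasInjectiveResolutions Y.Modules] (b : ℕ) : TorSh.IsTorsionFree ((Coh.Rpush f b).obj W) := by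
  let _ : Z.Over (Spec (CommRingCat.of k)) := ⟨z⟩
  let _ : Y.Over (Spec (CommRingCat.of k)) := ⟨f ≫ z⟩
  have i1 : IsProper (Z ↘ Spec (CommRingCat.of k)) := ‹IsProper z›
  have i2 : IsProper (Y ↘ Spec (CommRingCat.of k)) := ‹IsProper (f ≫ z)›
  have i3 : Smooth (Y ↘ Spec (CommRingCat.of k)) := ‹Smooth (f ≫ z)›
  have hsZ : Z.IsSeparated := K931.Basic.isSeparated k Z
  have hfs : IsSeparated f := IsSeparated.of_comp f z
  have h0 := TFP.torsionFree k hAlt hDesc hEV Y n hn A hA Z K hK f hW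
    (P := Coh.structureModule Y) isInvertible_structureModule (InjP.posP_of_sa (by
      have h1 : mk (Coh.structureModule Y) isInvertible_structureModule = 1 := rfl
      rw [h1]
      exact SA.one)) b
  exact K848.TF.isTorsionFree_iso ((Coh.Rpush f b).mapIso (Ega2.Tens.runit W)) h0

/-- torsion-freeness over a quasi-projective base. -/
theorem torsionFree_overQuasiProj {k : Type u} [Field k] [IsAlgClosed k] [CharZero k] (hAlt : Alt k) (hDesc : Desc k)
    (hEV : EV k) {X₁ X : Scheme.{u}} (x : X ⟶ Spec (CommRingCat.of k)) (π : X₁ ⟶ X) [IsIntegral X₁] [IsIntegral X]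
    [LocallyOfFiniteType x] [QuasiCompact x] [Smooth (π ≫ x)] (hN : ∃ N : X.Modules, CohB1.IsAmple N)
    [IsProper π] [Surjective π] (n : ℕ) (hn₁ : topologicalKrullDim X₁ = n)
    {W : X₁.Modules} (hW : ExtPow.IsExtPow n (Omega.sheaf (π ≫ x)) W) [HasInjectiveResolutions X₁.Modules]
    (b : ℕ) : TorSh.IsTorsionFree ((Coh.Rpush π b).obj W) := by
  obtain ⟨Zb, zb, j, H, hj, Y, g, ρ, A, hZb, hzb, hH, hjz, hY, hg, hYs, hA, hgs, hdim, hρ, hρs, hcomm⟩ :=
    chowalt hAlt x hN π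
  have hcomm' : (g ⁻¹ᵁ j.opensRange).ι ≫ g = (ρ ≫ π) ≫ j := by rw [← hcomm, Category.assoc]
  have hw : (g ⁻¹ᵁ j.opensRange).ι ≫ g ≫ zb = ρ ≫ π ≫ x := by
    rw [← Category.assoc, hcomm', Category.assoc, Category.assoc, hjz]
  have hsm : Smooth (ρ ≫ π ≫ x) := by rw [← hw]; infer_instance
  have hne : Nonempty (g ⁻¹ᵁ j.opensRange).toScheme := by
    obtain ⟨y, -⟩ := ρ.surjective (Classical.arbitrary X₁)
    exact ⟨y⟩
  have hint : IsIntegral (g ⁻¹ᵁ j.opensRange).toScheme := isIntegral_of_isOpenImmersion (g ⁻¹ᵁ j.opensRange).ι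
  have hdY : topologicalKrullDim Y = n := hdim.trans hn₁
  have hdU : topologicalKrullDim (g ⁻¹ᵁ j.opensRange).toScheme = n := by
    rw [dim_of_openImmersion k (g ≫ zb) (g ⁻¹ᵁ j.opensRange).ι]; exact hdY
  have hLN₁ : IsLocallyNoetherian X₁ := LocallyOfFiniteType.isLocallyNoetherian (π ≫ x)
  have hLNY : IsLocallyNoetherian Y := LocallyOfFiniteType.isLocallyNoetherian (g ≫ zb)
  have hLNU : IsLocallyNoetherian (g ⁻¹ᵁ j.opensRange).toScheme :=
    LocallyOfFiniteType.isLocallyNoetherian (ρ ≫ π ≫ x)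
  have hYI := Dcoh.DerSch.hasInjectiveResolutions Y
  have hUI := Dcoh.DerSch.hasInjectiveResolutions (g ⁻¹ᵁ j.opensRange).toScheme
  obtain ⟨V, hV⟩ := Dual.H366.ExtQCoh.exists_isExtPow n (CurvesB.OmegaStalkDict.isQCoh_omega (g ≫ zb))
  have hVq : Coh.IsQCoh V := K477.ExtCoh.isQCoh_of_isExtPow (CurvesB.OmegaStalkDict.isQCoh_omega _) hV
  have hV' : ExtPow.IsExtPow n (Omega.sheaf (ρ ≫ π ≫ x))
      ((Scheme.Modules.pullback (g ⁻¹ᵁ j.opensRange).ι).obj V) := isExtPow_pullback _ hw n hV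
  obtain ⟨V', hV'e⟩ : ∃ V', V' = (Scheme.Modules.pullback (g ⁻¹ᵁ j.opensRange).ι).obj V := ⟨_, rfl⟩
  rw [← hV'e] at hV'
  have htf : TorSh.IsTorsionFree ((Coh.Rpush g b).obj V) := torsionFree_proj k hAlt hDesc hEV zb g n hdY A hA H hH hV b
  have sq : IsPullback (g ⁻¹ᵁ j.opensRange).ι (ρ ≫ π) g j :=
    (IsOpenImmersion.isPullback (ρ ≫ π) (g ⁻¹ᵁ j.opensRange).ι j g hcomm' (Scheme.Opens.opensRange_ι _).symm).flip
  obtain ⟨e2⟩ := fbc sq hVq b
  obtain ⟨e3⟩ := LerayPush.nonempty_iso ρ π V'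
    (fun i hi => gr hAlt hDesc hEV (π ≫ x) ρ n hn₁ hdU hV' i hi) b
  have htf' : TorSh.IsTorsionFree ((Coh.Rpush π b).obj ((Scheme.Modules.pushforward ρ).obj V')) := by
    refine K848.TF.isTorsionFree_iso e3.symm ?_
    rw [hV'e]
    exact K848.TF.isTorsionFree_iso
      ((Scheme.Modules.restrictFunctorIsoPullback j).app _ ≪≫ e2) (TFRes.isTorsionFree_restrict j htf)
  let _ : X₁.Over (Spec (CommRingCat.of k)) := ⟨π ≫ x⟩
  let _ : (g ⁻¹ᵁ j.opensRange).toScheme.Over (Spec (CommRingCat.of k)) := ⟨ρ ≫ π ≫ x⟩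
  have i1 : Smooth (X₁ ↘ Spec (CommRingCat.of k)) := ‹Smooth (π ≫ x)›
  have i2 : Smooth ((g ⁻¹ᵁ j.opensRange).toScheme ↘ Spec (CommRingCat.of k)) := hsm
  obtain ⟨i, r, hir⟩ := K910.Split.split n hn₁ hdU ρ rfl hW hV'
  have hm : Mono ((Coh.Rpush π b).map i) := mono_of_retract _ i r hir
  exact K848.TF.isTorsionFree_of_mono ((Coh.Rpush π b).map i) htf'

/-- **(TF)** `π : X₁ ⟶ X` proper surjective, `X₁` smooth integral, `X` integral: `R^b π_* W` is torsion-free. -/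
theorem torsionFree {k : Type u} [Field k] [IsAlgClosed k] [CharZero k] (hAlt : Alt k) (hDesc : Desc k)
    (hEV : EV k) {X₁ X : Scheme.{u}} (x : X ⟶ Spec (CommRingCat.of k)) (π : X₁ ⟶ X) [IsIntegral X₁] [IsIntegral X]
    [LocallyOfFiniteType x] [Smooth (π ≫ x)] [IsProper π] [Surjective π] (n : ℕ)
    (hn₁ : topologicalKrullDim X₁ = n) {W : X₁.Modules} (hW : ExtPow.IsExtPow n (Omega.sheaf (π ≫ x)) W)
    [HasInjectiveResolutions X₁.Modules] (b : ℕ) : TorSh.IsTorsionFree ((Coh.Rpush π b).obj W) := by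
  refine TFRes.isTorsionFree_of_local _ fun t => ?_
  obtain ⟨T, hT, ht, -⟩ := exists_isAffineOpen_mem_and_subset (x := t) (U := ⊤) trivial
  refine ⟨T, ht, ?_⟩
  have hI := Dcoh.DerSch.hasInjectiveResolutions (π ⁻¹ᵁ T).toScheme
  refine K848.TF.isTorsionFree_iso (CohqA.RpushLoc.rpushResOpen π T b W).symm ?_
  have hLN₁ : IsLocallyNoetherian X₁ := LocallyOfFiniteType.isLocallyNoetherian (π ≫ x)
  have hTne : Nonempty T.toScheme := ⟨⟨t, ht⟩⟩
  have hTa : IsAffine T.toScheme := hT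
  have hTi : IsIntegral T.toScheme := isIntegral_of_isOpenImmersion T.ι
  have hπT : (π ∣_ T) ≫ T.ι ≫ x = (π ⁻¹ᵁ T).ι ≫ π ≫ x := by
    rw [← Category.assoc, morphismRestrict_ι, Category.assoc]
  have hsT : Smooth ((π ∣_ T) ≫ T.ι ≫ x) := by rw [hπT]; infer_instance
  obtain ⟨y, hy⟩ := π.surjective t
  have hUne : Nonempty (π ⁻¹ᵁ T).toScheme := ⟨⟨y, by change π y ∈ T; rw [hy]; exact ht⟩⟩
  have hUi : IsIntegral (π ⁻¹ᵁ T).toScheme := isIntegral_of_isOpenImmersion (π ⁻¹ᵁ T).ι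
  have hLN₂ : IsLocallyNoetherian (π ⁻¹ᵁ T).toScheme := LocallyOfFiniteType.isLocallyNoetherian ((π ∣_ T) ≫ T.ι ≫ x)
  have hsu : Surjective (π ∣_ T) := MorphismProperty.of_isPullback (isPullback_morphismRestrict π T).flip ‹Surjective π›
  refine torsionFree_overQuasiProj hAlt hDesc hEV (T.ι ≫ x) (π ∣_ T)
    (CalgB.ProjField.exists_isAmple_of_isAffine T.toScheme) n ?_ ?_ b
  · rw [dim_of_openImmersion k (π ≫ x) (π ⁻¹ᵁ T).ι]; exact hn₁
  · exact isExtPow_restrict (y := π ≫ x) (π ⁻¹ᵁ T).ι hπT.symm n hW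

/-- S16891 modulo `Alt`, `Desc`, `EV`. -/
theorem row16891 (k : Type u) [Field k] [IsAlgClosed k] [CharZero k] (hAlt : Alt k) (hDesc : Desc k) (hEV : EV k)
    (X : Scheme.{u}) [X.Over (Spec (CommRingCat.of k))] [IsIntegral X] [Smooth (X ↘ Spec (CommRingCat.of k))]
    (n : ℕ) (hn : topologicalKrullDim X = n)
    (Z : Scheme.{u}) [Z.Over (Spec (CommRingCat.of k))] [IsIntegral Z]
    [LocallyOfFiniteType (Z ↘ Spec (CommRingCat.of k))]
    (f : X ⟶ Z) (hf : f ≫ (Z ↘ Spec (CommRingCat.of k)) = X ↘ Spec (CommRingCat.of k)) [IsProper f] [Surjective f]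
    (ω : X.Modules) (hω : ExtPow.IsExtPow n (Omega.sheaf (X ↘ Spec (CommRingCat.of k))) ω)
    [HasInjectiveResolutions X.Modules] (b : ℕ) : TorSh.IsTorsionFree ((Coh.Rpush f b).obj ω) := by
  rw [← hf] at hω
  have : Smooth (f ≫ (Z ↘ Spec (CommRingCat.of k))) := by rw [hf]; infer_instance
  exact torsionFree hAlt hDesc hEV (Z ↘ Spec (CommRingCat.of k)) f n hn hω b

/-- (GR) in the `Over` form. -/
theorem gr_over (k : Type u) [Field k] [IsAlgClosed k] [CharZero k] (hAlt : Alt k) (hDesc : Desc k) (hEV : EV k)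
    (X : Scheme.{u}) [X.Over (Spec (CommRingCat.of k))] [IsIntegral X] [Smooth (X ↘ Spec (CommRingCat.of k))]
    (n : ℕ) (hn : topologicalKrullDim X = n)
    (Z : Scheme.{u}) [Z.Over (Spec (CommRingCat.of k))] [IsIntegral Z]
    [LocallyOfFiniteType (Z ↘ Spec (CommRingCat.of k))]
    (f : X ⟶ Z) (hf : f ≫ (Z ↘ Spec (CommRingCat.of k)) = X ↘ Spec (CommRingCat.of k)) [IsProper f] [Surjective f]
    (hZ : topologicalKrullDim Z = n)
    (ω : X.Modules) (hω : ExtPow.IsExtPow n (Omega.sheaf (X ↘ Spec (CommRingCat.of k))) ω)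
    [HasInjectiveResolutions X.Modules] (b : ℕ) (hb : 0 < b) : IsZero ((Coh.Rpush f b).obj ω) := by
  rw [← hf] at hω
  have : Smooth (f ≫ (Z ↘ Spec (CommRingCat.of k))) := by rw [hf]; infer_instance
  exact gr hAlt hDesc hEV (Z ↘ Spec (CommRingCat.of k)) f n hZ hn hω b hb

/-- S16890 modulo `Alt`, `Desc`, `EV`. -/
theorem row16890 (k : Type u) [Field k] [IsAlgClosed k] [CharZero k] (hAlt : Alt k) (hDesc : Desc k) (hEV : EV k)
    (X : Scheme.{u}) [X.Over (Spec (CommRingCat.of k))] [IsIntegral X] [Smooth (X ↘ Spec (CommRingCat.of k))]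
    (n : ℕ) (hn : topologicalKrullDim X = n)
    (Z : Scheme.{u}) [Z.Over (Spec (CommRingCat.of k))] [IsIntegral Z]
    [LocallyOfFiniteType (Z ↘ Spec (CommRingCat.of k))]
    (f : X ⟶ Z) (hf : f ≫ (Z ↘ Spec (CommRingCat.of k)) = X ↘ Spec (CommRingCat.of k)) [IsProper f] [Surjective f]
    (ω : X.Modules) (hω : ExtPow.IsExtPow n (Omega.sheaf (X ↘ Spec (CommRingCat.of k))) ω)
    [HasInjectiveResolutions X.Modules] (hbir : RadPt.IsBirational f) (b : ℕ) (hb : 0 < b) :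
    IsZero ((Coh.Rpush f b).obj ω) :=
  gr_over k hAlt hDesc hEV X n hn Z f hf ((DimBir.dim_eq k f hf hbir).trans hn) ω hω b hb

end K660.GR
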