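import Groth.Agent.LogNCD.K913.TauAff
import Groth.Agent.Krr.H496.GenLocus
import Groth.Agent.Divis.IdealComap
import Groth.Agent.Divis.EffCartier

/-!
# Submodules of the form `I N` of an invertible module

`HasIm φ I`: the image of `φ : M ⟶ N` is locally `I N`.  For `M ⟶ N` mono this determines `M ⟶ N` up to isomorphism
(`exists_iso`); it holds for `E ⊗ I ⟶ E` (`hasIm_inclTwist`) and is compatible with pull-back (`HasIm.pullback`).
-/

set_option autoImplicit false
universe u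

open CategoryTheory CategoryTheory.Limits AlgebraicGeometry Opposite TopologicalSpace

namespace K660.SubTw

open Groth.Agent.Sga67.Sec

variable {X Y : Scheme.{u}}

/-- The image of `φ` is locally `I N`. -/
def HasIm {M N : X.Modules} (φ : M ⟶ N) (I : X.IdealSheafData) : Prop :=
  ∀ x : X, ∃ (U : X.affineOpens) (G : Γ(X, U.1)), x ∈ U.1 ∧ I.ideal U = Ideal.span {G} ∧
    ∀ (V : X.affineOpens) (h : V.1 ≤ U.1) (e : Sec N V.1),
      (∃ s : Sec M V.1, appS φ V.1 s = e) ↔ ∃ e' : Sec N V.1, e = resO X h G • e'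

theorem ideal_resO (I : X.IdealSheafData) {U V : X.affineOpens} (h : V.1 ≤ U.1) (t : Γ(X, U.1))
    (ht : I.ideal U = Ideal.span {t}) : I.ideal V = Ideal.span {resO X h t} := by
  rw [← I.map_ideal (U := V) (V := U) h, ht, Ideal.map_span, Set.image_singleton]
  rfl

theorem hasIm_inclTwist {E : X.Modules} (hE : FlatMod.IsFinLocFree E) {I : X.IdealSheafData}
    (hI : BlowUp.IsEffCartierIdeal I) : HasIm (LogNCD.inclTwist E I) I := by
  intro x
  obtain ⟨U, hxU, G, hG, hIG⟩ := hI x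
  exact ⟨U, G, hxU, hIG, fun V h e => K913.TauAff.range_inclTwist I hE V _ (ideal_resO I h G hIG) e⟩

theorem exists_affine_le (x : X) (U : X.Opens) (hx : x ∈ U) : ∃ V : X.affineOpens, x ∈ V.1 ∧ V.1 ≤ U := by
  obtain ⟨V, hV, hxV, hVU⟩ := exists_isAffineOpen_mem_and_subset hx
  exact ⟨⟨V, hV⟩, hxV, hVU⟩

/-- A morphism with the same image factors through a monomorphism. -/
theorem exists_lift {M M' N : X.Modules} {I : X.IdealSheafData} {φ : M ⟶ N} {φ' : M' ⟶ N} [Mono φ']
    (h : HasIm φ I) (h' : HasIm φ' I) : ∃ e : M ⟶ M', e ≫ φ' = φ := by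
  have hz : φ ≫ cokernel.π φ' = 0 := by
    apply hom_ext_of_locally
    intro x W hxW
    obtain ⟨U, G, hxU, hIG, hU⟩ := h x
    obtain ⟨U', G', hxU', hIG', hU'⟩ := h' x
    obtain ⟨V, hxV, hV⟩ := exists_affine_le x (W ⊓ (U.1 ⊓ U'.1)) ⟨hxW, hxU, hxU'⟩
    have hVU : V.1 ≤ U.1 := hV.trans (inf_le_right.trans inf_le_left)
    have hVU' : V.1 ≤ U'.1 := hV.trans (inf_le_right.trans inf_le_right)
    refine ⟨V.1, hV.trans inf_le_left, hxV, fun s => ?_⟩
    obtain ⟨e', he'⟩ := (hU V hVU _).1 ⟨s, rfl⟩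
    have h1 : Ideal.span {resO X hVU G} = Ideal.span {resO X hVU' G'} :=
      (ideal_resO I hVU G hIG).symm.trans (ideal_resO I hVU' G' hIG')
    have h2 : resO X hVU G ∈ Ideal.span {resO X hVU' G'} := by
      rw [← h1]; exact Ideal.mem_span_singleton_self _
    obtain ⟨c, hc⟩ := Ideal.mem_span_singleton.1 h2
    obtain ⟨s', hs'⟩ := (hU' V hVU' (appS φ V.1 s)).2 ⟨c • e', by rw [he', hc, mul_smul]⟩
    rw [appS_comp, ← hs', ← appS_comp, cokernel.condition, appS_zero, appS_zero]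
  exact ⟨(Abelian.monoIsKernelOfCokernel _ (cokernelIsCokernel φ')).lift (KernelFork.ofι φ hz),
    (Abelian.monoIsKernelOfCokernel _ (cokernelIsCokernel φ')).fac (KernelFork.ofι φ hz) WalkingParallelPair.zero⟩

/-- Monomorphisms with the same image are isomorphic. -/
theorem exists_iso {M M' N : X.Modules} {I : X.IdealSheafData} {φ : M ⟶ N} {φ' : M' ⟶ N} [Mono φ] [Mono φ']
    (h : HasIm φ I) (h' : HasIm φ' I) : ∃ e : M ≅ M', e.hom ≫ φ' = φ := by
  obtain ⟨a, ha⟩ := exists_lift h h'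
  obtain ⟨b, hb⟩ := exists_lift h' h
  refine ⟨⟨a, b, ?_, ?_⟩, ha⟩
  · rw [← cancel_mono φ, Category.assoc, hb, ha, Category.id_comp]
  · rw [← cancel_mono φ', Category.assoc, ha, hb, Category.id_comp]

end K660.SubTw
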