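import Groth.Agent.Vanish.K660.Frame
import Groth.Agent.Vanish.K660.Kol
import Groth.Agent.Surf.K461.SerreDual
import Groth.Agent.Sga5.H858.ExtNat
import Groth.Agent.Fdesc.LocGenTensor
import Mathlib.Algebra.Homology.DerivedCategory.Ext.MapBijective

/-!
# Dual form: surjectivity for `L⁻¹` gives injectivity for `ω ⊗ L`

`precomp_eq_zero`: if `H^b(φ)` is surjective, precomposition with `φ` is injective on `Hom_D(N, W[c])`, `b + c = n`.
`hm_injective`: if `H^b(L⁻¹ ⊗ I) → H^b(L⁻¹)` is surjective, `I` the ideal of the zeros of `s : O ⟶ G`, then multiplication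
by `s`, `H^c(W ⊗ L) → H^c(W ⊗ L ⊗ G)`, is injective.
-/

set_option autoImplicit false
universe u

open CategoryTheory CategoryTheory.Limits CategoryTheory.Abelian AlgebraicGeometry Opposite TopologicalSpace

attribute [local instance] HasDerivedCategory.standard

namespace K660.Inj

open Groth.Agent Groth.Agent.CurvesC Groth.Agent.CurvesC.RepX Groth.Agent.CurvesC.DualLin
open Groth.Agent.PerfB.TensExact KolUp K660.Frame SubTw

section dual

variable (k : Type u) [Field k] {X : Scheme.{u}} [X.Over (Spec (CommRingCat.of k))]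

attribute [local instance] LinMod.linearModules

theorem precomp_eq_zero {W : X.Modules} (n : ℕ) (τ : (P X ⟶ (DCoh.inD X W)⟦(n : ℤ)⟧) →ₗ[k] k)
    (hτ : ∀ K : DCoh.D X, DCoh.IsQCohD K → Function.Bijective (pairing k X τ K)) {M N : X.Modules}
    (hN : Coh.IsQCoh N) (φ : M ⟶ N) (b c : ℕ) (h : c + b = n) (hs : Surj φ b)
    (x : DCoh.inD X N ⟶ (DCoh.inD X W)⟦(c : ℤ)⟧)
    (hx : (DerivedCategory.singleFunctor X.Modules 0).map φ ≫ x = 0) : x = 0 := by
  apply (K461.DualAbs.homShiftE k N W (c : ℤ) (b : ℤ) (n : ℤ) (by omega)).injective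
  rw [map_zero]
  apply (hτ _ (PerfA.QCohD.isQCohD_shift (PerfA.QCohD.isQCohD_inD N hN) (b : ℤ))).1
  rw [map_zero]
  ext s
  obtain ⟨y, hy⟩ := hs (homHVₗ k X N b s)
  obtain ⟨t, rfl⟩ := (homHVₗ k X M b).surjective y
  have ht : s = t ≫ ((DerivedCategory.singleFunctor X.Modules 0).map φ)⟦(b : ℤ)⟧' := by
    apply (homHVₗ k X N b).injective
    rw [homHVₗ_map]
    exact hy.symm
  rw [pairing_apply, ht, LinearMap.zero_apply]
  have h1 : ((DerivedCategory.singleFunctor X.Modules 0).map φ)⟦(b : ℤ)⟧' ≫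
      (K461.DualAbs.homShiftE k N W (c : ℤ) (b : ℤ) (n : ℤ) (by omega)) x = 0 := by
    have h2 : (K461.DualAbs.homShiftE k N W (c : ℤ) (b : ℤ) (n : ℤ) (by omega)) x =
        x⟦(b : ℤ)⟧' ≫ ((shiftFunctorAdd' (DCoh.D X) (c : ℤ) (b : ℤ) (n : ℤ) (by omega)).symm.app _).hom := by
      unfold K461.DualAbs.homShiftE
      rw [LinearEquiv.trans_apply, Linear.homCongr_apply]
      simp only [Iso.refl_inv, Category.id_comp]
      rfl
    rw [h2, ← Category.assoc, ← Functor.map_comp, hx, Functor.map_zero, zero_comp]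
  rw [Category.assoc, h1, comp_zero, map_zero]

end dual

section frame

variable {X : Scheme.{u}}

open Fdesc.LocGen in
theorem frameAt_map_mulN {G Q : X.Modules} (hG : PicF.IsInvertible G) (hQ : PicF.IsInvertible Q)
    (s : Coh.structureModule X ⟶ G) (x : X) :
    FrameAt ((DCoh.tensorRightMod Q).map ((mulN s).app (Coh.structureModule X))) (PicF2.zeroScheme G s) x := by
  obtain ⟨U₁, hU₁, hxU₁, -, e, he⟩ := Pi1C.ZeroScheme.exists_affine_isGen hG ⊤ x trivial
  obtain ⟨U, hU, hxU, hUU₁, q, hq⟩ := Pi1C.ZeroScheme.exists_affine_isGen hQ U₁ x hxU₁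
  set e' := res G hUU₁ e
  have he' : IsGen e' := he.res hUU₁
  obtain ⟨c, hc⟩ := he'.exists_eq (sec s U)
  refine ⟨⟨U, hU⟩, Ega2.Tens.tmul (one U) q, Ega2.Tens.tmul (Ega2.Tens.tmul (one U) e') q, c, hxU, ?_, ?_, ?_,
    Pi1C.ZeroScheme.ideal_eq_span s hG ⟨U, hU⟩ he' hc⟩
  · rw [Krr.H496.GenLocus.isGen_iff]
    exact IsGen.tmul (isGen_one U) hq
  · rw [Krr.H496.GenLocus.isGen_iff]
    exact IsGen.tmul (IsGen.tmul (isGen_one U) he') hq
  · change ((DCoh.tensorRightMod Q).map ((mulN s).app (Coh.structureModule X))).app U _ = _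
    rw [tensorRightMod_map_tmul, mulN_app_app, hc]
    erw [Ega2.Tens.tmul_smul, Ega2.Tens.smul_tmul]
    rfl

end frame

section main

open Groth.Agent.Grpsch.PicGrp Fdesc.LocGen

theorem ext_eq_zero (k : Type u) [Field k] {X : Scheme.{u}} [X.Over (Spec (CommRingCat.of k))]
    [HasExt.{u + 1} X.Modules] [IsProper (X ↘ Spec (CommRingCat.of k))] (n : ℕ)
    [SmoothOfRelativeDimension n (X ↘ Spec (CommRingCat.of k))] {W : X.Modules}
    (hW : ExtPow.IsExtPow n (Omega.sheaf (X ↘ Spec (CommRingCat.of k))) W) {M N : X.Modules}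
    (hN : Coh.IsQCoh N) (φ : M ⟶ N) (b c : ℕ) (h : c + b = n) (hs : Surj φ b) (x : Ext.{u + 1} N W c)
    (hx : (Ext.mk₀ φ).comp x (zero_add c) = 0) : x = 0 := by
  obtain ⟨τ, hτ⟩ := K461.SerreDual.exists_form k X n W hW
  apply Ext.ext
  rw [Ext.zero_hom]
  refine precomp_eq_zero k n τ hτ hN φ b c h hs _ ?_
  have h1 := congrArg Ext.hom hx
  rw [Ext.comp_hom, Ext.mk₀_hom, ShiftedHom.mk₀_comp, Ext.zero_hom] at h1
  exact h1

theorem isInverseOf_comm {X : Scheme.{u}} {A B : X.Modules} (h : ClSub.IsInverseOf A B) : ClSub.IsInverseOf B A := by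
  obtain ⟨hA, hB⟩ := Dix.IdealModCartier.isInvertible_of_isInverseOf h
  rw [isInverseOf_iff hA hB] at h
  rw [isInverseOf_iff hB hA, mul_comm, h]

/-- If `H^b(L⁻¹ ⊗ I) → H^b(L⁻¹)` is surjective, multiplication by `s` is injective on `H^c(W ⊗ L)`, `b + c = n`. -/
theorem hm_injective (k : Type u) [Field k] {X : Scheme.{u}} [X.Over (Spec (CommRingCat.of k))]
    [IsProper (X ↘ Spec (CommRingCat.of k))] (n : ℕ)
    [SmoothOfRelativeDimension n (X ↘ Spec (CommRingCat.of k))] {W : X.Modules}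
    (hW : ExtPow.IsExtPow n (Omega.sheaf (X ↘ Spec (CommRingCat.of k))) W) {P G Linv : X.Modules}
    (hP : PicF.IsInvertible P) (hG : PicF.IsInvertible G) (hPL : ClSub.IsInverseOf Linv P)
    (s : Coh.structureModule X ⟶ G) (hI : BlowUp.IsEffCartierIdeal (PicF2.zeroScheme G s)) {b c : ℕ} (h : c + b = n)
    (hs : Surj (LogNCD.inclTwist Linv (PicF2.zeroScheme G s)) b) :
    Function.Injective (Hm ((mulN s).app (CohB1.tensorMod W P)) c) := by
  have hLi : PicF.IsInvertible Linv := (Dix.IdealModCartier.isInvertible_of_isInverseOf hPL).1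
  have hPG : PicF.IsInvertible (CohB1.tensorMod P G) := isInvertible_tensorMod hP hG
  obtain ⟨Q, hQ, hQm⟩ := exists_mk (mk (CohB1.tensorMod P G) hPG)⁻¹
  obtain ⟨G', hG', hGm⟩ := exists_mk (mk G hG)⁻¹
  have hQi : ClSub.IsInverseOf Q (CohB1.tensorMod P G) := by
    rw [isInverseOf_iff hQ hPG, ← hQm, inv_mul_cancel]
  have hGi : ClSub.IsInverseOf G G' := by
    rw [isInverseOf_iff hG hG', ← hGm, mul_inv_cancel]
  obtain ⟨eQ⟩ := hQi
  obtain ⟨eG⟩ := hGi
  let L := DCoh.tensorRightMod G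
  let T := DCoh.tensorRightMod Q
  have hLe : L.IsEquivalence := Sga2.LefPow644.isEquivalence_of_inv eG
  have hTe : T.IsEquivalence := Sga2.LefPow644.isEquivalence_of_inv eQ
  have hL1 : PreservesFiniteLimits L := inferInstance
  have hT1 : PreservesFiniteLimits T := inferInstance
  let O := Coh.structureModule X
  let j : T.obj (L.obj (CohB1.tensorMod W P)) ≅ W :=
    T.mapIso (Ega2.Tens.assoc W P G) ≪≫ Ega2.Tens.assoc W (CohB1.tensorMod P G) Q ≪≫
      Ega2.Tens.mapTIso (Iso.refl W) (Ega2.Tens.swap _ _ ≪≫ eQ) ≪≫ Ega2.Tens.runit W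
  let φ : T.obj O ⟶ T.obj (L.obj O) := T.map ((mulN s).app O)
  have hOG : PicF.IsInvertible (CohB1.tensorMod O G) := isInvertible_tensorMod isInvertible_structureModule hG
  have hTLO : PicF.IsInvertible (T.obj (L.obj O)) := isInvertible_tensorMod hOG hQ
  have hφ : Surj φ b := by
    have e1 : mk (T.obj (L.obj O)) hTLO = mk Linv hLi := by
      change mk (CohB1.tensorMod (CohB1.tensorMod O G) Q) (isInvertible_tensorMod hOG hQ) = _
      rw [← mk_mul_mk hOG hQ, ← mk_mul_mk isInvertible_structureModule hG, ← one_def, one_mul, ← hQm, ← mk_mul_mk hP hG,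
        mul_inv, mul_comm, mul_assoc, inv_mul_cancel, mul_one]
      rw [isInverseOf_iff hLi hP] at hPL
      exact (eq_inv_of_mul_eq_one_left hPL).symm
    obtain ⟨a⟩ := (mk_eq_iff _ _).1 e1
    have hf := fun x => (frameAt_map_mulN hG hQ s x).comp_iso a
    have hm := mono_of_frames hf hI
    have hLf := Kol.isFinLocFree_of_isInvertible hLi
    have hm' := K913.TauAff.mono_inclTwist (PicF2.zeroScheme G s) hLf
    obtain ⟨e, he⟩ := exists_iso (hasIm_of_frames hf) (hasIm_inclTwist hLf hI)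
    exact Surj.of_iso e a he.symm hs
  rw [injective_iff_map_eq_zero]
  intro x hx
  have : HasExt.{u + 1} X.Modules := HasExt.standard _
  have : EnoughInjectives X.Modules := ExtUnit.enoughInjectives_modules X
  obtain ⟨e, rfl⟩ := (ExtUnit.extHH (CohB1.tensorMod W P) c).surjective x
  have h1 : e.comp (Ext.mk₀ ((mulN s).app (CohB1.tensorMod W P))) (add_zero c) = 0 := by
    apply (ExtUnit.extHH (L.obj (CohB1.tensorMod W P)) c).injective
    rw [map_zero]
    exact (ExtUnit.extHH_comp_mk₀ c e _).trans hx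
  have h2 := (Sga5.H858.ExtNat.comp_mk₀_app L (mulN s) O c (CohB1.tensorMod W P) e).trans h1
  have h3 := congrArg (fun z => z.mapExactFunctor T) h2
  beta_reduce at h3
  rw [Ext.mapExactFunctor_comp, Ext.mapExactFunctor_mk₀, Ext.mapExactFunctor_zero] at h3
  have h4 : (Ext.mk₀ φ).comp (((e.mapExactFunctor L).mapExactFunctor T).comp (Ext.mk₀ j.hom) (add_zero c))
      (zero_add c) = 0 := by
    rw [← Ext.comp_assoc _ _ _ (zero_add c) (add_zero c) (by omega)]
    refine (congrArg (fun z => Ext.comp z (Ext.mk₀ j.hom) (add_zero c)) h3).trans ?_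
    exact Ext.zero_comp (C := X.Modules) (X := T.obj O) (Y := T.obj (L.obj (CohB1.tensorMod W P))) (n := c)
      (Ext.mk₀ j.hom) c (add_zero c)
  have h5 := ext_eq_zero k n hW (PerfA.CohSerre.isCoh_of_isFinLocFree
    (Kol.isFinLocFree_of_isInvertible hTLO)).1 φ b c h hφ _ h4
  have h6 : (e.mapExactFunctor L).mapExactFunctor T = 0 := by
    have h7 := congrArg (fun z => Ext.comp z (Ext.mk₀ j.inv) (add_zero c)) h5
    beta_reduce at h7
    rw [Ext.zero_comp, Ext.comp_assoc _ _ _ (add_zero c) (zero_add 0) (by omega), Ext.mk₀_comp_mk₀,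
      j.hom_inv_id, Ext.comp_mk₀_id] at h7
    exact h7
  have h8 : e.mapExactFunctor L = 0 := by
    apply (Functor.mapExt_bijective_of_preservesInjectiveObjects T _ _ c).1
    change (e.mapExactFunctor L).mapExactFunctor T = (0 : Ext _ _ c).mapExactFunctor T
    rw [h6, Ext.mapExactFunctor_zero]
  have h9 : e = 0 := by
    apply (Functor.mapExt_bijective_of_preservesInjectiveObjects L _ _ c).1
    change e.mapExactFunctor L = (0 : Ext _ _ c).mapExactFunctor L
    rw [h8, Ext.mapExactFunctor_zero]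
  rw [h9, map_zero]

end main

end K660.Inj
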