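import Groth.Agent.Vanish.K660.GrProj

/-!
# S19527, S19526 modulo `Alt`, `Desc`, `EV`
-/

set_option autoImplicit false
universe u

open CategoryTheory CategoryTheory.Limits AlgebraicGeometry Opposite TopologicalSpace

namespace K660.Rows

open Groth.Agent Groth.Agent.Grpsch.PicGrp Groth.Agent.Fga.JacFactor Groth.Agent.Divis.EffCartier
open Groth.Agent.Fdesc.LocGen
open K909.AltInterface KolUp K931.Eff Semi

theorem row19527 (k : Type u) [Field k] [IsAlgClosed k] [CharZero k] (hAlt : Alt k) (hDesc : Desc k) (hEV : EV k)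
    (X : Scheme.{u}) [X.Over (Spec (CommRingCat.of k))] [IsProper (X ↘ Spec (CommRingCat.of k))]
    [Smooth (X ↘ Spec (CommRingCat.of k))] [IrreducibleSpace X] (n : ℕ) (hn : topologicalKrullDim X = n)
    (HX : X.Modules) (hHX : CohB1.IsAmple HX)
    (Z : Scheme.{u}) [Z.Over (Spec (CommRingCat.of k))] [IsIntegral Z] [IsProper (Z ↘ Spec (CommRingCat.of k))]
    (HZ : Z.Modules) (hHZ : CohB1.IsAmple HZ)
    (f : X ⟶ Z) (hf : f ≫ (Z ↘ Spec (CommRingCat.of k)) = X ↘ Spec (CommRingCat.of k)) [IsProper f] [Surjective f]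
    (ω : X.Modules) (hω : ExtPow.IsExtPow n (Omega.sheaf (X ↘ Spec (CommRingCat.of k))) ω)
    (L : X.Modules) (hL : PicF.IsInvertible L)
    (hsa : ∃ μ : ℕ, 0 < μ ∧ Curv2.IsGloballyGenerated (CohB1.tensorPow L μ))
    [HasInjectiveResolutions X.Modules] (b : ℕ) :
    TorSh.IsTorsionFree ((Coh.Rpush f b).obj (CohB1.tensorMod ω L)) := by
  have hX : IsIntegral X := K802.GoodPoint.isIntegral_of_smooth (X ↘ Spec (CommRingCat.of k))
  have hsZ : Z.IsSeparated := K931.Basic.isSeparated k Z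
  exact TFP.torsionFree k hAlt hDesc hEV X n hn HX hHX Z HZ hHZ f hω hL (InjP.posP_of_sa ((sa_mk hL).2 hsa)) b

theorem row19526 (k : Type u) [Field k] [IsAlgClosed k] [CharZero k] (hAlt : Alt k) (hDesc : Desc k) (hEV : EV k)
    (X : Scheme.{u}) [X.Over (Spec (CommRingCat.of k))] [IsProper (X ↘ Spec (CommRingCat.of k))]
    [Smooth (X ↘ Spec (CommRingCat.of k))] [IrreducibleSpace X] (n : ℕ) (hn : topologicalKrullDim X = n)
    (HX : X.Modules) (hHX : CohB1.IsAmple HX)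
    (Z : Scheme.{u}) [Z.Over (Spec (CommRingCat.of k))] [IsIntegral Z] [IsProper (Z ↘ Spec (CommRingCat.of k))]
    (HZ : Z.Modules) (hHZ : CohB1.IsAmple HZ)
    (f : X ⟶ Z) (hf : f ≫ (Z ↘ Spec (CommRingCat.of k)) = X ↘ Spec (CommRingCat.of k)) [IsProper f] [Surjective f]
    (ω : X.Modules) (hω : ExtPow.IsExtPow n (Omega.sheaf (X ↘ Spec (CommRingCat.of k))) ω)
    (hZ : topologicalKrullDim Z = n)
    (L : X.Modules) (hL : PicF.IsInvertible L)
    (hnef : (∀ (Y : Scheme.{u}) (i : Y ⟶ X) [IsClosedImmersion i], IsIntegral Y → topologicalKrullDim Y = 1 →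
      0 ≤ Pic13.curveDeg k (i ≫ (X ↘ Spec (CommRingCat.of k))) ((Scheme.Modules.pullback i).obj L)))
    [HasInjectiveResolutions X.Modules] (b : ℕ) (hb : 0 < b) :
    IsZero ((Coh.Rpush f b).obj (CohB1.tensorMod ω L)) := by
  have hX : IsIntegral X := K802.GoodPoint.isIntegral_of_smooth (X ↘ Spec (CommRingCat.of k))
  refine GrProj.isZero_rpush k hAlt hDesc hEV X n hn HX hHX Z HZ hHZ f hf hZ hω hL (fun a ha N => ?_) b hb
  obtain ⟨B, hB, rfl, hBa⟩ := ha
  rw [← mk_tensorPow hL, mk_mul_mk, amp_mk]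
  exact K909.Kleiman.isAmple_tensorPow_tensor k (K931.NakC.nak k) X n hn.le L B hnef hL hBa N

end K660.Rows
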