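import Groth.Agent.PerfB.FibreZero
import Groth.Agent.Dcoh.DerSch
import Groth.Agent.S0922

/-!
# The degenerate Leray spectral sequence for modules

`nonempty_iso`: if `R^q f_* F = 0` for all `q > 0` then `R^b g_*(f_* F) ≅ R^b (f ≫ g)_* F`.
-/

set_option autoImplicit false
universe u
open CategoryTheory CategoryTheory.Limits AlgebraicGeometry Opposite
attribute [local instance] HasDerivedCategory.standard

namespace K660.LerayPush

open Groth.Agent

theorem nonempty_iso {X Y Z : Scheme.{u}} (f : X ⟶ Y) (g : Y ⟶ Z) [HasInjectiveResolutions X.Modules]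
    [HasInjectiveResolutions Y.Modules] (F : X.Modules)
    (hvan : ∀ i : ℕ, 0 < i → IsZero ((Coh.Rpush f i).obj F)) (b : ℕ) :
    Nonempty ((Coh.Rpush g b).obj ((Scheme.Modules.pushforward f).obj F) ≅ (Coh.Rpush (f ≫ g) b).obj F) := by
  have h1 : DCoh.HasRpush f := Dcoh.DerSch.hasRpush f
  have h2 : DCoh.HasRpush g := Dcoh.DerSch.hasRpush g
  have h3 : DCoh.HasRpush (f ≫ g) := Dcoh.DerSch.hasRpush (f ≫ g)
  obtain ⟨e⟩ := PerfB.FibreZero.nonempty_Rpush_inD f F hvan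
  obtain ⟨e'⟩ := S0922.result f g
  exact ⟨(PerfC.RpushSingle.iso g b _).symm ≪≫
    (DerivedCategory.homologyFunctor _ (b : ℤ)).mapIso ((DCoh.Rpush g).mapIso e.symm ≪≫ e'.app _) ≪≫
      PerfC.RpushSingle.iso (f ≫ g) b F⟩

/-- `R^b g_*(f_* F) = 0` if `R^q f_* F = 0` and `R^q (f ≫ g)_* F = 0` for `q > 0`. -/
theorem isZero {X Y Z : Scheme.{u}} (f : X ⟶ Y) (g : Y ⟶ Z) [HasInjectiveResolutions X.Modules]
    [HasInjectiveResolutions Y.Modules] (F : X.Modules)
    (hvan : ∀ i : ℕ, 0 < i → IsZero ((Coh.Rpush f i).obj F)) (b : ℕ) (hb : IsZero ((Coh.Rpush (f ≫ g) b).obj F)) :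
    IsZero ((Coh.Rpush g b).obj ((Scheme.Modules.pushforward f).obj F)) := by
  obtain ⟨e⟩ := nonempty_iso f g F hvan b
  exact hb.of_iso e

end K660.LerayPush
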