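import Groth.Agent.Vanish.K660.GrProj
import Groth.Agent.Vanish.K660.LerayPush
import Groth.Agent.Vanish.K415.ChowAlt
import Groth.Agent.Vanish.K910.Split
import Groth.Agent.CohqA.FBCMain
import Groth.Agent.Dual.H366.ExtQCoh
import Groth.Agent.S15540
import Groth.Agent.CohqA.RpushLoc
import Groth.Agent.PerfA.Restrict
import Groth.Agent.Krr.H487.ExtPull
import Groth.Agent.Ega1.QcqsPush
import Groth.Agent.Cohder.RDLES

/-!
# Grauert-Riemenschneider for generically finite morphisms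

`gr_quasiProj`, `gr`: `π : X₁ ⟶ X` proper surjective, `X₁` smooth integral, `X` integral of the same dimension: then
`R^b π_* W = 0` for `b > 0`, `W` the canonical module of `X₁`.
-/

set_option autoImplicit false
universe u

open CategoryTheory CategoryTheory.Limits AlgebraicGeometry Opposite TopologicalSpace

namespace K660.GR

open Groth.Agent Groth.Agent.Grpsch.PicGrp Groth.Agent.Fga.JacFactor Groth.Agent.Divis.EffCartier
open Groth.Agent.Fdesc.LocGen
open K909.AltInterface KolUp K931.Eff Semi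
open Groth.Agent.Vanish.K415.ChowAlt

theorem isZero_of_retract {C D : Type*} [Category C] [Category D] [HasZeroMorphisms C] [HasZeroMorphisms D]
    (F : C ⥤ D) {M N : C} (i : M ⟶ N) (r : N ⟶ M) (h : i ≫ r = 𝟙 M) (hN : IsZero (F.obj N)) : IsZero (F.obj M) := by
  rw [IsZero.iff_id_eq_zero, ← F.map_id, ← h, F.map_comp, hN.eq_of_tgt (F.map i) 0, zero_comp]

/-- flat base change. -/
theorem fbc {X S X' S' : Scheme.{u}} {f : X ⟶ S} {g : S' ⟶ S} {g' : X' ⟶ X} {f' : X' ⟶ S'} (h : IsPullback g' f' f g)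
    [QuasiCompact f] [QuasiSeparated f] [Flat g] [HasInjectiveResolutions X.Modules]
    [HasInjectiveResolutions X'.Modules] {M : X.Modules} (hM : Coh.IsQCoh M) (i : ℕ) :
    Nonempty ((Scheme.Modules.pullback g).obj ((Coh.Rpush f i).obj M) ≅
      (Coh.Rpush f' i).obj ((Scheme.Modules.pullback g').obj M)) :=
  CohqA.FBCMain.nonempty_iso h M hM i

theorem enough (X : Scheme.{u}) [HasInjectiveResolutions X.Modules] : EnoughInjectives X.Modules :=
  Groth.Agent.Cohder.RDLES.enoughInjectives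

theorem fbc0 {X S X' S' : Scheme.{u}} {f : X ⟶ S} {g : S' ⟶ S} {g' : X' ⟶ X} {f' : X' ⟶ S'} (h : IsPullback g' f' f g)
    [QuasiCompact f] [QuasiSeparated f] [Flat g] {M : X.Modules} (hM : Coh.IsQCoh M) :
    Nonempty ((Scheme.Modules.pullback g).obj ((Scheme.Modules.pushforward f).obj M) ≅
      (Scheme.Modules.pushforward f').obj ((Scheme.Modules.pullback g').obj M)) := by
  have i1 := Dcoh.DerSch.hasInjectiveResolutions X
  have i2 := Dcoh.DerSch.hasInjectiveResolutions X'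
  have i3 := enough X
  have i4 := enough X'
  obtain ⟨e⟩ := fbc h hM 0
  exact ⟨(Scheme.Modules.pullback g).mapIso
    ((Functor.rightDerivedZeroIsoSelf (Scheme.Modules.pushforward f)).app M).symm ≪≫ e ≪≫
    (Functor.rightDerivedZeroIsoSelf (Scheme.Modules.pushforward f')).app _⟩

/-- The canonical module of an open subscheme. -/
theorem isExtPow_pullback {k : Type u} [Field k] {Y Y' : Scheme.{u}} {y : Y ⟶ Spec (CommRingCat.of k)}
    {y' : Y' ⟶ Spec (CommRingCat.of k)} [QuasiSeparated y] [QuasiSeparated y'] (v : Y' ⟶ Y) [IsOpenImmersion v]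
    (hv : v ≫ y = y') (n : ℕ) {W : Y.Modules} (hW : ExtPow.IsExtPow n (Omega.sheaf y) W) :
    ExtPow.IsExtPow n (Omega.sheaf y') ((Scheme.Modules.pullback v).obj W) :=
  S15540.result Y (Spec (CommRingCat.of k)) Y' (Spec (CommRingCat.of k)) y y' v (𝟙 _)
    (by rw [hv, Category.comp_id]) n W hW

theorem isExtPow_restrict {k : Type u} [Field k] {Y Y' : Scheme.{u}} {y : Y ⟶ Spec (CommRingCat.of k)}
    {y' : Y' ⟶ Spec (CommRingCat.of k)} [QuasiSeparated y] [QuasiSeparated y'] (v : Y' ⟶ Y) [IsOpenImmersion v]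
    (hv : v ≫ y = y') (n : ℕ) {W : Y.Modules} (hW : ExtPow.IsExtPow n (Omega.sheaf y) W) :
    ExtPow.IsExtPow n (Omega.sheaf y') (W.restrict v) :=
  Krr.H487.ExtPull.isExtPow_of_iso (isExtPow_pullback v hv n hW)
    ((Scheme.Modules.restrictFunctorIsoPullback v).symm.app W)

/-- Vanishing of `R^n f_*` is local on the base. -/
theorem isZero_of_local {X Y : Scheme.{u}} (f : X ⟶ Y) [HasInjectiveResolutions X.Modules] (M : X.Modules) (n : ℕ)
    (h : ∀ y : Y, ∃ V : Y.Opens, y ∈ V ∧ ∀ _ : HasInjectiveResolutions (f ⁻¹ᵁ V).toScheme.Modules,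
      IsZero ((Coh.Rpush (f ∣_ V) n).obj (M.restrict (f ⁻¹ᵁ V).ι))) : IsZero ((Coh.Rpush f n).obj M) := by
  refine PerfA.Restrict.isZero_of_restrict_opens _ fun y => ?_
  obtain ⟨V, hy, hV⟩ := h y
  have hI := Dcoh.DerSch.hasInjectiveResolutions (f ⁻¹ᵁ V).toScheme
  exact ⟨V, hy, (hV hI).of_iso (CohqA.RpushLoc.rpushResOpen f V n M)⟩

/-- `GrProj.isZero_rpush` for the trivial invertible module. -/
theorem isZero_proj (k : Type u) [Field k] [IsAlgClosed k] [CharZero k] (hAlt : Alt k) (hDesc : Desc k) (hEV : EV k)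
    {Y Z : Scheme.{u}} (z : Z ⟶ Spec (CommRingCat.of k)) (f : Y ⟶ Z) [IsIntegral Y] [IsIntegral Z] [IsProper z]
    [IsProper (f ≫ z)] [Smooth (f ≫ z)] (n : ℕ) (hn : topologicalKrullDim Y = n)
    (A : Y.Modules) (hA : CohB1.IsAmple A) (K : Z.Modules) (hK : CohB1.IsAmple K) [Surjective f]
    (hZ : topologicalKrullDim Z = n) {W : Y.Modules} (hW : ExtPow.IsExtPow n (Omega.sheaf (f ≫ z)) W)
    [HasInjectiveResolutions Y.Modules] (b : ℕ) (hb : 0 < b) : IsZero ((Coh.Rpush f b).obj W) := by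
  let : Z.Over (Spec (CommRingCat.of k)) := ⟨z⟩
  let : Y.Over (Spec (CommRingCat.of k)) := ⟨f ≫ z⟩
  have i1 : IsProper (Z ↘ Spec (CommRingCat.of k)) := ‹IsProper z›
  have i2 : IsProper (Y ↘ Spec (CommRingCat.of k)) := ‹IsProper (f ≫ z)›
  have i3 : Smooth (Y ↘ Spec (CommRingCat.of k)) := ‹Smooth (f ≫ z)›
  have h0 := GrProj.isZero_rpush k hAlt hDesc hEV Y n hn A hA Z K hK f rfl hZ hW
    (P := Coh.structureModule Y) isInvertible_structureModule (fun a ha N => by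
      have h1 : mk (Coh.structureModule Y) isInvertible_structureModule = 1 := rfl
      rwa [h1, one_pow, one_mul]) b hb
  exact h0.of_iso ((Coh.Rpush f b).mapIso (Ega2.Tens.runit W).symm)

/-- (GR) for a quasi-projective source. -/
theorem gr_quasiProj {k : Type u} [Field k] [IsAlgClosed k] [CharZero k] (hAlt : Alt k) (hDesc : Desc k) (hEV : EV k)
    {X₁ X : Scheme.{u}} (x : X ⟶ Spec (CommRingCat.of k)) (π : X₁ ⟶ X) [IsIntegral X₁] [IsIntegral X]
    [LocallyOfFiniteType x] [QuasiCompact x] [Smooth (π ≫ x)]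
    (hN : ∃ N : X.Modules, CohB1.IsAmple N) (hN₁ : ∃ N : X₁.Modules, CohB1.IsAmple N)
    [IsProper π] [Surjective π] (n : ℕ) (hn : topologicalKrullDim X = n) (hn₁ : topologicalKrullDim X₁ = n)
    {W : X₁.Modules} (hW : ExtPow.IsExtPow n (Omega.sheaf (π ≫ x)) W) [HasInjectiveResolutions X₁.Modules]
    (b : ℕ) (hb : 0 < b) : IsZero ((Coh.Rpush π b).obj W) := by
  obtain ⟨Zb, zb, j, H, hZb, hzb, hH, hj, hjz⟩ := exists_compactification k x hN
  have hqc : QuasiCompact (π ≫ x) := inferInstance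
  obtain ⟨d, c, hc, hcq, hcz⟩ := CalgB.ProjField.exists_immersion_projSpace (π ≫ x) hN₁
  obtain ⟨Xb, h, u, hu, A, hXb, hh, hA, huh, hur⟩ := exists_closure k d c zb H hH j π
    (by rw [hcz, Category.assoc, hjz])
  obtain ⟨Y, q, B, r, D, hY, hYs, hq, hqs, hdim, hB, -, -, -⟩ :=
    hAlt Xb (h ≫ zb) A hA ∅ isClosed_empty Set.empty_ne_univ.symm.symm
  have hdX : topologicalKrullDim Xb = n := by rw [← dim_of_openImmersion k (h ≫ zb) u]; exact hn₁
  have hdZ : topologicalKrullDim Zb = n := by rw [← dim_of_openImmersion k zb j]; exact hn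
  have hdY : topologicalKrullDim Y = n := hdim.trans hdX
  have hhs : Surjective h := by
    refine ⟨fun z => ?_⟩
    have hcl : IsClosed (Set.range h) := h.isClosedMap.isClosed_range
    have hsub : (j.opensRange : Set Zb) ⊆ Set.range h := by
      rintro _ ⟨y, rfl⟩
      obtain ⟨x', rfl⟩ := π.surjective y
      refine ⟨u x', ?_⟩
      have := congrArg (fun (φ : X₁ ⟶ Zb) => φ x') huh
      exact this
    have hne : (j.opensRange : Set Zb).Nonempty := ⟨_, ⟨π (Classical.arbitrary X₁), rfl⟩⟩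
    have hd : Dense (j.opensRange : Set Zb) := j.opensRange.isOpen.dense hne
    have h := (hd.mono hsub) z
    rwa [hcl.closure_eq] at h
  have hYs' : Smooth ((q ≫ h) ≫ zb) := by rw [Category.assoc]; exact hYs
  have hYI := Dcoh.DerSch.hasInjectiveResolutions Y
  have hXbI := Dcoh.DerSch.hasInjectiveResolutions Xb
  obtain ⟨V, hV⟩ := Dual.H366.ExtQCoh.exists_isExtPow n (CurvesB.OmegaStalkDict.isQCoh_omega (q ≫ h ≫ zb))
  have hV' : ExtPow.IsExtPow n (Omega.sheaf ((q ≫ h) ≫ zb)) V := by rw [Category.assoc]; exact hV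
  have hVq : Coh.IsQCoh V := K477.ExtCoh.isQCoh_of_isExtPow (CurvesB.OmegaStalkDict.isQCoh_omega _) hV
  have hz1 : ∀ i : ℕ, 0 < i → IsZero ((Coh.Rpush q i).obj V) := fun i hi =>
    isZero_proj k hAlt hDesc hEV (h ≫ zb) q n hdY B hB A hA hdX hV i hi
  have hz2 : ∀ i : ℕ, 0 < i → IsZero ((Coh.Rpush (q ≫ h) i).obj V) := fun i hi =>
    isZero_proj k hAlt hDesc hEV zb (q ≫ h) n hdY B hB H hH hdZ hV' i hi
  have hz3 := LerayPush.isZero q h V hz1 b (hz2 b hb)
  have hQq : Coh.IsQCoh ((Scheme.Modules.pushforward q).obj V) := Ega1.QcqsPush.isQCoh_pushforward q V hVq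
  -- the squares
  have sq1 : IsPullback (pullback.fst q u) (pullback.snd q u) q u := IsPullback.of_hasPullback q u
  have sq2 : IsPullback u π h j := (IsOpenImmersion.isPullback π u j h huh hur.symm).flip
  obtain ⟨e1⟩ := fbc0 sq1 hVq
  obtain ⟨e2⟩ := fbc sq2 hQq b
  have hz4 : IsZero ((Coh.Rpush π b).obj ((Scheme.Modules.pushforward (pullback.snd q u)).obj
      ((Scheme.Modules.pullback (pullback.fst q u)).obj V))) :=
    (Functor.map_isZero _ hz3).of_iso ((Coh.Rpush π b).mapIso e1.symm ≪≫ e2.symm)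
  -- splitting
  have hρs : Surjective (pullback.snd q u) := inferInstance
  have hne : Nonempty (pullback q u : Scheme.{u}) := by
    obtain ⟨y, -⟩ := (pullback.snd q u).surjective (Classical.arbitrary X₁)
    exact ⟨y⟩
  have hint : IsIntegral (pullback q u) := isIntegral_of_isOpenImmersion (pullback.fst q u)
  have hw : pullback.fst q u ≫ q ≫ h ≫ zb = pullback.snd q u ≫ π ≫ x := by
    rw [← Category.assoc, pullback.condition, Category.assoc, ← Category.assoc u, huh, Category.assoc, hjz]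
  have hsm : Smooth (pullback.snd q u ≫ π ≫ x) := by rw [← hw]; infer_instance
  have hdP : topologicalKrullDim (pullback q u : Scheme.{u}) = n := by
    rw [dim_of_openImmersion k (q ≫ h ≫ zb) (pullback.fst q u)]; exact hdY
  have : IsLocallyNoetherian X₁ := LocallyOfFiniteType.isLocallyNoetherian (π ≫ x)
  have : IsLocallyNoetherian (pullback q u : Scheme.{u}) :=
    LocallyOfFiniteType.isLocallyNoetherian (pullback.snd q u ≫ π ≫ x)
  let _ : X₁.Over (Spec (CommRingCat.of k)) := ⟨π ≫ x⟩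
  let _ : (pullback q u).Over (Spec (CommRingCat.of k)) := ⟨pullback.snd q u ≫ π ≫ x⟩
  have i1 : Smooth (X₁ ↘ Spec (CommRingCat.of k)) := ‹Smooth (π ≫ x)›
  have i2 : Smooth ((pullback q u) ↘ Spec (CommRingCat.of k)) := hsm
  have hWV : ExtPow.IsExtPow n (Omega.sheaf ((pullback q u) ↘ Spec (CommRingCat.of k)))
      ((Scheme.Modules.pullback (pullback.fst q u)).obj V) :=
    isExtPow_pullback (y := q ≫ h ≫ zb) (pullback.fst q u) hw n hV
  obtain ⟨i, r, hir⟩ := K910.Split.split n hn₁ hdP (pullback.snd q u) rfl hW hWV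
  exact isZero_of_retract _ i r hir hz4

/-- (GR) over a quasi-projective base. -/
theorem gr_overQuasiProj {k : Type u} [Field k] [IsAlgClosed k] [CharZero k] (hAlt : Alt k) (hDesc : Desc k)
    (hEV : EV k) {X₁ X : Scheme.{u}} (x : X ⟶ Spec (CommRingCat.of k)) (π : X₁ ⟶ X) [IsIntegral X₁] [IsIntegral X]
    [LocallyOfFiniteType x] [QuasiCompact x] [Smooth (π ≫ x)] (hN : ∃ N : X.Modules, CohB1.IsAmple N)
    [IsProper π] [Surjective π] (n : ℕ) (hn : topologicalKrullDim X = n) (hn₁ : topologicalKrullDim X₁ = n)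
    {W : X₁.Modules} (hW : ExtPow.IsExtPow n (Omega.sheaf (π ≫ x)) W) [HasInjectiveResolutions X₁.Modules]
    (b : ℕ) (hb : 0 < b) : IsZero ((Coh.Rpush π b).obj W) := by
  obtain ⟨Zb, zb, j, H, hj, Y, g, ρ, A, hZb, hzb, hH, hjz, hY, hg, hYs, hA, hgs, hdim, hρ, hρs, hcomm⟩ :=
    chowalt hAlt x hN π
  have hcomm' : (g ⁻¹ᵁ j.opensRange).ι ≫ g = (ρ ≫ π) ≫ j := by rw [← hcomm, Category.assoc]
  have hw : (g ⁻¹ᵁ j.opensRange).ι ≫ g ≫ zb = ρ ≫ π ≫ x := by
    rw [← Category.assoc, hcomm', Category.assoc, Category.assoc, hjz]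
  have hsm : Smooth (ρ ≫ π ≫ x) := by rw [← hw]; infer_instance
  have hne : Nonempty (g ⁻¹ᵁ j.opensRange).toScheme := by
    obtain ⟨y, -⟩ := ρ.surjective (Classical.arbitrary X₁)
    exact ⟨y⟩
  have hint : IsIntegral (g ⁻¹ᵁ j.opensRange).toScheme := isIntegral_of_isOpenImmersion (g ⁻¹ᵁ j.opensRange).ι
  have hdZ : topologicalKrullDim Zb = n := by rw [← dim_of_openImmersion k zb j]; exact hn
  have hdY : topologicalKrullDim Y = n := hdim.trans hn₁
  have hdU : topologicalKrullDim (g ⁻¹ᵁ j.opensRange).toScheme = n := by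
    rw [dim_of_openImmersion k (g ≫ zb) (g ⁻¹ᵁ j.opensRange).ι]; exact hdY
  have hLN₁ : IsLocallyNoetherian X₁ := LocallyOfFiniteType.isLocallyNoetherian (π ≫ x)
  have hLNY : IsLocallyNoetherian Y := LocallyOfFiniteType.isLocallyNoetherian (g ≫ zb)
  have hLNU : IsLocallyNoetherian (g ⁻¹ᵁ j.opensRange).toScheme :=
    LocallyOfFiniteType.isLocallyNoetherian (ρ ≫ π ≫ x)
  have hYI := Dcoh.DerSch.hasInjectiveResolutions Y
  have hUI := Dcoh.DerSch.hasInjectiveResolutions (g ⁻¹ᵁ j.opensRange).toScheme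
  obtain ⟨V, hV⟩ := Dual.H366.ExtQCoh.exists_isExtPow n (CurvesB.OmegaStalkDict.isQCoh_omega (g ≫ zb))
  have hVq : Coh.IsQCoh V := K477.ExtCoh.isQCoh_of_isExtPow (CurvesB.OmegaStalkDict.isQCoh_omega _) hV
  have hV' : ExtPow.IsExtPow n (Omega.sheaf (ρ ≫ π ≫ x))
      ((Scheme.Modules.pullback (g ⁻¹ᵁ j.opensRange).ι).obj V) := isExtPow_pullback _ hw n hV
  obtain ⟨V', hV'e⟩ : ∃ V', V' = (Scheme.Modules.pullback (g ⁻¹ᵁ j.opensRange).ι).obj V := ⟨_, rfl⟩
  rw [← hV'e] at hV'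
  have hzg : IsZero ((Coh.Rpush g b).obj V) := isZero_proj k hAlt hDesc hEV zb g n hdY A hA H hH hdZ hV b hb
  have sq : IsPullback (g ⁻¹ᵁ j.opensRange).ι (ρ ≫ π) g j :=
    (IsOpenImmersion.isPullback (ρ ≫ π) (g ⁻¹ᵁ j.opensRange).ι j g hcomm' (Scheme.Opens.opensRange_ι _).symm).flip
  obtain ⟨e2⟩ := fbc sq hVq b
  have hz2 : IsZero ((Coh.Rpush (ρ ≫ π) b).obj V') := by
    rw [hV'e]
    exact (Functor.map_isZero _ hzg).of_iso e2.symm
  have hz1 : ∀ i : ℕ, 0 < i → IsZero ((Coh.Rpush ρ i).obj V') := fun i hi => by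
    refine isZero_of_local ρ V' i fun t => ?_
    obtain ⟨T, hT, ht, -⟩ := exists_isAffineOpen_mem_and_subset (x := t) (U := ⊤) trivial
    refine ⟨T, ht, fun _ => ?_⟩
    have hTne : Nonempty T.toScheme := ⟨⟨t, ht⟩⟩
    have hTa : IsAffine T.toScheme := hT
    have hTi : IsIntegral T.toScheme := isIntegral_of_isOpenImmersion T.ι
    have hρT : (ρ ∣_ T) ≫ T.ι ≫ π ≫ x = (ρ ⁻¹ᵁ T).ι ≫ ρ ≫ π ≫ x := by
      rw [← Category.assoc, morphismRestrict_ι, Category.assoc]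
    have hsT : Smooth ((ρ ∣_ T) ≫ T.ι ≫ π ≫ x) := by rw [hρT]; infer_instance
    obtain ⟨y, hy⟩ := ρ.surjective t
    have hUne : Nonempty (ρ ⁻¹ᵁ T).toScheme := ⟨⟨y, by change ρ y ∈ T; rw [hy]; exact ht⟩⟩
    have hUi : IsIntegral (ρ ⁻¹ᵁ T).toScheme := isIntegral_of_isOpenImmersion (ρ ⁻¹ᵁ T).ι
    have hsu : Surjective (ρ ∣_ T) := MorphismProperty.of_isPullback (isPullback_morphismRestrict ρ T).flip hρs
    refine gr_quasiProj hAlt hDesc hEV (T.ι ≫ π ≫ x) (ρ ∣_ T)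
      (CalgB.ProjField.exists_isAmple_of_isAffine T.toScheme) ⟨_, CalgB.AmpleBase.isAmple_pullback_of_isImmersion
        ((ρ ⁻¹ᵁ T).ι ≫ (g ⁻¹ᵁ j.opensRange).ι) hA⟩ n ?_ ?_ ?_ i hi
    · rw [dim_of_openImmersion k (π ≫ x) T.ι]; exact hn₁
    · rw [dim_of_openImmersion k (ρ ≫ π ≫ x) (ρ ⁻¹ᵁ T).ι]; exact hdU
    · exact isExtPow_restrict (y := ρ ≫ π ≫ x) (ρ ⁻¹ᵁ T).ι hρT.symm n hV'
  have hz3 := LerayPush.isZero ρ π V' hz1 b hz2
  let _ : X₁.Over (Spec (CommRingCat.of k)) := ⟨π ≫ x⟩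
  let _ : (g ⁻¹ᵁ j.opensRange).toScheme.Over (Spec (CommRingCat.of k)) := ⟨ρ ≫ π ≫ x⟩
  have i1 : Smooth (X₁ ↘ Spec (CommRingCat.of k)) := ‹Smooth (π ≫ x)›
  have i2 : Smooth ((g ⁻¹ᵁ j.opensRange).toScheme ↘ Spec (CommRingCat.of k)) := hsm
  obtain ⟨i, r, hir⟩ := K910.Split.split n hn₁ hdU ρ rfl hW hV'
  exact isZero_of_retract _ i r hir hz3

/-- **(GR)** `π : X₁ ⟶ X` proper surjective, `X₁` smooth integral, `X` integral of the same dimension: then
`R^b π_* W = 0` for `b > 0`, `W` the canonical module of `X₁`. -/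
theorem gr {k : Type u} [Field k] [IsAlgClosed k] [CharZero k] (hAlt : Alt k) (hDesc : Desc k)
    (hEV : EV k) {X₁ X : Scheme.{u}} (x : X ⟶ Spec (CommRingCat.of k)) (π : X₁ ⟶ X) [IsIntegral X₁] [IsIntegral X]
    [LocallyOfFiniteType x] [Smooth (π ≫ x)] [IsProper π] [Surjective π] (n : ℕ) (hn : topologicalKrullDim X = n)
    (hn₁ : topologicalKrullDim X₁ = n) {W : X₁.Modules} (hW : ExtPow.IsExtPow n (Omega.sheaf (π ≫ x)) W)
    [HasInjectiveResolutions X₁.Modules] (b : ℕ) (hb : 0 < b) : IsZero ((Coh.Rpush π b).obj W) := by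
  refine isZero_of_local π W b fun t => ?_
  obtain ⟨T, hT, ht, -⟩ := exists_isAffineOpen_mem_and_subset (x := t) (U := ⊤) trivial
  refine ⟨T, ht, fun _ => ?_⟩
  have hLN₁ : IsLocallyNoetherian X₁ := LocallyOfFiniteType.isLocallyNoetherian (π ≫ x)
  have hTne : Nonempty T.toScheme := ⟨⟨t, ht⟩⟩
  have hTa : IsAffine T.toScheme := hT
  have hTi : IsIntegral T.toScheme := isIntegral_of_isOpenImmersion T.ι
  have hπT : (π ∣_ T) ≫ T.ι ≫ x = (π ⁻¹ᵁ T).ι ≫ π ≫ x := by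
    rw [← Category.assoc, morphismRestrict_ι, Category.assoc]
  have hsT : Smooth ((π ∣_ T) ≫ T.ι ≫ x) := by rw [hπT]; infer_instance
  obtain ⟨y, hy⟩ := π.surjective t
  have hUne : Nonempty (π ⁻¹ᵁ T).toScheme := ⟨⟨y, by change π y ∈ T; rw [hy]; exact ht⟩⟩
  have hUi : IsIntegral (π ⁻¹ᵁ T).toScheme := isIntegral_of_isOpenImmersion (π ⁻¹ᵁ T).ι
  have hLN₂ : IsLocallyNoetherian (π ⁻¹ᵁ T).toScheme := LocallyOfFiniteType.isLocallyNoetherian ((π ∣_ T) ≫ T.ι ≫ x)
  have hsu : Surjective (π ∣_ T) := MorphismProperty.of_isPullback (isPullback_morphismRestrict π T).flip ‹Surjective π›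
  refine gr_overQuasiProj hAlt hDesc hEV (T.ι ≫ x) (π ∣_ T)
    (CalgB.ProjField.exists_isAmple_of_isAffine T.toScheme) n ?_ ?_ ?_ b hb
  · rw [dim_of_openImmersion k x T.ι]; exact hn
  · rw [dim_of_openImmersion k (π ≫ x) (π ⁻¹ᵁ T).ι]; exact hn₁
  · exact isExtPow_restrict (y := π ≫ x) (π ⁻¹ᵁ T).ι hπT.symm n hW

end K660.GR
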