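import Groth.Agent.Vanish.K660.Van
import Groth.Agent.Vanish.K660.Inj
import Groth.Agent.Fga.EulerLEAdd

/-!
# Kollár's injectivity

`PosP c`: there is an effective divisor `C` with `c^N(-C)` semi-ample for arbitrarily large `N` (e.g. `c` semi-ample).
`injP`: on a projective manifold `X` with canonical sheaf `W`, for `L` with `PosP` and `s ≠ 0` a section of `G` with
`L^ν ⊗ G⁻¹` effective for some `ν`, the multiplication `H^c(W ⊗ L) → H^c(W ⊗ L ⊗ G)` by `s` is injective for all `c`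
(modulo `Alt`, `Desc`, `EV`).
-/

set_option autoImplicit false
universe u

open CategoryTheory CategoryTheory.Limits AlgebraicGeometry Opposite TopologicalSpace

namespace K660.InjP

open Groth.Agent Groth.Agent.Grpsch.PicGrp Groth.Agent.Fga.JacFactor Groth.Agent.Divis.EffCartier
open Groth.Agent.Fdesc.LocGen
open K909.AltInterface KolUp K931.Eff Semi K660.Frame

/-- `c^N(-C)` is semi-ample for a fixed effective `C` and arbitrarily large `N`. -/
def PosP {X : Scheme.{u}} (c : Pic X) : Prop :=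
  ∃ (C : X.IdealSheafData) (hC : BlowUp.IsEffCartierIdeal C), ∀ N₀ : ℕ, ∃ N, N₀ ≤ N ∧ SA (c ^ N * dcl C hC)

theorem posP_of_sa {X : Scheme.{u}} {c : Pic X} (h : SA c) : PosP c :=
  ⟨⊤, isEff_top, fun N₀ => ⟨N₀, le_rfl, by rw [dcl_top, mul_one]; exact h.pow N₀⟩⟩

/-- Surjectivity `H^b(L⁻¹ ⊗ I) → H^b(L⁻¹)` from (P). -/
theorem surjP {k : Type u} [Field k] [IsAlgClosed k] [CharZero k] (hAlt : Alt k) (hDesc : Desc k) (hEV : EV k)
    {X : Scheme.{u}} (f : X ⟶ Spec (CommRingCat.of k)) [IsIntegral X] [IsProper f] [Smooth f] (n : ℕ)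
    (hn : topologicalKrullDim X = n) (A : X.Modules) (hA : CohB1.IsAmple A) {L Linv : X.Modules}
    (hL : PicF.IsInvertible L) (hLinv : ClSub.IsInverseOf Linv L) (hP : PosP (mk L hL)) (I : X.IdealSheafData)
    (hI : BlowUp.IsEffCartierIdeal I) (ν : ℕ) (hsec : Eff (mk L hL ^ ν * dcl I hI)) (b : ℕ) :
    Surj (LogNCD.inclTwist Linv I) b := by
  obtain ⟨C, hC, h⟩ := hP
  obtain ⟨D, hD, hd⟩ := Eff.exists_div hsec
  have hID := isEff_mul hI hD
  refine kolc f n hn A hA hL hLinv hAlt hDesc hEV (I * D * C) I (isEff_mul hID hC) hI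
    (fun x hx => mem_support_mul (mem_support_mul hx)) (fun N₀ => ?_) b
  obtain ⟨N, hN, hN'⟩ := h N₀
  refine ⟨ν + N, by omega, ?_⟩
  have : mk L hL ^ (ν + N) * dcl (I * D * C) (isEff_mul hID hC) = mk L hL ^ N * dcl C hC := by
    rw [dcl_mul hID hC, dcl_mul hI hD, hd, mul_inv, pow_add]
    rw [show mk L hL ^ ν * mk L hL ^ N * (dcl I hI * ((mk L hL ^ ν)⁻¹ * (dcl I hI)⁻¹) * dcl C hC) =
      mk L hL ^ N * dcl C hC * (mk L hL ^ ν * (mk L hL ^ ν)⁻¹) * (dcl I hI * (dcl I hI)⁻¹) by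
        simp only [mul_comm, mul_left_comm, mul_assoc]]
    rw [mul_inv_cancel, mul_inv_cancel, mul_one, mul_one]
  rw [this]
  exact hN'

/-- Kollár's injectivity. -/
theorem injP {k : Type u} [Field k] [IsAlgClosed k] [CharZero k] (hAlt : Alt k) (hDesc : Desc k) (hEV : EV k)
    {X : Scheme.{u}} [X.Over (Spec (CommRingCat.of k))] [IsIntegral X] [IsProper (X ↘ Spec (CommRingCat.of k))]
    [Smooth (X ↘ Spec (CommRingCat.of k))] (n : ℕ) (hn : topologicalKrullDim X = n)
    (A : X.Modules) (hA : CohB1.IsAmple A) {W : X.Modules}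
    (hW : ExtPow.IsExtPow n (Omega.sheaf (X ↘ Spec (CommRingCat.of k))) W) {L : X.Modules}
    (hL : PicF.IsInvertible L) (hP : PosP (mk L hL)) {G : X.Modules} (hG : PicF.IsInvertible G)
    (s : Coh.structureModule X ⟶ G) (hs : s ≠ 0) (ν : ℕ) (hν : Eff (mk L hL ^ ν / mk G hG)) (c : ℕ) :
    Function.Injective (Hm ((mulN s).app (CohB1.tensorMod W L)) c) := by
  have hcomp : CompactSpace X := hA.2.1
  have hLN : IsLocallyNoetherian X := LocallyOfFiniteType.isLocallyNoetherian (X ↘ Spec (CommRingCat.of k))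
  have hN : IsNoetherian X := {}
  rcases le_or_gt c n with hcn | hcn
  · have hrel : SmoothOfRelativeDimension n (X ↘ Spec (CommRingCat.of k)) :=
      Picfga.CurveRelDim.smoothOfRelativeDimension_of_topologicalKrullDim_eq k X (X ↘ Spec (CommRingCat.of k)) n hn
    obtain ⟨Li, hLi, hLm⟩ := exists_mk (mk L hL)⁻¹
    have hLinv : ClSub.IsInverseOf Li L := by
      rw [isInverseOf_iff hLi hL, ← hLm, inv_mul_cancel]
    have hI := K513.Theta1.isEffCartierIdeal_zeroScheme hG s hs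
    have hdcl : dcl (PicF2.zeroScheme G s) hI = (mk G hG)⁻¹ := by
      rw [Groth.Agent.Fga.ZeroClass.mk_eq_inv_dcl hG (sec s ⊤) (K513.Theta1.isZeroIdeal_zeroScheme hG s) hI, inv_inv]
    refine Inj.hm_injective k n hW hL hG hLinv s hI (b := n - c) (c := c) (by omega)
      (surjP hAlt hDesc hEV (X ↘ Spec (CommRingCat.of k)) n hn A hA hL hLinv hP _ hI ν ?_ _)
    rw [hdcl, ← div_eq_mul_inv]
    exact hν
  · have := Groth.Agent.Fga.EulerLEAdd.subsingleton_HH X n hn.le (CohB1.tensorMod W L) c hcn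
    exact fun x y _ => this.elim x y

end K660.InjP
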