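import Groth.Agent.S1982
import Groth.Agent.Etalg.RamTower
import Groth.Agent.Etalg.RamDVR
import Groth.Agent.Etalg.RamBasic
import Groth.Agent.Etalg.RamApp

/-!
# Abhyankar's lemma for discrete valuation rings in residue characteristic zero, degree form

`map_maximalIdeal`: for extensions of discrete valuation rings `A → A' → W` with fraction fields `K ⊂ K₁ ⊂ M`, where `M` is
generated over `K₁` by a subfield `L` of finite degree over `K`, residue characteristic zero: if `[L : K]!` divides the
ramification index of `A → A'`, then the maximal ideal of `A'` generates that of `W`.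
-/

set_option autoImplicit false
universe u

open IsLocalRing EtRam Groth.Agent.Etalg

namespace K660.AbhDvr

section Bound

variable {A K F : Type u} [CommRing A] [IsDomain A] [IsDiscreteValuationRing A] [Field K] [Algebra A K]
  [IsFractionRing A K] [Field F] [Algebra K F] [FiniteDimensional K F]

/-- The ramification index of a valuation ring of a finite extension divides the factorial of the degree. -/
theorem ramificationIdx'_dvd_factorial (W : ValuationSubring F) [IsDiscreteValuationRing W]
    (h : Dominates A ((algebraMap K F).comp (algebraMap A K)) W) [Algebra A W]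
    (hA : ∀ a : A, ((algebraMap A W a : W) : F) = algebraMap K F (algebraMap A K a)) :
    Ideal.ramificationIdx' (maximalIdeal A) (maximalIdeal W) ∣ (Module.finrank K F).factorial := by
  have hloc : IsLocalHom (algebraMap A W) := by
    have h1 := RamBasic.Dominates.isLocalHom h
    have h2 : (((algebraMap K F).comp (algebraMap A K)).codRestrict W h.1) = algebraMap A W := by
      ext a
      exact (hA a).symm
    rwa [h2] at h1
  have hinj : Function.Injective (algebraMap A W) := by
    intro a b hab
    have h1 := congrArg (Subtype.val : W → F) hab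
    rw [hA, hA] at h1
    exact IsFractionRing.injective A K ((algebraMap K F).injective h1)
  obtain ⟨ϖ, hϖ⟩ := IsDiscreteValuationRing.exists_irreducible A
  obtain ⟨ρ, hρ⟩ := IsDiscreteValuationRing.exists_irreducible W
  obtain ⟨he0, u, hu⟩ := RamApp.exists_unit_ramificationIdx hinj hϖ hρ
  set e := Ideal.ramificationIdx' (maximalIdeal A) (maximalIdeal W) with he
  have hρ0 : (ρ : F) ≠ 0 := fun h0 => hρ.ne_zero (Subtype.ext h0)
  obtain ⟨n, hn0, hn, k, hk⟩ := RamDVR.exists_pow_eq_zpow h hϖ (ρ : F) hρ0
  have hv1 : W.valuation (algebraMap K F (algebraMap A K ϖ)) = W.valuation (ρ : F) ^ e := by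
    rw [← hA, hu, ← map_pow]
    push_cast
    rw [map_mul]
    have : W.valuation ((u : W) : F) = 1 := (W.valuation_eq_one_iff _).1 u.isUnit
    rw [this, one_mul]
  rw [hv1, ← zpow_natCast, ← zpow_natCast, ← zpow_mul] at hk
  have hlt : W.valuation (ρ : F) < 1 := by
    exact (ValuationSubring.valuation_lt_one_iff _ _).1 ((mem_maximalIdeal _).2 hρ.not_isUnit)
  have hv0 : 0 < W.valuation (ρ : F) := zero_lt_iff.mpr ((Valuation.ne_zero_iff _).mpr hρ0)
  have hnk : (n : ℤ) = (e : ℤ) * k := (zpow_right_strictAnti₀ hv0 hlt).injective hk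
  have hdvd : e ∣ n := Int.natCast_dvd_natCast.1 ⟨k, hnk⟩
  exact hdvd.trans (Nat.dvd_factorial hn0 hn)

end Bound

variable {A A' W K K₁ M : Type u} [CommRing A] [IsDomain A] [IsDiscreteValuationRing A]
  [CommRing A'] [IsDomain A'] [IsDiscreteValuationRing A'] [CommRing W] [IsDomain W] [IsDiscreteValuationRing W]
  [Algebra A A'] [Algebra A' W] [IsLocalHom (algebraMap A A')] [IsLocalHom (algebraMap A' W)]
  [Field K] [Field K₁] [Field M] [Algebra A K] [IsFractionRing A K] [Algebra A' K₁] [IsFractionRing A' K₁]
  [Algebra W M] [IsFractionRing W M] [Algebra K K₁] [Algebra K₁ M] [Algebra K M] [IsScalarTower K K₁ M]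

/-- Abhyankar's lemma, degree form. -/
theorem map_maximalIdeal [FiniteDimensional K K₁] [CharZero (ResidueField A)]
    (h1 : ∀ a : A, algebraMap K K₁ (algebraMap A K a) = algebraMap A' K₁ (algebraMap A A' a))
    (h2 : ∀ a : A', algebraMap K₁ M (algebraMap A' K₁ a) = algebraMap W M (algebraMap A' W a))
    (L : IntermediateField K M) [FiniteDimensional K L]
    (hgen : ∀ F : Subfield M, (∀ x : K₁, algebraMap K₁ M x ∈ F) → (∀ x ∈ L, x ∈ F) → F = ⊤)
    (hdvd : (Module.finrank K L).factorial ∣
      Ideal.ramificationIdx' (maximalIdeal A) (maximalIdeal A')) :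
    (maximalIdeal A').map (algebraMap A' W) = maximalIdeal W := by
  have hinj1 : Function.Injective (algebraMap A A') := by
    intro a b hab
    have := congrArg (algebraMap A' K₁) hab
    rw [← h1, ← h1] at this
    exact IsFractionRing.injective A K ((algebraMap K K₁).injective this)
  have hinj2 : Function.Injective (algebraMap A' W) := by
    intro a b hab
    have := congrArg (algebraMap W M) hab
    rw [← h2, ← h2] at this
    exact IsFractionRing.injective A' K₁ ((algebraMap K₁ M).injective this)
  have h3 : ∀ a : A, algebraMap K M (algebraMap A K a) = algebraMap W M (algebraMap A' W (algebraMap A A' a)) := by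
    intro a
    rw [IsScalarTower.algebraMap_apply K K₁ M, h1, h2]
  set Wv : ValuationSubring M := RamBasic.vsub W M with hWv
  -- `A` is dominated by `Wv`
  have hdomA : Dominates A ((algebraMap K M).comp (algebraMap A K)) Wv := by
    refine ⟨fun a => ?_, fun a ha => ?_⟩
    · rw [RingHom.comp_apply, h3]
      exact RamBasic.algebraMap_mem_vsub W M _
    · rw [RingHom.comp_apply, h3, RamBasic.vsub_valuation_lt_one_iff]
      have h4 : algebraMap A A' a ∈ maximalIdeal A' := by
        rw [mem_maximalIdeal, mem_nonunits_iff] at ha ⊢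
        exact fun hh => ha (isUnit_of_map_unit (algebraMap A A') a hh)
      rw [mem_maximalIdeal, mem_nonunits_iff] at h4 ⊢
      exact fun hh => h4 (isUnit_of_map_unit (algebraMap A' W) _ hh)
  have hdomA' : Dominates A' ((algebraMap K₁ M).comp (algebraMap A' K₁)) Wv := by
    refine ⟨fun a => ?_, fun a ha => ?_⟩
    · rw [RingHom.comp_apply, h2]
      exact RamBasic.algebraMap_mem_vsub W M _
    · rw [RingHom.comp_apply, h2, RamBasic.vsub_valuation_lt_one_iff]
      rw [mem_maximalIdeal, mem_nonunits_iff] at ha ⊢
      exact fun hh => ha (isUnit_of_map_unit (algebraMap A' W) _ hh)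
  have hV : Wv.comap (algebraMap K₁ M) = RamBasic.vsub A' K₁ :=
    (RamBasic.dominates_comp_algebraMap_iff _).1 hdomA'
  -- the valuation ring `B` of `L`
  set B : ValuationSubring L := Wv.comap (algebraMap L M) with hB
  have hdomB : Dominates A ((algebraMap K L).comp (algebraMap A K)) B := by
    rw [hB, ← RamBasic.dominates_comp_iff]
    have : (algebraMap L M).comp ((algebraMap K L).comp (algebraMap A K)) =
        (algebraMap K M).comp (algebraMap A K) := rfl
    rw [this]
    exact hdomA
  have hDVRB : IsDiscreteValuationRing B := RamDVR.isDVR_of_dominates hdomB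
  let _ : Algebra A B := (((algebraMap K L).comp (algebraMap A K)).codRestrict B hdomB.1).toAlgebra
  let _ : Algebra A L := ((algebraMap K L).comp (algebraMap A K)).toAlgebra
  have : IsScalarTower A K L := IsScalarTower.of_algebraMap_eq' rfl
  have : IsScalarTower A B L := IsScalarTower.of_algebraMap_eq' rfl
  have hlocB : IsLocalHom (algebraMap A B) := RamBasic.Dominates.isLocalHom hdomB
  have hinjB : Function.Injective (algebraMap A B) := by
    intro a b hab
    have h4 : algebraMap B L (algebraMap A B a) = algebraMap B L (algebraMap A B b) := by rw [hab]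
    rw [← IsScalarTower.algebraMap_apply A B L, ← IsScalarTower.algebraMap_apply A B L,
      IsScalarTower.algebraMap_apply A K L, IsScalarTower.algebraMap_apply A K L] at h4
    exact IsFractionRing.injective A K ((algebraMap K L).injective h4)
  have heB : Ideal.ramificationIdx' (maximalIdeal A) (maximalIdeal B) ∣ (Module.finrank K L).factorial :=
    ramificationIdx'_dvd_factorial (K := K) B hdomB (fun a => rfl)
  have hdomBW : Dominates B ((algebraMap L M).comp (algebraMap B L)) Wv := by
    rw [RamBasic.dominates_comp_iff]
    refine ⟨fun b => b.2, fun b hb => ?_⟩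
    exact (ValuationSubring.valuation_lt_one_iff _ _).1 hb
  -- generation
  have hadj : Algebra.adjoin L (Set.range (algebraMap K₁ M)) = ⊤ := by
    have hint : ∀ x ∈ Set.range (algebraMap K₁ M), IsAlgebraic L x := by
      rintro _ ⟨x, rfl⟩
      have h4 : IsIntegral K x := Algebra.IsIntegral.isIntegral x
      have h5 : IsIntegral K (algebraMap K₁ M x) := h4.algebraMap
      exact (h5.tower_top (A := L)).isAlgebraic
    have h4 := IntermediateField.adjoin_toSubalgebra_of_isAlgebraic (F := L) (E := M) hint
    rw [← h4]
    have h5 : (IntermediateField.adjoin L (Set.range (algebraMap K₁ M))).toSubfield = ⊤ := by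
      refine hgen _ (fun x => ?_) (fun x hx => ?_)
      · exact IntermediateField.subset_adjoin _ _ ⟨x, rfl⟩
      · exact (IntermediateField.adjoin L (Set.range (algebraMap K₁ M))).algebraMap_mem ⟨x, hx⟩
    ext x
    have h6 : x ∈ (IntermediateField.adjoin L (Set.range (algebraMap K₁ M))).toSubfield := by
      rw [h5]; trivial
    exact ⟨fun _ => trivial, fun _ => h6⟩
  have hA : ∀ a : A, (algebraMap K K₁) (algebraMap A K a) ∈ Wv.comap (algebraMap K₁ M) := by
    intro a
    rw [ValuationSubring.mem_comap, ← IsScalarTower.algebraMap_apply K K₁ M]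
    exact hdomA.1 a
  have key := Groth.Agent.S1982.result A B K L hinjB (Or.inl inferInstance) K₁ M hadj Wv hdomBW hA
  -- compare `A'` and `V`
  set V := Wv.comap (algebraMap K₁ M) with hVdef
  have hmemV : ∀ a : A', algebraMap A' K₁ a ∈ V := fun a => by
    rw [hV]; exact RamBasic.algebraMap_mem_vsub A' K₁ a
  let φ : A' →+* V := (algebraMap A' K₁).codRestrict V hmemV
  have hφ : Function.Bijective φ := by
    refine ⟨fun a b hab => IsFractionRing.injective A' K₁ (congrArg Subtype.val hab), ?_⟩
    rintro ⟨x, hx⟩
    have hx' : x ∈ RamBasic.vsub A' K₁ := by rw [← hV]; exact hx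
    obtain ⟨a, ha⟩ := hx'
    exact ⟨a, Subtype.ext ha⟩
  let eφ : A' ≃+* V := RingEquiv.ofBijective φ hφ
  have hDVRV : IsDiscreteValuationRing V :=
    IsDiscreteValuationRing.RingEquivClass.isDiscreteValuationRing eφ
  have hmφ : (maximalIdeal A').map φ = maximalIdeal V := by
    exact IsLocalRing.map_ringEquiv_maximalIdeal eφ
  let iAV : Algebra A V := (RingHom.codRestrict ((algebraMap K K₁).comp (algebraMap A K)) V hA).toAlgebra
  let iVW : Algebra V Wv := (EtRam.inclOfComap Wv (algebraMap K₁ M)).toAlgebra
  have hcomp : (algebraMap A V : A →+* V) = φ.comp (algebraMap A A') := by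
    ext a
    exact h1 a
  have hlocV : IsLocalHom (algebraMap A V) := by
    rw [hcomp]
    have : IsLocalHom φ := by
      refine ⟨fun a ha => ?_⟩
      have h4 : IsUnit (eφ a) := ha
      exact (MulEquiv.isUnit_map eφ).1 h4
    infer_instance
  have hinjV : Function.Injective (algebraMap A V) := by
    rw [hcomp]
    exact hφ.1.comp hinj1
  have hramV : Ideal.ramificationIdx' (maximalIdeal A) (maximalIdeal V) =
      Ideal.ramificationIdx' (maximalIdeal A) (maximalIdeal A') := by
    rw [RamTower.ramificationIdx'_eq_iff hinjV, hcomp, ← Ideal.map_map,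
      RamTower.map_maximalIdeal_eq_pow hinj1, Ideal.map_pow, hmφ]
  have hweak : (maximalIdeal V).map (algebraMap V Wv) = maximalIdeal Wv := by
    refine (key ?_).1
    rw [hramV]
    exact heB.trans hdvd
  -- transport to `A' → W`
  let eW : W ≃+* Wv := RamBasic.equivVsub W M
  have hcomp2 : (eW : W →+* Wv).comp (algebraMap A' W) = (algebraMap V Wv).comp φ := by
    ext a
    exact (h2 a).symm
  have hmW : (maximalIdeal W).map (eW : W →+* Wv) = maximalIdeal Wv := IsLocalRing.map_ringEquiv_maximalIdeal eW
  have h6 : ((maximalIdeal A').map (algebraMap A' W)).map (eW : W →+* Wv) =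
      (maximalIdeal W).map (eW : W →+* Wv) := by
    rw [Ideal.map_map, hcomp2, ← Ideal.map_map, hmφ, hweak, hmW]
  have h7 := congrArg (Ideal.comap (eW : W →+* Wv)) h6
  have h8 : ∀ I : Ideal W, (I.map (eW : W →+* Wv)).comap (eW : W →+* Wv) = I := fun I =>
    Ideal.comap_map_of_bijective _ eW.bijective
  rwa [h8, h8] at h7

end K660.AbhDvr
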