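import Groth.Agent.Vanish.K660.FF
import Groth.Agent.Vanish.K660.AbhDvr
import Groth.Agent.EtLocal.K590.StalkCrit
import Groth.Agent.ChowMon.K804.ResDeg
import Mathlib.AlgebraicGeometry.Morphisms.FiniteType
import Mathlib.FieldTheory.Perfect

/-!
# Abhyankar's lemma at a point of codimension one, for a normal finite cover dominating a base change

`formallyUnramified_stalkMap`: `B ← P ← Z ← Y → X → B` as in the construction of alterations: `q : X ⟶ B` finite,
`τ : Z ⟶ P`, `g : Y ⟶ Z` finite, `h : Y ⟶ X`, the function field of `Y` generated by those of `Z` and `X`; at a point `x` of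
`Y` at which the three local rings are discrete valuation rings and `[K(X) : K(B)]!` divides the ramification of `τ`, the
morphism `g` is unramified.
-/

set_option autoImplicit false
universe u

open CategoryTheory AlgebraicGeometry TopologicalSpace IsLocalRing

namespace K660.Core

/-- Local rings of schemes over a field of characteristic zero have residue characteristic zero. -/
theorem charZero_residueField {k : Type u} [Field k] [CharZero k] {P : Scheme.{u}}
    (s : P ⟶ Spec (CommRingCat.of k)) (y : P) : CharZero (ResidueField (P.presheaf.stalk y)) := by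
  let φ : k →+* ResidueField (P.presheaf.stalk y) :=
    (residue (P.presheaf.stalk y)).comp (((s.appLE ⊤ ⊤ le_top) ≫ P.presheaf.germ ⊤ y trivial).hom.comp
      (Scheme.ΓSpecIso (CommRingCat.of k)).inv.hom)
  exact charZero_of_injective_ringHom φ.injective

variable {k : Type u} [Field k] [CharZero k] {B P Z X Y : Scheme.{u}} [IsIntegral B] [IsIntegral P]
  [IsIntegral Z] [IsIntegral X] [IsIntegral Y]

/-- The degree of the function field extension. -/
noncomputable def deg (q : X ⟶ B) (hq : q (genericPoint X) = genericPoint B) : ℕ :=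
  @Module.finrank B.functionField X.functionField _ _ (FF.ff q hq).toAlgebra.toModule

theorem formallyUnramified_stalkMap (s : P ⟶ Spec (CommRingCat.of k))
    (p : P ⟶ B) (τ : Z ⟶ P) (g : Y ⟶ Z) (q : X ⟶ B) (h : Y ⟶ X) (w : g ≫ τ ≫ p = h ≫ q)
    (hp : p (genericPoint P) = genericPoint B) (hτ : τ (genericPoint Z) = genericPoint P)
    (hg : g (genericPoint Y) = genericPoint Z) (hq : q (genericPoint X) = genericPoint B)
    (hh : h (genericPoint Y) = genericPoint X) [IsFinite q] [IsFinite τ] [IsFinite g]
    (hgen : ∀ F : Subfield Y.functionField, (∀ a, FF.ff g hg a ∈ F) → (∀ a, FF.ff h hh a ∈ F) → F = ⊤)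
    (x : Y) [IsDiscreteValuationRing (P.presheaf.stalk (τ (g x)))]
    [IsDiscreteValuationRing (Z.presheaf.stalk (g x))] [IsDiscreteValuationRing (Y.presheaf.stalk x)]
    (N : ℕ) (hN : (deg q hq).factorial ∣ N)
    (hram : (maximalIdeal (P.presheaf.stalk (τ (g x)))).map (τ.stalkMap (g x)).hom =
      maximalIdeal (Z.presheaf.stalk (g x)) ^ N) :
    (g.stalkMap x).hom.FormallyUnramified := by
  let _ : Algebra (P.presheaf.stalk (τ (g x))) (Z.presheaf.stalk (g x)) := (τ.stalkMap (g x)).hom.toAlgebra
  let _ : Algebra (Z.presheaf.stalk (g x)) (Y.presheaf.stalk x) := (g.stalkMap x).hom.toAlgebra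
  have i1 : IsLocalHom (algebraMap (P.presheaf.stalk (τ (g x))) (Z.presheaf.stalk (g x))) :=
    inferInstanceAs (IsLocalHom (τ.stalkMap (g x)).hom)
  have i2 : IsLocalHom (algebraMap (Z.presheaf.stalk (g x)) (Y.presheaf.stalk x)) :=
    inferInstanceAs (IsLocalHom (g.stalkMap x).hom)
  let _ : Algebra P.functionField Z.functionField := (FF.ff τ hτ).toAlgebra
  let _ : Algebra Z.functionField Y.functionField := (FF.ff g hg).toAlgebra
  let _ : Algebra P.functionField Y.functionField := ((FF.ff g hg).comp (FF.ff τ hτ)).toAlgebra
  have i3 : IsScalarTower P.functionField Z.functionField Y.functionField :=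
    IsScalarTower.of_algebraMap_eq' rfl
  let _ : Algebra B.functionField P.functionField := (FF.ff p hp).toAlgebra
  let _ : Algebra B.functionField X.functionField := (FF.ff q hq).toAlgebra
  let _ : Algebra X.functionField Y.functionField := (FF.ff h hh).toAlgebra
  have i4 : FiniteDimensional P.functionField Z.functionField := FF.finiteDimensional_ff τ hτ
  have i5 : FiniteDimensional B.functionField X.functionField := FF.finiteDimensional_ff q hq
  have i6 : CharZero (ResidueField (P.presheaf.stalk (τ (g x)))) := charZero_residueField s _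
  have hcomm : ∀ r : B.functionField,
      algebraMap P.functionField Y.functionField (algebraMap B.functionField P.functionField r) =
      algebraMap X.functionField Y.functionField (algebraMap B.functionField X.functionField r) := by
    intro r
    have hτp : (τ ≫ p) (genericPoint Z) = genericPoint B := by
      rw [Scheme.Hom.comp_apply, hτ, hp]
    have hall : (g ≫ τ ≫ p) (genericPoint Y) = genericPoint B := by
      rw [Scheme.Hom.comp_apply, hg, hτp]
    have hall' : (h ≫ q) (genericPoint Y) = genericPoint B := by
      rw [Scheme.Hom.comp_apply, hh, hq]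
    have e1 := FF.ff_comp g (τ ≫ p) hg hτp hall r
    have e2 := FF.ff_comp τ p hτ hp hτp r
    have e3 := FF.ff_comp h q hh hq hall' r
    have e4 : FF.ff (g ≫ τ ≫ p) hall r = FF.ff (h ≫ q) hall' r := by rw [FF.ff_congr w hall hall']
    rw [e1, e2, e3] at e4
    exact e4
  obtain ⟨hL1, hL2⟩ := FieldAux.finrank_adjoin_range_le (K₀ := B.functionField) (K := P.functionField)
    (F := X.functionField) (M := Y.functionField) hcomm
  set L := IntermediateField.adjoin P.functionField (Set.range (algebraMap X.functionField Y.functionField)) with hL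
  have hLN : (Module.finrank P.functionField L).factorial ∣
      Ideal.ramificationIdx' (maximalIdeal (P.presheaf.stalk (τ (g x))))
        (maximalIdeal (Z.presheaf.stalk (g x))) := by
    have hinj : Function.Injective (algebraMap (P.presheaf.stalk (τ (g x))) (Z.presheaf.stalk (g x))) := by
      intro a b hab
      have h1 := FF.ff_algebraMap τ hτ (g x) a
      have h2 := FF.ff_algebraMap τ hτ (g x) b
      have h3 : (τ.stalkMap (g x)).hom a = (τ.stalkMap (g x)).hom b := hab
      rw [h3, ← h2] at h1
      exact IsFractionRing.injective _ P.functionField ((FF.ff τ hτ).injective h1)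
    have h4 : Ideal.ramificationIdx' (maximalIdeal (P.presheaf.stalk (τ (g x))))
        (maximalIdeal (Z.presheaf.stalk (g x))) = N :=
      (Groth.Agent.Etalg.RamTower.ramificationIdx'_eq_iff hinj N).2 hram
    rw [h4]
    exact (Nat.factorial_dvd_factorial hL2).trans hN
  have key := AbhDvr.map_maximalIdeal (A := P.presheaf.stalk (τ (g x))) (A' := Z.presheaf.stalk (g x))
    (W := Y.presheaf.stalk x) (K := P.functionField) (K₁ := Z.functionField) (M := Y.functionField)
    (fun a => FF.ff_algebraMap τ hτ (g x) a) (fun a => FF.ff_algebraMap g hg x a) L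
    (fun F hF1 hF2 => hgen F hF1 (fun a => hF2 _ (IntermediateField.subset_adjoin _ _ ⟨a, rfl⟩))) hLN
  rw [K590.StalkCrit.formallyUnramified_stalkMap_iff]
  refine ⟨key, ?_⟩
  let _ := (g.residueFieldMap x).hom.toAlgebra
  obtain ⟨_, ⟨U, hU, rfl⟩, hxU, -⟩ :=
    Z.isBasis_affineOpens.exists_subset_of_mem_open (Set.mem_univ (g x)) isOpen_univ
  obtain ⟨n, hn⟩ := K804.ResDeg.bound_affine g ⟨U, hU⟩
  have hfin := (hn x hxU).1
  refine ⟨hfin, ?_⟩
  have : CharZero (Z.residueField (g x)) := charZero_residueField (τ ≫ s) (g x)
  have : Algebra.IsAlgebraic (Z.residueField (g x)) (Y.residueField x) := Algebra.IsAlgebraic.of_finite _ _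
  infer_instance

end K660.Core
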