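import Groth.Agent.VarietyB.DimSch
import Groth.Agent.VarietyB.ResMap
import Groth.Agent.SGA1.K151.ResInt
import Groth.Agent.Sga3C.DimTop
import Mathlib.AlgebraicGeometry.Morphisms.Finite

/-!
# Dimension of local rings under finite surjective morphisms of varieties

`ringKrullDim_stalk_eq`: for a finite surjective morphism `g : Y ⟶ Z` of integral schemes locally of finite type over a
field, `dim O_{Y,x} = dim O_{Z,g x}` for all points `x`.
-/

set_option autoImplicit false
universe u

open CategoryTheory AlgebraicGeometry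

namespace K660.DimFin

open Groth.Agent Groth.Agent.VarietyB.DimSch

/-- Cancellation of a natural number in `WithBot ℕ∞`. -/
theorem add_natCast_cancel {a b : WithBot ℕ∞} {n : ℕ} (h : a + n = b + n) : a = b := by
  have hn : ((n : ℕ) : WithBot ℕ∞) = (((n : ℕ) : ℕ∞) : WithBot ℕ∞) := rfl
  rw [hn] at h
  induction a with
  | bot =>
    induction b with
    | bot => rfl
    | coe b =>
      rw [WithBot.bot_add, ← WithBot.coe_add] at h
      exact absurd h.symm (WithBot.coe_ne_bot)
  | coe a =>
    induction b with
    | bot =>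
      rw [WithBot.bot_add, ← WithBot.coe_add] at h
      exact absurd h (WithBot.coe_ne_bot)
    | coe b =>
      rw [← WithBot.coe_add, ← WithBot.coe_add] at h
      have h1 := WithBot.coe_injective h
      exact congrArg _ ((ENat.add_left_injective_of_ne_top (ENat.coe_ne_top n)) h1)

variable (k : Type u) [Field k]

theorem trd_eq {X Y : Scheme.{u}} [X.Over (Spec (CommRingCat.of k))]
    [Y.Over (Spec (CommRingCat.of k))] (f : X ⟶ Y)
    (hf : f ≫ (Y ↘ (Spec (CommRingCat.of k))) = X ↘ (Spec (CommRingCat.of k)))
    [IsIntegralHom f] (x : X) : trd k Y (f x) = trd k X x := by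
  let _ := Curv2.resAlgebra k X x
  let _ := Curv2.resAlgebra k Y (f x)
  let _ : Algebra (Y.residueField (f.base x)) (X.residueField x) :=
      (f.residueFieldMap x).hom.toAlgebra
  have : IsScalarTower k (Y.residueField (f x)) (X.residueField x) :=
    IsScalarTower.of_algebraMap_eq' (VarietyB.ResMap.residueFieldMap_comp_resMap k f hf x).symm
  have : Algebra.IsAlgebraic (Y.residueField (f.base x)) (X.residueField x) :=
    K151.ResInt.isAlgebraic_of_isIntegralHom f x
  have h := _root_.trdeg_add_eq k (Y.residueField (f x)) (A := X.residueField x)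
  rw [_root_.trdeg_eq_zero (R := Y.residueField (f x)) (A := X.residueField x), add_zero] at h
  exact congrArg Cardinal.toNat h

theorem ringKrullDim_stalk_eq {Y Z : Scheme.{u}} [IsIntegral Y] [IsIntegral Z]
    (s : Z ⟶ Spec (CommRingCat.of k)) [LocallyOfFiniteType s] (g : Y ⟶ Z) [IsFinite g] [Surjective g] (x : Y) :
    ringKrullDim (Y.presheaf.stalk x) = ringKrullDim (Z.presheaf.stalk (g x)) := by
  let iZ : Z.Over (Spec (CommRingCat.of k)) := ⟨s⟩
  let iY : Y.Over (Spec (CommRingCat.of k)) := ⟨g ≫ s⟩
  have hZ : LocallyOfFiniteType (Z ↘ (Spec (CommRingCat.of k))) := inferInstanceAs (LocallyOfFiniteType s)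
  have hY : LocallyOfFiniteType (Y ↘ (Spec (CommRingCat.of k))) :=
    inferInstanceAs (LocallyOfFiniteType (g ≫ s))
  have h1 := localDim_eq k (X := Y) x
  have h2 := localDim_eq k (X := Z) (g x)
  rw [localDim_eq_of_irreducible k] at h1 h2
  have h3 : trd k Y (genericPoint Y) = trd k Z (genericPoint Z) := by
    have h4 := topologicalKrullDim_eq_trd k (X := Y)
    have h5 := topologicalKrullDim_eq_trd k (X := Z)
    have h6 := Groth.Agent.Sga3C.DimTop.topologicalKrullDim_eq_of_isIntegralHom g
    rw [h4, h5] at h6
    exact_mod_cast h6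
  have h4 : trd k Z (g x) = trd k Y x := trd_eq k g rfl x
  rw [h3, h2, h4] at h1
  exact (add_natCast_cancel h1).symm

end K660.DimFin
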