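import Groth.Agent.S0255
import Groth.Agent.Sga5.SmoothField
import Groth.Agent.Vanish.K660.DimFin
import Groth.Prelude.Def_Pi1
import Mathlib.AlgebraicGeometry.Morphisms.Etale

/-!
# Purity: a finite morphism onto a smooth variety, étale over a nonempty open and in codimension one, is étale
-/

set_option autoImplicit false
universe u

open CategoryTheory AlgebraicGeometry TopologicalSpace

namespace K660.EtaleAsm

/-- Étaleness can be tested on neighbourhoods of the points of the source. -/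
theorem etale_of_forall_exists {Y Z : Scheme.{u}} (g : Y ⟶ Z)
    (h : ∀ x : Y, ∃ U : Y.Opens, x ∈ U ∧ Etale (U.ι ≫ g)) : Etale g := by
  choose U hU hE using h
  have hcov : (⨆ x, U x) = ⊤ := by
    rw [eq_top_iff]
    intro x _
    exact Opens.mem_iSup.2 ⟨x, hU x⟩
  exact (IsZariskiLocalAtSource.iff_of_iSup_eq_top (P := @Etale) _ hcov).2 hE

theorem formallyUnramified_stalkMap_of_etale {Y Z : Scheme.{u}} (g : Y ⟶ Z) (V : Z.Opens) [Etale (g ∣_ V)]
    (x : Y) (hx : g x ∈ V) : (g.stalkMap x).hom.FormallyUnramified := by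
  have h1 : Etale ((g ⁻¹ᵁ V).ι ≫ g) := by
    rw [← morphismRestrict_ι]; infer_instance
  have h2 : FormallyUnramified ((g ⁻¹ᵁ V).ι ≫ g) := inferInstance
  let x' : (g ⁻¹ᵁ V : Scheme.{u}) := ⟨x, hx⟩
  have h3 := FormallyUnramified.stalkMap ((g ⁻¹ᵁ V).ι ≫ g) x'
  let f1 : Z.presheaf.stalk (g x) ⟶ Y.presheaf.stalk x := g.stalkMap x
  let f2 : Y.presheaf.stalk x ⟶ (g ⁻¹ᵁ V : Scheme.{u}).presheaf.stalk x' := (g ⁻¹ᵁ V).ι.stalkMap x'
  have h4 : IsIso f2 := (IsOpenImmersion.iff_isIso_stalkMap.1 (inferInstanceAs (IsOpenImmersion (g ⁻¹ᵁ V).ι))).2 x'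
  have h5 : ((g ⁻¹ᵁ V).ι ≫ g).stalkMap x' = f1 ≫ f2 :=
    Scheme.Hom.stalkMap_comp _ _ x'
  have h6 : (f1 ≫ f2).hom.FormallyUnramified := by
    rw [← h5]; exact h3
  exact (RingHom.FormallyUnramified.respectsIso.cancel_right_isIso f1 f2).1 h6

/-- A point of an integral scheme with zero-dimensional local ring is the generic point. -/
theorem eq_genericPoint {Z : Scheme.{u}} [IsIntegral Z] (z : Z)
    (h : ringKrullDim (Z.presheaf.stalk z) < 1) : z = genericPoint Z := by
  have h0 : Ring.KrullDimLE 0 (Z.presheaf.stalk z) := by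
    rw [Ring.krullDimLE_iff]
    have hnt : (0 : WithBot ℕ∞) ≤ ringKrullDim (Z.presheaf.stalk z) := ringKrullDim_nonneg_of_nontrivial
    generalize ringKrullDim (Z.presheaf.stalk z) = d at h hnt
    induction d with
    | bot => exact bot_le
    | coe d =>
      have h' : d < 1 := by exact_mod_cast h
      have : d = 0 := Order.lt_one_iff.1 h'
      rw [this]
      rfl
  have hs : genericPoint Z ⤳ z := (genericPoint_spec Z).specializes trivial
  have h1 : genericPoint Z ∈ Set.range (Z.fromSpecStalk z) := by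
    rw [Scheme.range_fromSpecStalk]; exact hs
  have h2 : z ∈ Set.range (Z.fromSpecStalk z) := by
    rw [Scheme.range_fromSpecStalk]; exact specializes_rfl
  obtain ⟨a, ha⟩ := h1
  obtain ⟨b, hb⟩ := h2
  have hab : a = b := by
    have hmax : ∀ c : PrimeSpectrum (Z.presheaf.stalk z), c.asIdeal = IsLocalRing.maximalIdeal _ :=
      fun c => IsLocalRing.eq_maximalIdeal (Ideal.isMaximal_of_isPrime c.asIdeal)
    exact PrimeSpectrum.ext ((hmax a).trans (hmax b).symm)
  exact (hb.symm.trans (congrArg (Z.fromSpecStalk z) hab.symm)).trans ha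

theorem etale_of_codim_one {k : Type u} [Field k] {Y Z : Scheme.{u}} [IsIntegral Y] [IsIntegral Z]
    (s : Z ⟶ Spec (CommRingCat.of k)) [Smooth s] (hY : Pi1.IsNormalScheme Y) (g : Y ⟶ Z) [IsFinite g]
    [Surjective g] (V : Z.Opens) (hV : genericPoint Z ∈ V) [Etale (g ∣_ V)]
    (h1 : ∀ x : Y, ringKrullDim (Y.presheaf.stalk x) = 1 → g x ∉ V → (g.stalkMap x).hom.FormallyUnramified) :
    Etale g := by
  have hZn : IsLocallyNoetherian Z := LocallyOfFiniteType.isLocallyNoetherian s
  have hYn : IsLocallyNoetherian Y := LocallyOfFiniteType.isLocallyNoetherian (g ≫ s)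
  apply etale_of_forall_exists
  intro x
  by_cases hdim : (1 : WithBot ℕ∞) ≤ ringKrullDim (Y.presheaf.stalk x)
  · refine Groth.Agent.S0255.result g x (hY x) ?_ ?_ ?_ hdim ?_
    · exact Groth.Agent.Sga5.SmoothField.isRegularLocalRing_stalk (f := s) (g x)
    · exact g.quasiFiniteAt x
    · exact DimFin.ringKrullDim_stalk_eq k s g x
    · intro x' _ hx'
      by_cases hxV : g x' ∈ V
      · exact formallyUnramified_stalkMap_of_etale g V x' hxV
      · exact h1 x' hx' hxV
  · have h2 : g x = genericPoint Z := by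
      apply eq_genericPoint
      rw [← DimFin.ringKrullDim_stalk_eq k s g x]
      exact lt_of_not_ge hdim
    refine ⟨g ⁻¹ᵁ V, ?_, ?_⟩
    · change g x ∈ V
      rw [h2]; exact hV
    · rw [← morphismRestrict_ι]; infer_instance

end K660.EtaleAsm
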