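import Groth.Agent.Vanish.K909.AltInterface
import Groth.Agent.Vanish.K660.Core
import Groth.Agent.Vanish.K660.Gen
import Groth.Agent.Vanish.K660.EtaleAsm
import Groth.Agent.Vanish.K660.Constr
import Groth.Agent.Vanish.K660.NcdEt
import Groth.Agent.Vanish.K660.NcdRefine
import Groth.Agent.Vanish.K660.Ram
import Groth.Agent.CalgB.ProjField
import Groth.Agent.Variety.K426.LinProj
import Groth.Agent.An.H526.T3Scheme
import Groth.Agent.SDiv.K476.Ref1
import Groth.Agent.Sga5.AmpleFib
import Groth.Agent.Lefpen.H717.ProjIrr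
import Groth.Agent.Sga5.ProjReg

/-!
# Strict normal crossing alterations of projective varieties from those of projective space (step (E))

`Kaw k`: the statement of the covering lemma of Kawamata (S17401) over `k` (without the last clause);
`altDim_of_altPn`: `k` algebraically closed of characteristic zero: `Kaw k → AltPn k n → AltDim k n`.
-/

set_option autoImplicit false
universe u

open CategoryTheory CategoryTheory.Limits AlgebraicGeometry TopologicalSpace IsLocalRing

namespace K660.AltE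

open K909.AltInterface

/-- The covering lemma (S17401), as a proposition. -/
def Kaw (k : Type u) [Field k] : Prop :=
  ∀ (X : Scheme.{u}) (f : X ⟶ Spec (CommRingCat.of k)) [Smooth f] [IsIntegral X] [IsSeparated f] [CompactSpace X]
    (A : X.Modules) (_ : PicF.IsInvertible A) (_ : CohB1.IsAmple A)
    (r : ℕ) (D : Fin r → X.IdealSheafData) (_ : LogNCD.IsNCD D f)
    (Nj : Fin r → ℕ) (_ : ∀ j, 0 < Nj j) (_ : ∀ j, (Nj j : k) ≠ 0),
    ∃ (Z : Scheme.{u}) (τ : Z ⟶ X), IsIntegral Z ∧ Smooth (τ ≫ f) ∧ IsFinite τ ∧ Surjective τ ∧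
      (∀ j : Fin r, (D j).comap τ = ((D j).comap τ).radical ^ Nj j) ∧
      LogNCD.IsNCD (fun j : Fin r => ((D j).comap τ).radical) (τ ≫ f)

theorem map_genericPoint {X Y : Scheme.{u}} [IsIntegral X] [IsIntegral Y] (f : X ⟶ Y) [Surjective f] :
    f (genericPoint X) = genericPoint Y := by
  obtain ⟨x, hx⟩ := f.surjective (genericPoint Y)
  apply Constr.eq_genericPoint_of_specializes
  rw [← hx]
  exact ((genericPoint_spec X).specializes trivial).map f.continuous

/-- A closed morphism of integral schemes preserving the generic point is surjective. -/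
theorem surjective_of_isClosedMap {X Y : Scheme.{u}} [IsIntegral X] [IsIntegral Y] (f : X ⟶ Y)
    (hf : IsClosedMap f) (h : f (genericPoint X) = genericPoint Y) : Surjective f := by
  refine ⟨fun y => ?_⟩
  have hcl : IsClosed (Set.range f) := hf.isClosed_range
  have hy : y ∈ closure ({genericPoint Y} : Set Y) := by
    rw [genericPoint_closure]; trivial
  exact hcl.closure_subset_iff.2 (by
    rintro _ rfl
    exact ⟨_, h⟩) hy

theorem altFor {k : Type u} [Field k] [CharZero k] {B X : Scheme.{u}} [IsIntegral B] [IsIntegral X]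
    (b : B ⟶ Spec (CommRingCat.of k)) [IsSeparated b] [LocallyOfFiniteType b] (q : X ⟶ B) [IsFinite q]
    [Surjective q] [IsProper (q ≫ b)]
    (hK : Kaw k) (hD : AltFor b) : AltFor (q ≫ b) := by
  intro Z hZ hZ'
  have hq : q (genericPoint X) = genericPoint B := map_genericPoint q
  obtain ⟨W₁, -, hW₁ne, hW₁⟩ := Groth.Agent.An.H526.T3.exists_open_etale b q
  have hqZ : IsClosed (q '' Z) := q.isClosedMap Z hZ
  let W : B.Opens := W₁ ⊓ ⟨(q '' Z)ᶜ, hqZ.isOpen_compl⟩
  have hWet : Etale (q ∣_ W) := hW₁ W inf_le_left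
  have hηZ : genericPoint X ∉ Z := by
    intro h
    apply hZ'
    rw [← Set.univ_subset_iff, ← genericPoint_closure]
    exact hZ.closure_subset_iff.2 (by rintro _ rfl; exact h)
  have hηqZ : genericPoint B ∉ q '' Z := by
    rintro ⟨z, hz, hzB⟩
    have h1 := Groth.Agent.Sga3C.DimTop.eq_of_specializes_of_isIntegralHom q (genericPoint X) z
      ((genericPoint_spec X).specializes trivial) (hq.trans hzB.symm)
    exact hηZ (h1 ▸ hz)
  have hηW₁ : genericPoint B ∈ W₁ :=
    (genericPoint_spec B).mem_open_set_iff W₁.2 |>.2 (by simpa using hW₁ne)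
  have hηW : genericPoint B ∈ W := ⟨hηW₁, hηqZ⟩
  obtain ⟨P, π, A, r, D, hPint, hPsm, hπ, hπs, hdimP, hA, hNCD, hDint, hcov⟩ := hD (W : Set B)ᶜ
    W.2.isClosed_compl (fun h => (h ▸ Set.mem_univ (genericPoint B) : genericPoint B ∈ (W : Set B)ᶜ) hηW)
  have hPc : CompactSpace P := hA.2.1
  set N : ℕ := (Core.deg q hq).factorial with hN
  have hN0 : N ≠ 0 := Nat.factorial_ne_zero _
  obtain ⟨T, τ, hTint, hTsm, hτ, hτs, hpow, hTNCD⟩ := hK P (π ≫ b) A hA.1 hA r D hNCD (fun _ => N)
    (fun _ => Nat.pos_of_ne_zero hN0) (fun _ => Nat.cast_ne_zero.2 hN0)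
  have hDeff : ∀ i, BlowUp.IsEffCartierIdeal (D i) := K911.Ncd.isEff_of_isNCD hNCD
  have hTeff : ∀ i, BlowUp.IsEffCartierIdeal ((D i).comap τ).radical := K911.Ncd.isEff_of_isNCD hTNCD
  obtain ⟨V, hVaff, hV⟩ := Ram.exists_compl _ hTeff
  have hηV : genericPoint T ∈ V := (hV _).2 fun i => Ram.genericPoint_notMem_support (hTeff i)
  have hVW : V ≤ (τ ≫ π) ⁻¹ᵁ W := by
    intro x hx
    by_contra hxW
    obtain ⟨i, hi⟩ := hcov (τ x) hxW
    exact (hV x).1 hx i ((K911.Ncd.mem_support_comap (D i) τ x).2 hi)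
  have hπη : π (genericPoint P) = genericPoint B := map_genericPoint π
  have hτη : τ (genericPoint T) = genericPoint P := map_genericPoint τ
  have hTs : Smooth (τ ≫ π ≫ b) := hTsm
  obtain ⟨Y, g, h, w, hYint, hYn, hgfin, hgs, hget, hgη, hhη, hmono⟩ :=
    Constr.exists_cover (τ ≫ π ≫ b) q (τ ≫ π) W V hηV hVW (map_genericPoint (τ ≫ π)) hq
  have hPn : IsLocallyNoetherian P := LocallyOfFiniteType.isLocallyNoetherian (π ≫ b)
  have hTn : IsLocallyNoetherian T := LocallyOfFiniteType.isLocallyNoetherian (τ ≫ π ≫ b)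
  have hYn' : IsLocallyNoetherian Y := LocallyOfFiniteType.isLocallyNoetherian (g ≫ τ ≫ π ≫ b)
  have hPnorm : Pi1.IsNormalScheme P := Groth.Agent.Sga4B.SmoothNormal.isNormalScheme_of_smooth (π ≫ b)
  have hTnorm : Pi1.IsNormalScheme T := Groth.Agent.Sga4B.SmoothNormal.isNormalScheme_of_smooth (τ ≫ π ≫ b)
  have hgEt : Etale g := by
    refine EtaleAsm.etale_of_codim_one (τ ≫ π ≫ b) hYn g V hηV fun x hx hxV => ?_
    have hx1 : ringKrullDim (T.presheaf.stalk (g x)) = 1 := by
      rw [← DimFin.ringKrullDim_stalk_eq k (τ ≫ π ≫ b) g x]; exact hx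
    have hx2 : ringKrullDim (P.presheaf.stalk (τ (g x))) = 1 := by
      rw [← DimFin.ringKrullDim_stalk_eq k (π ≫ b) τ (g x)]; exact hx1
    have i0 : IsDiscreteValuationRing (Y.presheaf.stalk x) :=
      K476.Ref1.isDVR_of_dim_one hYn x hx
    have i1 : IsDiscreteValuationRing (T.presheaf.stalk (g x)) :=
      K476.Ref1.isDVR_of_dim_one hTnorm _ hx1
    have i2 : IsDiscreteValuationRing (P.presheaf.stalk (τ (g x))) :=
      K476.Ref1.isDVR_of_dim_one hPnorm _ hx2
    obtain ⟨i, hi⟩ : ∃ i, g x ∈ ((D i).comap τ).radical.support := by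
      by_contra hno
      exact hxV ((hV _).2 fun i hi => hno ⟨i, hi⟩)
    have w' : g ≫ τ ≫ π = h ≫ q := w
    refine Core.formallyUnramified_stalkMap (π ≫ b) π τ g q h w' hπη hτη hgη hq hhη
      (fun F h1 h2 => Gen.gen (τ ≫ π) q g h w hgη hhη hmono F h1 h2) x N (dvd_refl _) ?_
    have := hDint i
    exact Ram.map_maximalIdeal_eq_pow τ (D i) (hDeff i) N (hpow i) (hTeff i) (g x) hi
  have hhf : h ≫ q ≫ b = g ≫ τ ≫ π ≫ b := by
    rw [← Category.assoc, ← w]
    simp only [Category.assoc]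
  have hYsm : Smooth (h ≫ q ≫ b) := by
    rw [hhf]; infer_instance
  have hYproper : IsProper (h ≫ q) := by
    rw [← w]; infer_instance
  have hhproper : IsProper h := by
    exact IsProper.of_comp h q
  have hYc : CompactSpace Y := by
    have : CompactSpace T := by
      have : QuasiCompact τ := inferInstance
      exact QuasiCompact.compactSpace_of_compactSpace τ
    exact QuasiCompact.compactSpace_of_compactSpace g
  have hNCDY : LogNCD.IsNCD (fun i => ((D i).comap τ).radical.comap g) (h ≫ q ≫ b) := by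
    rw [hhf]
    exact NcdEt.isNCD_comap_of_etale g hTNCD
  obtain ⟨r', D', hD', hD'int, hD'supp⟩ := NcdRefine.exists_refine (h ≫ q ≫ b) _ hNCDY
  refine ⟨Y, h, (Scheme.Modules.pullback g).obj ((Scheme.Modules.pullback τ).obj A), r', D', hYint, hYsm, hhproper,
    surjective_of_isClosedMap h h.isClosedMap hhη, ?_, ?_, hD', hD'int, ?_⟩
  · rw [Groth.Agent.Sga3C.DimTop.topologicalKrullDim_eq_of_isIntegralHom g,
      Groth.Agent.Sga3C.DimTop.topologicalKrullDim_eq_of_isIntegralHom τ, hdimP,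
      Groth.Agent.Sga3C.DimTop.topologicalKrullDim_eq_of_isIntegralHom q]
  · exact Groth.Agent.Sga5.AmpleFib.isAmple_pullback g (Groth.Agent.Sga5.AmpleFib.isAmple_pullback τ hA)
  · intro y hy
    rw [hD'supp]
    have h1 : q (h y) ∈ (W : Set B)ᶜ := fun h2 => h2.2 ⟨h y, hy, rfl⟩
    have h2 : π (τ (g y)) = q (h y) := by
      have := congr($w y)
      simpa using this
    rw [← h2] at h1
    obtain ⟨i, hi⟩ := hcov _ h1
    exact ⟨i, (K911.Ncd.mem_support_comap _ g y).2 ((K911.Ncd.mem_support_comap (D i) τ _).2 hi)⟩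

/-- Step (E): alterations of projective varieties of dimension `n` from alterations of `ℙⁿ`. -/
theorem altDim_of_altPn (k : Type u) [Field k] [IsAlgClosed k] [CharZero k] (n : ℕ) (hK : Kaw k)
    (hD : AltPn k n) : AltDim k n := by
  intro X f _ _ A hA hdim
  obtain ⟨d, c, hc, hcf⟩ := Groth.Agent.CalgB.ProjField.exists_closedImmersion_projSpace f ⟨A, hA⟩
  obtain ⟨q, hq, hq1, hq2⟩ := K426.LinProj.exists_finite_surjective k X d c n hdim
  have : IsIntegral (CohB1.ProjSpace n k) := Groth.Agent.Lefpen.H717.ProjIrr.isIntegral_projSpace n k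
  have hqf : q ≫ CohB1.ProjSpace.toSpec n k = f := hq.trans hcf
  have : IsProper (q ≫ CohB1.ProjSpace.toSpec n k) := by rw [hqf]; infer_instance
  have h := altFor (CohB1.ProjSpace.toSpec n k) q hK hD
  rwa [hqf] at h

end K660.AltE
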