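import Groth.Agent.Vanish.K660.Van
import Groth.Agent.Ega2.AmpleGlobGen
import Groth.Agent.CohqB.FinAmple
import Groth.Agent.Fga.HodgePush
import Groth.Agent.W4c1frobunstiva.K811.GenFin
import Groth.Agent.Ega3B.RpushAff

/-!
# Pull-backs of ample classes along generically finite morphisms are big
-/

set_option autoImplicit false
universe u

open CategoryTheory CategoryTheory.Limits AlgebraicGeometry Opposite TopologicalSpace

namespace K660.BigPull

open Groth.Agent Groth.Agent.Grpsch.PicGrp Groth.Agent.Fga.JacFactor Groth.Agent.Divis.EffCartier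
open Groth.Agent.Fdesc.LocGen
open KolUp K931.Eff Semi

theorem exists_ne_zero {X : Scheme.{u}} {M : X.Modules} (hM : ¬ IsZero M) (hg : Curv2.IsGloballyGenerated M) :
    ∃ s : Coh.structureModule X ⟶ M, s ≠ 0 := by
  by_contra h
  push Not at h
  obtain ⟨ι, p, hp⟩ := hg
  have hp0 : p = 0 := by
    refine Limits.Sigma.hom_ext _ _ fun i => ?_
    exact (h _).trans comp_zero.symm
  refine hM ((IsZero.iff_id_eq_zero M).2 ?_)
  refine hp.left_cancellation _ _ ?_
  rw [hp0, zero_comp, zero_comp]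

theorem not_subsingleton {X : Scheme.{u}} {N : X.Modules} (hN : PicF.IsInvertible N) {U : X.Opens}
    (hU : IsAffineOpen U) (hne : (U : Set X).Nonempty) : ¬ Subsingleton Γ(N, U) := by
  intro h
  obtain ⟨x, hx⟩ := hne
  obtain ⟨V, e, hxV, he⟩ := (isInvertible_iff N).mp hN x
  have hNq : Coh.IsQCoh N := (PerfA.CohSerre.isCoh_of_isFinLocFree (Kol.isFinLocFree_of_isInvertible hN)).1
  have h1 := Ega3B.RpushAff.subsingleton_of_le N hNq hU h (W := U ⊓ V) inf_le_left
  have h2 := he.res (inf_le_right : U ⊓ V ≤ V)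
  have : Nonempty (U ⊓ V : X.Opens) := ⟨⟨x, hx, hxV⟩⟩
  have h3 : (1 : Γ(X, U ⊓ V)) = 0 := h2.ext (Subsingleton.elim _ _)
  exact one_ne_zero h3

theorem not_isZero_push {X Z : Scheme.{u}} (f : X ⟶ Z) {N : X.Modules} (hN : PicF.IsInvertible N) (V : Z.Opens)
    (hV : IsAffineOpen (f ⁻¹ᵁ V)) (hne : ((f ⁻¹ᵁ V : X.Opens) : Set X).Nonempty) :
    ¬ IsZero ((Coh.push f).obj N) := by
  intro h
  refine not_subsingleton hN hV hne ?_
  exact Ega3B.RpushAff.subsingleton_sections_of_isZero h V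

theorem eventually_eff {k : Type u} [Field k] {X Z : Scheme.{u}} [IsIntegral X] [IsIntegral Z]
    (a : X ⟶ Spec (CommRingCat.of k)) (b : Z ⟶ Spec (CommRingCat.of k)) [IsProper a] [IsProper b] (f : X ⟶ Z)
    (hf : f ≫ b = a) [IsDominant f] (hdim : topologicalKrullDim X = topologicalKrullDim Z) {κ : Pic Z} (hκ : Amp κ)
    (c : Pic X) : ∃ ν₀ : ℕ, ∀ ν, ν₀ ≤ ν → Eff (pull f κ ^ ν * c) := by
  obtain ⟨K, hK, rfl, hKa⟩ := hκ
  obtain ⟨B, hB, rfl⟩ := exists_mk c
  have hfp : IsProper f := by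
    have : IsProper (f ≫ b) := by rw [hf]; infer_instance
    exact IsProper.of_comp f b
  have hlnZ : IsLocallyNoetherian Z := LocallyOfFiniteType.isLocallyNoetherian b
  have hlnX : IsLocallyNoetherian X := LocallyOfFiniteType.isLocallyNoetherian a
  obtain ⟨W, hηW, hWf, -, -⟩ := K811.GenFin.exists_finite_flat k a b hdim f hf
  obtain ⟨V, hV, hηV, hVW⟩ := Opens.isBasis_iff_nbhd.mp Z.isBasis_affineOpens hηW
  have hVf : IsFinite (f ∣_ V) := K811.GenFin.restrict_mono @IsFinite f hVW hWf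
  have hVa : IsAffineOpen (f ⁻¹ᵁ V) := by
    have : IsAffine (V : Scheme.{u}) := hV
    exact isAffine_of_isAffineHom (f ∣_ V)
  have hne : ((f ⁻¹ᵁ V : X.Opens) : Set X).Nonempty := ⟨genericPoint X, by
    change f (genericPoint X) ∈ V
    rw [K811.GenFin.map_genericPoint f]
    exact hηV⟩
  have hBc : Coh.IsCoh B := PerfA.CohSerre.isCoh_of_isFinLocFree (Kol.isFinLocFree_of_isInvertible hB)
  obtain ⟨ν₀, hν₀⟩ := Ega2.AmpleGlobGen.exists_globGen hKa (Fga.HodgePush.isCoh_push f hBc)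
  refine ⟨ν₀, fun ν hν => ?_⟩
  have hg := hν₀ ν hν
  obtain ⟨e⟩ := CohqB.FinAmple.nonempty_push_tw f hK B ν
  have hN : PicF.IsInvertible (CohB1.tensorMod B (CohB1.tensorPow ((Scheme.Modules.pullback f).obj K) ν)) :=
    isInvertible_tensorMod hB (isInvertible_tensorPow (isInvertible_pullback f hK) ν)
  have hz : ¬ IsZero (CohB1.tensorMod ((Coh.push f).obj B) (CohB1.tensorPow K ν)) := fun h =>
    not_isZero_push f hN V hVa hne (h.of_iso e.symm)
  obtain ⟨s, hs⟩ := exists_ne_zero hz hg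
  have hcl : pull f (mk K hK) ^ ν * mk B hB = mk _ hN := by
    rw [pull_mk, ← mk_mul_mk hB (isInvertible_tensorPow (isInvertible_pullback f hK) ν), mk_tensorPow, mul_comm]
  rw [hcl, eff_mk]
  refine ⟨homOf (show Γ(CohB1.tensorMod B (CohB1.tensorPow ((Scheme.Modules.pullback f).obj K) ν), ⊤) from
    sec (s ≫ e.hom) ⊤), fun h0 => hs ?_⟩
  rw [← cancel_mono e.hom, zero_comp]
  apply hom_ext_sec
  have := congrArg (fun t => sec t ⊤) h0
  dsimp only at this
  rw [sec_homOf, res_refl] at this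
  exact this

end K660.BigPull
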