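import Groth.Agent.Vanish.K660.SubTwPull
import Groth.Agent.PerfB.TensExact

/-!
# Multiplication by a section, `K ⟶ K ⊗ G`, and its images

`mulN s : 𝟭 ⟶ - ⊗ G`; `hasIm_of_frames`, `mono_of_frames`: criterion for `HasIm` through local frames.
-/

set_option autoImplicit false
universe u

open CategoryTheory CategoryTheory.Limits AlgebraicGeometry Opposite TopologicalSpace

namespace K660.Frame

open Groth.Agent Groth.Agent.Sga67.Sec Groth.Agent.Krr.H496.GenLocus SubTw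
open Groth.Agent.PerfB.TensExact

variable {X : Scheme.{u}}

/-- A local frame at `x`. -/
def FrameAt {M N : X.Modules} (φ : M ⟶ N) (I : X.IdealSheafData) (x : X) : Prop :=
  ∃ (U : X.affineOpens) (m : Sec M U.1) (n : Sec N U.1) (g : Γ(X, U.1)), x ∈ U.1 ∧ IsGen m ∧ IsGen n ∧
    appS φ U.1 m = g • n ∧ I.ideal U = Ideal.span {g}

theorem hasIm_of_frames {M N : X.Modules} {φ : M ⟶ N} {I : X.IdealSheafData} (h : ∀ x, FrameAt φ I x) : HasIm φ I := by
  intro x
  obtain ⟨V, m, n, g, hxV, hm, hn, hg, hIg⟩ := h x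
  refine ⟨V, g, hxV, hIg, fun W hW e => ?_⟩
  have hg' : appS φ W.1 (res _ hW m) = resO X hW g • res _ hW n := by
    rw [appS_res, hg, res_smul]
  constructor
  · rintro ⟨s, rfl⟩
    obtain ⟨a, rfl⟩ := (hm.res hW).exists_smul s
    refine ⟨a • res _ hW n, ?_⟩
    rw [map_smul, hg', smul_comm]
  · rintro ⟨e', rfl⟩
    obtain ⟨a, rfl⟩ := (hn.res hW).exists_smul e'
    refine ⟨a • res _ hW m, ?_⟩
    rw [map_smul, hg', smul_comm]

theorem mono_of_frames {M N : X.Modules} {φ : M ⟶ N} {I : X.IdealSheafData} (h : ∀ x, FrameAt φ I x)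
    (hI : BlowUp.IsEffCartierIdeal I) : Mono φ := by
  apply mono_of_locally
  intro y O hyO
  obtain ⟨V, m, n, g, hyV, hm, hn, hg, hIg⟩ := h y
  obtain ⟨U₀, hyU₀, t, ht, hIt⟩ := hI y
  obtain ⟨W, hyW, hW⟩ := exists_affine_le y (V.1 ⊓ U₀.1 ⊓ O) ⟨⟨hyV, hyU₀⟩, hyO⟩
  have hWV : W.1 ≤ V.1 := hW.trans (inf_le_left.trans inf_le_left)
  have hWU : W.1 ≤ U₀.1 := hW.trans (inf_le_left.trans inf_le_right)
  refine ⟨W.1, hW.trans inf_le_right, hyW, fun s hs => ?_⟩
  obtain ⟨a, rfl⟩ := (hm.res hWV).exists_smul s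
  rw [map_smul, appS_res, hg, res_smul, ← mul_smul] at hs
  have h0 : a * resO X hWV g = 0 := (hn.res hWV).smul_injective (hs.trans (zero_smul _ _).symm)
  have h1 : resO X hWV g ∈ nonZeroDivisors Γ(X, W.1) := by
    refine mem_nonZeroDivisors_of_span_eq ?_ ((ideal_resO _ hWU t hIt).symm.trans (ideal_resO _ hWV g hIg))
    exact Divis.EffCartier.res_mem_nonZeroDivisors U₀.2 W.2 hWU ht
  have h2 : a = 0 := (mem_nonZeroDivisors_iff_right.1 h1) a h0
  rw [h2, zero_smul]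

theorem FrameAt.comp_iso {M N N' : X.Modules} {φ : M ⟶ N} {I : X.IdealSheafData} {x : X} (h : FrameAt φ I x)
    (e : N ≅ N') : FrameAt (φ ≫ e.hom) I x := by
  obtain ⟨V, m, n, g, hxV, hm, hn, hg, hIg⟩ := h
  refine ⟨V, m, appS e.hom V.1 n, g, hxV, hm, ?_, ?_, hIg⟩
  · rw [isGen_iff] at hn ⊢
    exact Fdesc.LocGen.IsGen.app e.hom hn
  · rw [appS_comp, hg, map_smul]

/-- Multiplication by a section `s` of `G`, `K ⟶ K ⊗ G`. -/
noncomputable def mulN {G : X.Modules} (s : Coh.structureModule X ⟶ G) :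
    𝟭 X.Modules ⟶ DCoh.tensorRightMod G :=
  tensorRightModUnit.inv ≫ tensorRightModMap s

open Fdesc.LocGen in
theorem mulN_app_app {G : X.Modules} (s : Coh.structureModule X ⟶ G) (K : X.Modules) (U : X.Opens) (t : Γ(K, U)) :
    ((mulN s).app K).app U t = Ega2.Tens.tmul t (sec s U) := by
  have h := tensorRightModMap_tmul s K U t (Ega2.Tens.sm (1 : Γ(X, U)))
  refine Eq.trans ?_ h
  change ((tensorRightModMap s).app K).app U ((Ega2.Tens.runit K).inv.app U t) = _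
  rw [Ega2.Tens.runit_inv_app]

end K660.Frame
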