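import Groth.Agent.Vanish.K660.ExtKerAbs
import Groth.Agent.Vanish.K660.Frame
import Groth.Agent.Ega2.AmpleWeight
import Groth.Agent.Ega2.AmpleGlobGen
import Groth.Agent.Dix.C5mv
import Groth.Agent.SurfBl.K805.TwoOpen
import Groth.Agent.PerfA.AffVan
import Groth.Agent.Ega3B.SectExact
import Groth.Agent.PerfB.TensInv
import Groth.Agent.S2304

/-!
# Localisation of cohomology along a section of an invertible sheaf

`X` Noetherian, `G` invertible, `s` a section, `F` quasi-coherent:
`ext`: for `t ∈ H^b(X_s, F)` some `s ^ n t` extends to `H^b(X, F ⊗ G^n)`;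
`ker`: a class of `H^b(X, F)` vanishing on `X_s` is killed by a power of `s`.
-/

set_option autoImplicit false
universe u

open CategoryTheory CategoryTheory.Limits CategoryTheory.Abelian AlgebraicGeometry Opposite TopologicalSpace

namespace K660.ExtKer

open Groth.Agent Groth.Agent.Fdesc.LocGen ExtKerAbs
open Groth.Agent.CohtopA.FreeAb Groth.Agent.CohqB.DevSupport Groth.Agent.PerfA.ExtZero
open Groth.Agent.Ega2 Groth.Agent.Ega2.TensGen Groth.Agent.Ega2.TensPow

variable {X : Scheme.{u}} {G : X.Modules}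

/-- `⊗ G^n`. -/
noncomputable abbrev T (G : X.Modules) (n : ℕ) : X.Modules ⥤ X.Modules :=
  DCoh.tensorRightMod (CohB1.tensorPow G n)

/-- Multiplication by `s ^ n`. -/
noncomputable abbrev σ (s : Coh.structureModule X ⟶ G) (n : ℕ) : 𝟭 X.Modules ⟶ T G n :=
  Frame.mulN (Weight.powHom s n)

theorem σ_app_app (s : Coh.structureModule X ⟶ G) (n : ℕ) (F : X.Modules) (U : X.Opens) (t : Γ(F, U)) :
    ((σ s n).app F).app U t = tmul t (pow (sec s U) n) := by
  rw [Frame.mulN_app_app, Weight.sec_powHom]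
  rfl

theorem hcomp (s : Coh.structureModule X ⟶ G) (F : X.Modules) (n m : ℕ) :
    ∃ e : (T G m).obj ((T G n).obj F) ⟶ (T G (n + m)).obj F,
      sg (T G) (σ s) n F ≫ sg (T G) (σ s) m ((T G n).obj F) ≫ e = sg (T G) (σ s) (n + m) F := by
  refine ⟨(tensPowAdd F G n m).hom, ?_⟩
  ext U t
  change (tensPowAdd F G n m).hom.app U (((σ s m).app ((T G n).obj F)).app U (((σ s n).app F).app U t)) =
    ((σ s (n + m)).app F).app U t
  rw [σ_app_app, σ_app_app, σ_app_app]
  exact tensPowAdd_tmul _ _ _ _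

/-- The free abelian sheaf on `U`. -/
noncomputable abbrev fr (U : X.Opens) : TopCat.Sheaf AddCommGrpCat.{u} X :=
  freeAb (Opens.grothendieckTopology X) U

/-- The inclusion `Z_U ⟶ Z_X`. -/
noncomputable abbrev inc (U : X.Opens) : fr U ⟶ fr (⊤ : X.Opens) :=
  freeAbMap (Opens.grothendieckTopology X) (homOfLE (le_top : U ≤ ⊤))

/-- `H^0`. -/
noncomputable def s0 (F : X.Modules) (U : X.Opens) : Ext (fr U) ((toAbF X).obj F) 0 ≃+ Γ(F, U) :=
  K805.TwoOpen.sE F U

theorem s0_rs (F : X.Modules) (U : X.Opens) (y : Ext (fr (⊤ : X.Opens)) ((toAbF X).obj F) 0) :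
    s0 F U (rs (toAbF X) (inc U) F 0 y) = res F le_top (s0 F ⊤ y) :=
  K805.TwoOpen.sE_res F (le_top : U ≤ ⊤) y

theorem s0_mp {F F' : X.Modules} (φ : F ⟶ F') (U : X.Opens) (y : Ext (fr U) ((toAbF X).obj F) 0) :
    s0 F' U (mp (toAbF X) (fr U) φ 0 y) = φ.app U (s0 F U y) :=
  CurvesB.MVOne.secE_map (X := X.toTopCat) ((toAbF X).map φ) U y

theorem base [CompactSpace X] [QuasiSeparatedSpace X] (hG : PicF.IsInvertible G)
    (s : Coh.structureModule X ⟶ G) (F : X.Modules) (hF : Coh.IsQCoh F) :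
    EXT (inc (CohB1.genLocus G s)) (toAbF X) (T G) (σ s) 0 F ∧
      KER (inc (CohB1.genLocus G s)) (toAbF X) (T G) (σ s) 0 F := by
  generalize hU : CohB1.genLocus G s = U
  constructor
  · intro t
    subst hU
    obtain ⟨n, hn⟩ := AmpleGlobGen.exists_extend_top hF hG s (s0 F _ t)
    obtain ⟨t', ht'⟩ := hn n le_rfl
    refine ⟨n, (s0 ((T G n).obj F) ⊤).symm t', (s0 _ _).injective ?_⟩
    refine (s0_rs _ _ _).trans (Eq.trans ?_ (s0_mp _ _ _).symm)
    refine Eq.trans ?_ (ht'.trans (σ_app_app s n F _ _).symm)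
    exact congrArg (res ((T G n).obj F) le_top) ((s0 ((T G n).obj F) ⊤).apply_symm_apply t')
  · intro y hy
    subst hU
    obtain ⟨n, hn⟩ := Extend.exists_tmul_pow_eq_zero hF hG s (W := ⊤) isCompact_univ
      (s0 F ⊤ y) (by
        have h1 := (s0_rs F _ y).symm.trans ((congrArg (s0 F _) hy).trans (map_zero _))
        have h2 := congrArg (res F (inf_le_right : ⊤ ⊓ CohB1.genLocus G s ≤ CohB1.genLocus G s)) h1
        rw [res_res, map_zero] at h2
        exact h2)
    refine ⟨n, (s0 _ _).injective ?_⟩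
    refine (s0_mp _ _ _).trans (Eq.trans ?_ (map_zero _).symm)
    exact (σ_app_app s n F _ _).trans (hn n le_rfl)

theorem shortExact_T (hG : PicF.IsInvertible G) (n : ℕ) {S : ShortComplex X.Modules} (hS : S.ShortExact) :
    (S.map (T G n)).ShortExact := by
  have := Groth.Agent.PerfB.TensExact.preservesFiniteLimits_tensorRightMod (CohB1.tensorPow G n)
    (Ega3B.SectExact.isFlat_of_isInvertible (isInvertible_tensorPow hG n))
  exact hS.map_of_exact _

theorem extKer [IsNoetherian X] (hG : PicF.IsInvertible G) (s : Coh.structureModule X ⟶ G) (b : ℕ) :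
    ∀ F : X.Modules, Coh.IsQCoh F →
      EXT (inc (CohB1.genLocus G s)) (toAbF X) (T G) (σ s) b F ∧
        KER (inc (CohB1.genLocus G s)) (toAbF X) (T G) (σ s) b F := by
  induction b with
  | zero => exact base hG s
  | succ b ih =>
    intro F hF
    obtain ⟨J, φ, hφ, hJ, hfl⟩ := Dix.C5mv.exists_flasque F hF
    let S : ShortComplex X.Modules := ShortComplex.mk φ (cokernel.π φ) (cokernel.condition φ)
    have hS : S.ShortExact := { exact := ShortComplex.exact_cokernel φ }
    have hQ : Coh.IsQCoh (cokernel φ) := S2304.isQCoh_cokernel φ hF hJ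
    have hfl' : TopCat.Sheaf.IsFlasque (X := X.toTopCat) ((toAbF X).obj J) := ⟨fun {V U} i => by
      rw [AddCommGrpCat.epi_iff_surjective]
      exact hfl i.unop.le⟩
    have hac : ∀ (U : X.Opens) (x : Ext (fr U) ((toAbF X).obj J) (b + 1)), x = 0 := fun U x =>
      (S0452.result (X := X.toTopCat) ((toAbF X).obj J) U b).elim x 0
    refine step (inc (CohB1.genLocus G s)) (toAbF X) (T G) (σ s) b S (hS.map_of_exact _)
      (fun n => (shortExact_T hG n hS).map_of_exact _)
      (fun n m => (shortExact_T hG m (shortExact_T hG n hS)).map_of_exact _)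
      (hac _) (hac _) (hcomp s F) (ih _ hQ).1 (ih _ hJ).1 
      (fun n => (ih _ (PerfB.TensInv.isQCoh_tensorRightMod (isInvertible_tensorPow hG n) _ hQ)).2)

end K660.ExtKer
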