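import Mathlib

/-!
# Localisation of Ext groups along multiplications: abstract induction

`T n` functors with `σ n : 𝟭 ⟶ T n` ("multiplication by `s ^ n`"), `ι : B ⟶ A` ("restriction to `X_s`").
`EXT b F`: `σ n` of a class of `Ext^b(B, Φ F)` is the image of a class of `Ext^b(A, Φ (T n F))` for some `n`;
`KER b F`: a class of `Ext^b(A, Φ F)` with zero image in `Ext^b(B, Φ F)` is killed by some `σ n`.
`step`: induction on `b` along short exact sequences with acyclic middle term.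
-/

set_option autoImplicit false
set_option linter.unusedSectionVars false

open CategoryTheory CategoryTheory.Limits CategoryTheory.Abelian

universe w v u v' u'

namespace K660.ExtKerAbs

variable {C : Type u} [Category.{v} C] [Abelian C] [HasExt.{w} C]
  {M : Type u'} [Category.{v'} M] [Preadditive M]
  {A B D : C} (ι : B ⟶ A) (Φ : M ⥤ C) [Φ.PreservesZeroMorphisms]
  (T : ℕ → M ⥤ M) [∀ n, (T n).PreservesZeroMorphisms] (σ : ∀ n, 𝟭 M ⟶ T n)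

/-- Functoriality. -/
noncomputable def mp (D : C) {F F' : M} (φ : F ⟶ F') (b : ℕ) : Ext D (Φ.obj F) b →+ Ext D (Φ.obj F') b :=
  (Ext.mk₀ (Φ.map φ)).postcomp D (add_zero b)

omit [Preadditive M] [Φ.PreservesZeroMorphisms] in
theorem mp_apply {F F' : M} (φ : F ⟶ F') (b : ℕ) (x : Ext D (Φ.obj F) b) :
    mp Φ D φ b x = x.comp (Ext.mk₀ (Φ.map φ)) (add_zero b) := rfl

theorem mp_comp {F F' F'' : M} (φ : F ⟶ F') (ψ : F' ⟶ F'') (b : ℕ) (x : Ext D (Φ.obj F) b) :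
    mp Φ D (φ ≫ ψ) b x = mp Φ D ψ b (mp Φ D φ b x) := by
  rw [mp_apply, mp_apply, mp_apply, Ext.comp_assoc_of_third_deg_zero, Ext.mk₀_comp_mk₀, Φ.map_comp]

theorem mp_id {F : M} (b : ℕ) (x : Ext D (Φ.obj F) b) : mp Φ D (𝟙 F) b x = x := by
  rw [mp_apply, Φ.map_id, Ext.comp_mk₀_id]

/-- Restriction. -/
noncomputable def rs {A B : C} (ι : B ⟶ A) (F : M) (b : ℕ) : Ext A (Φ.obj F) b →+ Ext B (Φ.obj F) b :=
  (Ext.mk₀ ι).precomp (Φ.obj F) (zero_add b)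

omit [Preadditive M] [Φ.PreservesZeroMorphisms] in
theorem rs_apply (F : M) (b : ℕ) (x : Ext A (Φ.obj F) b) :
    rs Φ ι F b x = (Ext.mk₀ ι).comp x (zero_add b) := rfl

theorem rs_mp {F F' : M} (φ : F ⟶ F') (b : ℕ) (x : Ext A (Φ.obj F) b) :
    rs Φ ι F' b (mp Φ A φ b x) = mp Φ B φ b (rs Φ ι F b x) := by
  rw [rs_apply, rs_apply, mp_apply, mp_apply]
  exact (Ext.comp_assoc_of_third_deg_zero _ _ _ _).symm

/-- The connecting map. -/
noncomputable def dl (D : C) {S : ShortComplex M} (h : (S.map Φ).ShortExact) (b : ℕ) :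
    Ext D (Φ.obj S.X₃) b →+ Ext D (Φ.obj S.X₁) (b + 1) :=
  h.extClass.postcomp D (rfl : b + 1 = b + 1)

theorem rs_dl {S : ShortComplex M} (h : (S.map Φ).ShortExact) (b : ℕ) (x : Ext A (Φ.obj S.X₃) b) :
    rs Φ ι S.X₁ (b + 1) (dl Φ A h b x) = dl Φ B h b (rs Φ ι S.X₃ b x) :=
  (Ext.comp_assoc (Ext.mk₀ ι) x h.extClass (zero_add b) rfl (by lia)).symm

theorem exact₁ {S : ShortComplex M} (h : (S.map Φ).ShortExact) (b : ℕ) (x : Ext D (Φ.obj S.X₁) (b + 1))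
    (hx : mp Φ D S.f (b + 1) x = 0) : ∃ y, dl Φ D h b y = x :=
  Ext.covariant_sequence_exact₁ D h x hx rfl

theorem exact₃ {S : ShortComplex M} (h : (S.map Φ).ShortExact) (b : ℕ) (x : Ext D (Φ.obj S.X₃) b)
    (hx : dl Φ D h b x = 0) : ∃ y, mp Φ D S.g b y = x :=
  Ext.covariant_sequence_exact₃ D h x rfl hx

theorem dl_mp {S : ShortComplex M} (h : (S.map Φ).ShortExact) (b : ℕ) (x : Ext D (Φ.obj S.X₂) b) :
    dl Φ D h b (mp Φ D S.g b x) = 0 := by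
  have h1 : (Ext.mk₀ (Φ.map S.g)).comp (show Ext (Φ.obj S.X₃) (Φ.obj S.X₁) 1 from h.extClass) (zero_add 1) = 0 :=
    h.comp_extClass
  refine (Ext.comp_assoc x (Ext.mk₀ (S.map Φ).g) h.extClass (add_zero b) (zero_add 1) (by lia)).trans ?_
  refine (congrArg (fun q => x.comp q (rfl : b + 1 = b + 1)) h1).trans ?_
  exact Ext.comp_zero x (Φ.obj S.X₁) 1 (b + 1) rfl

theorem mp_dl {S S' : ShortComplex M} (h : (S.map Φ).ShortExact) (h' : (S'.map Φ).ShortExact) (f : S ⟶ S')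
    (b : ℕ) (x : Ext D (Φ.obj S.X₃) b) :
    mp Φ D f.τ₁ (b + 1) (dl Φ D h b x) = dl Φ D h' b (mp Φ D f.τ₃ b x) := by
  have h1 := ShortComplex.ShortExact.extClass_naturality h h' (Φ.mapShortComplex.map f)
  refine (Ext.comp_assoc x h.extClass (Ext.mk₀ (Φ.map f.τ₁)) rfl (add_zero 1) (by lia)).trans ?_
  refine Eq.trans ?_ (Ext.comp_assoc x (Ext.mk₀ (Φ.map f.τ₃)) h'.extClass (add_zero b) (zero_add 1) (by lia)).symm
  exact congrArg (fun q => x.comp q (rfl : b + 1 = b + 1)) h1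

/-- `σ n` at `F`. -/
abbrev sg (n : ℕ) (F : M) : F ⟶ (T n).obj F := (σ n).app F

/-- Extension. -/
def EXT (b : ℕ) (F : M) : Prop :=
  ∀ t : Ext B (Φ.obj F) b, ∃ (n : ℕ) (y : Ext A (Φ.obj ((T n).obj F)) b),
    rs Φ ι _ b y = mp Φ B (sg T σ n F) b t

/-- Kernel. -/
def KER (b : ℕ) (F : M) : Prop :=
  ∀ y : Ext A (Φ.obj F) b, rs Φ ι _ b y = 0 → ∃ n : ℕ, mp Φ A (sg T σ n F) b y = 0

/-- The morphism of short complexes given by `σ n`. -/
def sig (S : ShortComplex M) (n : ℕ) : S ⟶ S.map (T n) where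
  τ₁ := (σ n).app S.X₁
  τ₂ := (σ n).app S.X₂
  τ₃ := (σ n).app S.X₃
  comm₁₂ := ((σ n).naturality S.f).symm
  comm₂₃ := ((σ n).naturality S.g).symm

theorem step (b : ℕ) (S : ShortComplex M) (h0 : (S.map Φ).ShortExact)
    (hS : ∀ n, ((S.map (T n)).map Φ).ShortExact)
    (hS' : ∀ n m, (((S.map (T n)).map (T m)).map Φ).ShortExact)
    (hA : ∀ x : Ext A (Φ.obj S.X₂) (b + 1), x = 0) (hB : ∀ x : Ext B (Φ.obj S.X₂) (b + 1), x = 0)
    (hcomp : ∀ n m : ℕ, ∃ e : (T m).obj ((T n).obj S.X₁) ⟶ (T (n + m)).obj S.X₁,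
      sg T σ n S.X₁ ≫ sg T σ m ((T n).obj S.X₁) ≫ e = sg T σ (n + m) S.X₁)
    (ihE : EXT ι Φ T σ b S.X₃) (ihE' : EXT ι Φ T σ b S.X₂)
    (ihK : ∀ n, KER ι Φ T σ b ((T n).obj S.X₃)) :
    EXT ι Φ T σ (b + 1) S.X₁ ∧ KER ι Φ T σ (b + 1) S.X₁ := by
  constructor
  · intro t
    obtain ⟨t', rfl⟩ := exact₁ Φ h0 b t (hB _)
    obtain ⟨n, y', hy'⟩ := ihE t'
    refine ⟨n, dl Φ A (hS n) b y', ?_⟩
    refine (rs_dl ι Φ (hS n) b y').trans ?_
    refine (congrArg (dl Φ B (hS n) b) hy').trans ?_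
    exact (mp_dl Φ h0 (hS n) (sig T σ S n) b t').symm
  · intro y hy
    obtain ⟨y', rfl⟩ := exact₁ Φ h0 b y (hA _)
    rw [rs_dl] at hy
    obtain ⟨z, hz⟩ := exact₃ Φ h0 b _ hy
    obtain ⟨n, z', hz'⟩ := ihE' z
    -- the corrected class
    obtain ⟨w, hw'⟩ : ∃ w : Ext A (Φ.obj ((T n).obj S.X₃)) b,
      w = mp Φ A (sg T σ n S.X₃) b y' - mp Φ A ((T n).map S.g) b z' := ⟨_, rfl⟩
    have hnat : S.g ≫ sg T σ n S.X₃ = sg T σ n S.X₂ ≫ (T n).map S.g := (σ n).naturality S.g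
    have hw : rs Φ ι _ b w = 0 := by
      rw [hw', map_sub, sub_eq_zero, rs_mp, rs_mp, hz', ← hz, ← mp_comp, ← mp_comp, hnat]
    obtain ⟨m, hm⟩ := ihK n w hw
    obtain ⟨e, he⟩ := hcomp n m
    refine ⟨n + m, ?_⟩
    have h2 : mp Φ A (sg T σ n S.X₁) (b + 1) (dl Φ A h0 b y') = dl Φ A (hS n) b w := by
      refine (mp_dl Φ h0 (hS n) (sig T σ S n) b y').trans ?_
      have h3 : dl Φ A (hS n) b (mp Φ A ((T n).map S.g) b z') = 0 := dl_mp Φ (hS n) b z'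
      have h4 : dl Φ A (hS n) b w = dl Φ A (hS n) b (mp Φ A (sg T σ n S.X₃) b y') -
          dl Φ A (hS n) b (mp Φ A ((T n).map S.g) b z') := by
        rw [← map_sub]
        exact congrArg _ hw'
      rw [h4, h3, sub_zero]
      rfl
    have h4 : mp Φ A (sg T σ m ((T n).obj S.X₁)) (b + 1) (dl Φ A (hS n) b w) = 0 := by
      refine (mp_dl Φ (hS n) (hS' n m) (sig T σ (S.map (T n)) m) b w).trans ?_
      refine (congrArg (dl Φ A (hS' n m) b) hm).trans (map_zero _)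
    rw [← he, mp_comp, mp_comp, h2, h4, map_zero]

end K660.ExtKerAbs
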