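import Groth.Agent.Vanish.K660.TFP
import Groth.Agent.Vanish.K660.BigPull
import Groth.Agent.Surf.K461.SerreDual
import Groth.Agent.Fga.EulerLEAdd

/-!
# `R^b f_*(ω ⊗ L) = 0`, `b > 0`, for `f` generically finite between projective varieties, `L` nef
-/

set_option autoImplicit false
universe u

open CategoryTheory CategoryTheory.Limits AlgebraicGeometry Opposite TopologicalSpace

namespace K660.GrProj

open Groth.Agent Groth.Agent.Grpsch.PicGrp Groth.Agent.Fga.JacFactor Groth.Agent.Divis.EffCartier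
open Groth.Agent.Fdesc.LocGen
open K909.AltInterface KolUp K931.Eff Semi

/-- The dual form of `Van.van`. -/
theorem vanW {k : Type u} [Field k] [IsAlgClosed k] [CharZero k] (hAlt : Alt k) (hDesc : Desc k) (hEV : EV k)
    {X : Scheme.{u}} [X.Over (Spec (CommRingCat.of k))] [IsIntegral X] [IsProper (X ↘ Spec (CommRingCat.of k))]
    [Smooth (X ↘ Spec (CommRingCat.of k))] (n : ℕ) (hn : topologicalKrullDim X = n) {W : X.Modules}
    (hW : ExtPow.IsExtPow n (Omega.sheaf (X ↘ Spec (CommRingCat.of k))) W) {P : X.Modules}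
    (hP : PicF.IsInvertible P) (hNA : ∀ a : Pic X, Amp a → ∀ N : ℕ, Amp (mk P hP ^ N * a)) (ν : ℕ) (a : Pic X)
    (ha : Amp a) (hbig : Eff (mk P hP ^ ν / a)) (b : ℕ) (hb : 0 < b) :
    Subsingleton (Coh.HH X (CohB1.tensorMod W P) b) := by
  have hcomp : CompactSpace X := K931.Basic.compactSpace k X
  have hLN : IsLocallyNoetherian X := LocallyOfFiniteType.isLocallyNoetherian (X ↘ Spec (CommRingCat.of k))
  have hN : IsNoetherian X := {}
  rcases le_or_gt b n with hbn | hbn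
  · have hrel : SmoothOfRelativeDimension n (X ↘ Spec (CommRingCat.of k)) :=
      Picfga.CurveRelDim.smoothOfRelativeDimension_of_topologicalKrullDim_eq k X (X ↘ Spec (CommRingCat.of k)) n hn
    obtain ⟨Pi, hPi, hPm⟩ := exists_mk (mk P hP)⁻¹
    have hinv : ClSub.IsInverseOf Pi P := by
      rw [isInverseOf_iff hPi hP, ← hPm, inv_mul_cancel]
    have h0 := Van.van hAlt hDesc hEV (X ↘ Spec (CommRingCat.of k)) n hn hP hinv hNA ν a ha hbig (n - b) (by omega)
    have hPq : Coh.IsQCoh Pi := (PerfA.CohSerre.isCoh_of_isFinLocFree (Kol.isFinLocFree_of_isInvertible hPi)).1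
    obtain ⟨e⟩ := K461.SerreDual.nonempty_dual_equiv k n hW hinv hPq b (n - b) (by omega)
    have : Subsingleton (Module.Dual k (Coh.HH X Pi (n - b))) := inferInstance
    exact e.symm.toEquiv.subsingleton
  · exact Groth.Agent.Fga.EulerLEAdd.subsingleton_HH X n hn.le (CohB1.tensorMod W P) b hbn

theorem alg {M : Type*} [CommGroup M] (l g a : M) (ν j e : ℕ) :
    (l ^ ν * a) ^ e * (g ^ (j * ν) * (a * a)⁻¹) ^ e = (l * g ^ j) ^ (ν * e) / a ^ e := by
  rw [← mul_pow, pow_mul (l * g ^ j), ← div_pow]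
  congr 1
  rw [mul_pow, ← pow_mul g, div_eq_mul_inv, mul_inv]
  rw [show l ^ ν * a * (g ^ (j * ν) * (a⁻¹ * a⁻¹)) = l ^ ν * g ^ (j * ν) * a⁻¹ * (a * a⁻¹) by
    simp only [mul_comm, mul_left_comm, mul_assoc], mul_inv_cancel, mul_one]

theorem isZero_rpush (k : Type u) [Field k] [IsAlgClosed k] [CharZero k] (hAlt : Alt k) (hDesc : Desc k) (hEV : EV k)
    (X : Scheme.{u}) [X.Over (Spec (CommRingCat.of k))] [IsIntegral X] [IsProper (X ↘ Spec (CommRingCat.of k))]
    [Smooth (X ↘ Spec (CommRingCat.of k))] (n : ℕ) (hn : topologicalKrullDim X = n)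
    (A : X.Modules) (hA : CohB1.IsAmple A) (Z : Scheme.{u}) [Z.Over (Spec (CommRingCat.of k))] [IsIntegral Z]
    [IsProper (Z ↘ Spec (CommRingCat.of k))] (K : Z.Modules) (hK : CohB1.IsAmple K)
    (f : X ⟶ Z) (hf : f ≫ (Z ↘ Spec (CommRingCat.of k)) = X ↘ Spec (CommRingCat.of k)) [Surjective f]
    (hZ : topologicalKrullDim Z = n) {W : X.Modules}
    (hW : ExtPow.IsExtPow n (Omega.sheaf (X ↘ Spec (CommRingCat.of k))) W) {P : X.Modules}
    (hP : PicF.IsInvertible P) (hNA : ∀ a : Pic X, Amp a → ∀ N : ℕ, Amp (mk P hP ^ N * a))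
    [HasInjectiveResolutions X.Modules] (b : ℕ) (hb : 0 < b) :
    IsZero ((Coh.Rpush f b).obj (CohB1.tensorMod W P)) := by
  have hcomp : CompactSpace X := hA.2.1
  have hLN : IsLocallyNoetherian X := LocallyOfFiniteType.isLocallyNoetherian (X ↘ Spec (CommRingCat.of k))
  have hN : IsNoetherian X := {}
  have hcZ : CompactSpace Z := hK.2.1
  have hsX : X.IsSeparated := K931.Basic.isSeparated k X
  have hsZ : Z.IsSeparated := K931.Basic.isSeparated k Z
  have hfs : IsSeparated f := by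
    have : IsSeparated (f ≫ (Z ↘ Spec (CommRingCat.of k))) := by rw [hf]; infer_instance
    exact IsSeparated.of_comp f (Z ↘ Spec (CommRingCat.of k))
  have hWq : Coh.IsQCoh W := K477.ExtCoh.isQCoh_of_isExtPow (CurvesB.OmegaStalkDict.isQCoh_omega _) hW
  have hF : Coh.IsQCoh (CohB1.tensorMod W P) := Ega2.TensGen.isQCoh_tensor hWq hP
  have hdom : IsDominant f := inferInstance
  choose m u hz haff using hK.2.2
  refine Ega3B.RpushAff.isZero_of_cover _ (CohqA.RelCoh.isQCoh_Rpush f _ hF b) (fun z => CohB1.genLocus _ (u z)) haff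
    (top_le_iff.1 fun z _ => Opens.mem_iSup.2 ⟨z, hz z⟩) fun z => ?_
  rw [Ega3B.RpushAff.subsingleton_iff f _ hF (haff z) b]
  have hKm := isInvertible_tensorPow hK.1 (m z + 1)
  have hG := isInvertible_pullback f hKm
  have hKA : Amp (mk K hK.1) := (amp_mk hK.1).2 hK
  have hGc : mk _ hG = pull f (mk K hK.1) ^ (m z + 1) := by
    rw [← map_pow, ← mk_tensorPow hK.1, pull_mk]
  have hGs : SA (mk ((Scheme.Modules.pullback f).obj (CohB1.tensorPow K (m z + 1))) hG) := by
    rw [hGc, ← map_pow]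
    exact TFP.SA.pull f (((Amp.sa hKA)).pow (m z + 1))
  obtain ⟨a, ha⟩ : ∃ a : Pic X, Amp a := ⟨mk A hA.1, (amp_mk hA.1).2 hA⟩
  obtain ⟨ν, hν⟩ := BigPull.eventually_eff (X ↘ Spec (CommRingCat.of k)) (Z ↘ Spec (CommRingCat.of k)) f hf
    (hn.trans hZ.symm) hKA (a * a)⁻¹
  refine TF.subsingleton_HHon hG (pullHom f (u z)) b _ hF 1 (fun j hj => ?_) _
    (Ega1.AmpFam.genLocus_pullHom f hKm (u z)).symm
  have hGj := isInvertible_tensorPow hG j
  have hPG := isInvertible_tensorMod hP hGj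
  refine Fga.HShift.subsingleton_of_iso (Ega2.Tens.assoc W P (CohB1.tensorPow _ j)).symm b ?_
  have hcl : mk _ hPG = mk P hP * mk _ hG ^ j := by
    rw [← mk_tensorPow hG, mk_mul_mk]
  -- `(l g^j)^ν / a = (l^ν a) (g^(jν) / a²)`
  obtain ⟨e, he, hee⟩ := Amp.eventually_eff (hNA a ha ν) 1
  have hee' := hee e le_rfl
  rw [mul_one] at hee'
  refine vanW hAlt hDesc hEV n hn hW hPG (fun a' ha' N => ?_) (ν * e) (a ^ e) (ha.pow he) ?_ b hb
  · rw [hcl, mul_pow, mul_right_comm]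
    exact Amp.mul_sa (hNA a' ha' N) ((hGs.pow j).pow N)
  · have h1 : Eff (mk _ hG ^ (j * ν) * (a * a)⁻¹) := by
      rw [hGc, ← pow_mul]
      refine hν _ ?_
      calc ν = 1 * (1 * ν) := by ring
        _ ≤ (m z + 1) * (j * ν) := Nat.mul_le_mul (by omega) (Nat.mul_le_mul_right ν hj)
    have h2 := hee'.mul (h1.pow e)
    have h3 : (mk P hP ^ ν * a) ^ e * (mk _ hG ^ (j * ν) * (a * a)⁻¹) ^ e = mk _ hPG ^ (ν * e) / a ^ e := by
      rw [hcl]
      exact alg _ _ _ _ _ _
    rwa [h3] at h2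

end K660.GrProj
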