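import Groth.Agent.Vanish.K911.Ncd
import Mathlib.RingTheory.TensorProduct.Quotient
import Mathlib.RingTheory.Smooth.Basic
import Mathlib.RingTheory.RingHom.Smooth

/-!
# The components of a normal crossing divisor are smooth
-/

set_option autoImplicit false
universe u

open CategoryTheory CategoryTheory.Limits AlgebraicGeometry TopologicalSpace Opposite

namespace K660.SmoothComp

open MvPolynomial

section Alg

variable (R : Type u) [CommRing R] {σ : Type u} (j : σ)

open Classical in
/-- `X_j ↦ 0`. -/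
noncomputable def kill : MvPolynomial σ R →ₐ[R] MvPolynomial {i : σ // i ≠ j} R :=
  aeval fun i => if h : i = j then 0 else X ⟨i, h⟩

theorem kill_X_self : kill R j (X j) = 0 := by
  simp [kill]

theorem kill_X (i : {i : σ // i ≠ j}) : kill R j (X i.1) = X i := by
  simp [kill, i.2]

theorem kill_rename (q : MvPolynomial {i : σ // i ≠ j} R) :
    kill R j (rename Subtype.val q) = q := by
  have : (kill R j).comp (rename Subtype.val) = AlgHom.id R _ := by
    ext i : 1
    rw [AlgHom.comp_apply, rename_X, kill_X, AlgHom.id_apply]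
  exact congr($this q)

theorem kill_surjective : Function.Surjective (kill R j) :=
  fun q => ⟨rename Subtype.val q, kill_rename R j q⟩

theorem ker_kill : RingHom.ker (kill R j) = Ideal.span {X j} := by
  apply le_antisymm
  · intro p hp
    have h : (Ideal.Quotient.mkₐ R (Ideal.span {(X j : MvPolynomial σ R)})).comp
        ((rename Subtype.val).comp (kill R j)) =
        Ideal.Quotient.mkₐ R (Ideal.span {(X j : MvPolynomial σ R)}) := by
      ext i : 1
      by_cases hi : i = j
      · subst hi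
        rw [AlgHom.comp_apply, AlgHom.comp_apply, kill_X_self, map_zero, map_zero,
          Ideal.Quotient.mkₐ_eq_mk]
        exact (Ideal.Quotient.eq_zero_iff_mem.2 (Ideal.mem_span_singleton_self _)).symm
      · rw [AlgHom.comp_apply, AlgHom.comp_apply, kill_X R j ⟨i, hi⟩, rename_X]
    have h1 := congr($h p)
    rw [AlgHom.comp_apply, AlgHom.comp_apply, (show kill R j p = 0 from hp), map_zero, map_zero,
      Ideal.Quotient.mkₐ_eq_mk] at h1
    exact Ideal.Quotient.eq_zero_iff_mem.1 h1.symm
  · rw [Ideal.span_le, Set.singleton_subset_iff]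
    exact kill_X_self R j

/-- `R[X_σ] / (X_j) ≃ R[X_i, i ≠ j]` -/
noncomputable def quotEquiv :
    (MvPolynomial σ R ⧸ Ideal.span {(X j : MvPolynomial σ R)}) ≃ₐ[R]
      MvPolynomial {i : σ // i ≠ j} R :=
  (Ideal.quotientEquivAlgOfEq R (ker_kill R j).symm).trans
    (Ideal.quotientKerAlgEquivOfSurjective (f := kill R j) (kill_surjective R j))

/-- A coordinate hyperplane in an étale chart is smooth. -/
theorem smooth_quot [Finite σ] (B : Type u) [CommRing B] [Algebra R B] [Algebra (MvPolynomial σ R) B]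
    [IsScalarTower R (MvPolynomial σ R) B] [Algebra.Etale (MvPolynomial σ R) B] :
    Algebra.Smooth R (B ⧸ (Ideal.span {(X j : MvPolynomial σ R)}).map (algebraMap (MvPolynomial σ R) B)) := by
  set J : Ideal (MvPolynomial σ R) := Ideal.span {(X j : MvPolynomial σ R)}
  have h0 : Algebra.Smooth R (MvPolynomial {i : σ // i ≠ j} R) := ⟨inferInstance, inferInstance⟩
  have h1 : Algebra.Smooth R (MvPolynomial σ R ⧸ J) := Algebra.Smooth.of_equiv (quotEquiv R j).symm
  have h2 : Algebra.Etale (MvPolynomial σ R ⧸ J) (TensorProduct (MvPolynomial σ R) (MvPolynomial σ R ⧸ J) B) :=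
    inferInstance
  have h3 : Algebra.Etale (MvPolynomial σ R ⧸ J) (B ⧸ J.map (algebraMap (MvPolynomial σ R) B)) :=
    let e : TensorProduct (MvPolynomial σ R) (MvPolynomial σ R ⧸ J) B ≃ₐ[MvPolynomial σ R ⧸ J]
      (B ⧸ J.map (algebraMap (MvPolynomial σ R) B)) :=
      (Algebra.TensorProduct.quotIdealMapEquivQuotTensor B J).symm
    Algebra.Etale.of_equiv (A := TensorProduct (MvPolynomial σ R) (MvPolynomial σ R ⧸ J) B) e
  have h4 : IsScalarTower R (MvPolynomial σ R ⧸ J) (B ⧸ J.map (algebraMap (MvPolynomial σ R) B)) := by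
    refine IsScalarTower.of_algebraMap_eq (R := R) (S := MvPolynomial σ R ⧸ J)
      (A := B ⧸ J.map (algebraMap (MvPolynomial σ R) B)) fun r => ?_
    change Ideal.Quotient.mk _ (algebraMap R B r) =
      Ideal.Quotient.mk _ (algebraMap (MvPolynomial σ R) B (algebraMap R (MvPolynomial σ R) r))
    rw [← IsScalarTower.algebraMap_apply]
  exact Algebra.Smooth.comp R (MvPolynomial σ R ⧸ J) _

theorem smooth_mk_comp [Finite σ] {B : Type u} [CommRing B] (φ : MvPolynomial σ R →+* B) (hφ : φ.Etale)
    (I : Ideal B) (hI : I = Ideal.span {φ (X j)}) :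
    ((Ideal.Quotient.mk I).comp (φ.comp C)).Smooth := by
  let _ := φ.toAlgebra
  let _ : Algebra R B := (φ.comp C).toAlgebra
  have : IsScalarTower R (MvPolynomial σ R) B := IsScalarTower.of_algebraMap_eq' rfl
  have : Algebra.Etale (MvPolynomial σ R) B := hφ
  have h := smooth_quot R j B
  rw [Ideal.map_span, Set.image_singleton] at h
  subst hI
  exact h

end Alg

open LogNCD K911.Ncd Groth.Agent.Divis.IdealComap Groth.Agent.Divis.BlowChart2
open Groth.Agent.Pi1.H403.RelSNCBase

variable {X S : Scheme.{u}} {f : X ⟶ S}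

/-- The components of a normal crossing divisor are smooth over the base. -/
theorem smooth_subscheme {r : ℕ} {D : Fin r → X.IdealSheafData} (hD : IsNCD D f) (i : Fin r) :
    Smooth ((D i).subschemeι ≫ f) := by
  rw [HasRingHomProperty.iff_exists_appLE (P := @Smooth)
    (RingHom.Smooth.stableUnderComposition.stableUnderCompositionWithLocalizationAway
      RingHom.Smooth.holdsForLocalizationAway).1]
  intro x'
  have hx : (D i).subschemeι x' ∈ (D i).support := by
    have h1 := (D i).range_subschemeι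
    have h2 : (D i).subschemeι x' ∈ Set.range (D i).subschemeι := ⟨x', rfl⟩
    rw [h1] at h2
    exact h2
  obtain ⟨W, hxW, n, v, e, he, het, hv, hv'⟩ := hD ((D i).subschemeι x') ⟨⟨i, hx⟩⟩
  obtain ⟨V, U, hfx, hxU, hUO, -, eU⟩ := exists_affine_le f ((D i).subschemeι x') W hxW ⊤ trivial
  have h1 := Groth.Agent.Pi1.H411.Chart.etale_eval₂Hom_appLE f V.1 V.2 U.1 U.2 eU W hUO v het
  have h2 := smooth_mk_comp _ (ULift.up (e ⟨i, hx⟩)) _ h1 ((D i).ideal U) (by
    rw [hv ⟨i, hx⟩ U hUO, MvPolynomial.eval₂Hom_X']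
    rfl)
  have hU' : IsAffineOpen ((D i).subschemeι ⁻¹ᵁ U.1) := U.2.preimage _
  refine ⟨V, ⟨(D i).subschemeι ⁻¹ᵁ U.1, hU'⟩, hxU, ?_, ?_⟩
  · exact (Scheme.Hom.preimage_mono _ eU)
  · have h3 : (((D i).subschemeι ≫ f).appLE V.1 ((D i).subschemeι ⁻¹ᵁ U.1)
        (Scheme.Hom.preimage_mono _ eU)) = f.appLE V.1 U.1 eU ≫ (D i).subschemeι.app U.1 := by
      rw [← Scheme.Hom.appLE_comp_appLE (D i).subschemeι f V.1 U.1 ((D i).subschemeι ⁻¹ᵁ U.1) eU le_rfl]
      rw [Scheme.Hom.appLE_eq_app]
    rw [h3, Scheme.IdealSheafData.subschemeι_app]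
    have h4 : (f.appLE V.1 U.1 eU ≫ CommRingCat.ofHom (Ideal.Quotient.mk ((D i).ideal U)) ≫
      ((D i).subschemeObjIso U).inv).hom =
      ((D i).subschemeObjIso U).symm.commRingCatIsoToRingEquiv.toRingHom.comp
        ((Ideal.Quotient.mk ((D i).ideal U)).comp ((MvPolynomial.eval₂Hom (f.appLE V.1 U.1 eU).hom
      (fun j => X.presheaf.map (homOfLE hUO).op (W.topIso.hom (v j)))).comp MvPolynomial.C)) := by
      ext a
      simp
      rfl
    rw [h4]
    exact RingHom.Smooth.respectsIso.1 _ _ h2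

end K660.SmoothComp
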