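import Groth.Agent.Vanish.K660.ExtKer
import Groth.Agent.Vanish.K660.InjP
import Groth.Agent.CurvesA.TopDeg
import Groth.Agent.Ega3B.TensorIso

/-!
# Torsion-freeness of `H^b(X_s, F)` from injectivity of multiplications on `H^b(X, F ⊗ G^n)`
-/

set_option autoImplicit false
universe u

open CategoryTheory CategoryTheory.Limits CategoryTheory.Abelian AlgebraicGeometry Opposite TopologicalSpace

namespace K660.TF

open Groth.Agent Groth.Agent.Fdesc.LocGen ExtKerAbs ExtKer KolUp K660.Frame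
open Groth.Agent.CohtopA.FreeAb Groth.Agent.CohqB.DevSupport Groth.Agent.PerfA.ExtZero
open Groth.Agent.Ega2 Groth.Agent.Ega2.TensGen Groth.Agent.Ega2.TensPow
open Groth.Agent.CohqA.HOpen Groth.Agent.CurvesA.TopDeg

variable {X : Scheme.{u}} {G : X.Modules}

/-- `H^b(U, F)` in two models. -/
noncomputable def onE (F : X.Modules) (U : X.Opens) (b : ℕ) : Ext (fr U) ((toAbF X).obj F) b ≃+ Coh.HHon X F U b :=
  HHonEquiv F U b

theorem onE_mp {F F' : X.Modules} (φ : F ⟶ F') (U : X.Opens) (b : ℕ) (x : Ext (fr U) ((toAbF X).obj F) b) :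
    onE F' U b (mp (toAbF X) (fr U) φ b x) =
      Hm ((Scheme.Modules.restrictFunctor U.ι).map φ) b (onE F U b x) := by
  have key : ∀ (V : X.Opens) (hU : U = V) (x : CohTop.HU (X := X.toTopCat) (Coh.toAb F) b U),
      HUCongr (X := X.toTopCat) (Coh.toAb F') b hU (CohTop.HUmap (X := X.toTopCat) ((toAbF X).map φ) b U x) =
        CohTop.HUmap (X := X.toTopCat) ((toAbF X).map φ) b V (HUCongr (X := X.toTopCat) (Coh.toAb F) b hU x) := by
    rintro _ rfl x
    rfl
  change (HHTopEquiv (F'.restrict U.ι) b).symm (HUEquiv U.ι F' ⊤ b (HUCongr (X := X.toTopCat) (Coh.toAb F') b _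
    (CohTop.HUmap (X := X.toTopCat) ((toAbF X).map φ) b U x))) = Sheaf.H.map
      ((resFunctor U.ι.isOpenEmbedding).map ((toAbF X).map φ)) b
      ((HHTopEquiv (F.restrict U.ι) b).symm (HUEquiv U.ι F ⊤ b (HUCongr (X := X.toTopCat) (Coh.toAb F) b _ x)))
  rw [key]
  refine Eq.trans ?_ (HTopEquiv_symm_map (X := (U : Scheme.{u}).toTopCat)
    ((resFunctor U.ι.isOpenEmbedding).map ((toAbF X).map φ)) b _)
  refine congrArg _ ?_
  exact compareOpen_map (X := (U : Scheme.{u}).toTopCat) (Y := X.toTopCat) U.ι.isOpenEmbedding ⊤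
    ((toAbF X).map φ) b _

/-- The function on `U` given by a section over `U`. -/
noncomputable abbrev fn (U : X.Opens) (r : Γ(X, U)) : Coh.Γtop (U : Scheme.{u}) := U.topIso.inv r

theorem fn_res (U : X.Opens) (r : Γ(X, U)) (W : (U : Scheme.{u}).Opens) (hW : U.ι ''ᵁ W ≤ U) :
    Coh.resTop (U : Scheme.{u}) (op W) (fn U r) = X.presheaf.map (homOfLE hW).op r := by
  change (X.presheaf.map _ ≫ X.presheaf.map _) r = _
  rw [← X.presheaf.map_comp]
  rfl

theorem restrict_mulN {N : X.Modules} (r' s' : Coh.structureModule X ⟶ N) (U : X.Opens) (r : Γ(X, U))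
    (h : sec r' U = r • sec s' U) (F : X.Modules) :
    (SheafOfModules.toSheaf (U : Scheme.{u}).ringCatSheaf).map
      ((Scheme.Modules.restrictFunctor U.ι).map ((mulN r').app F)) =
      Coh.smulAb (F.restrict U.ι) (fn U r) ≫ (SheafOfModules.toSheaf (U : Scheme.{u}).ringCatSheaf).map
        ((Scheme.Modules.restrictFunctor U.ι).map ((mulN s').app F)) := by
  refine ObjectProperty.hom_ext _ (NatTrans.ext (funext fun W => ?_))
  ext m
  have hW : U.ι ''ᵁ W.unop ≤ U := U.ι_image_le W.unop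
  have h1 : (Coh.smulAb (F.restrict U.ι) (fn U r)).hom.app W m =
      X.presheaf.map (homOfLE hW).op r • (show Γ(F, U.ι ''ᵁ W.unop) from m) := by
    rw [Coh.smulAb_app, fn_res U r W.unop hW]
    change ((U.ι.appIso W.unop).inv (X.presheaf.map (homOfLE hW).op r)) • (show Γ(F, U.ι ''ᵁ W.unop) from m) = _
    rw [Scheme.Opens.ι_appIso]
    rfl
  have h2 : (Coh.smulAb (F.restrict U.ι) (fn U r) ≫ (SheafOfModules.toSheaf (U : Scheme.{u}).ringCatSheaf).map
        ((Scheme.Modules.restrictFunctor U.ι).map ((mulN s').app F))).hom.app W m =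
      ((mulN s').app F).app (U.ι ''ᵁ W.unop) ((Coh.smulAb (F.restrict U.ι) (fn U r)).hom.app W m) := rfl
  rw [h2, h1]
  change ((mulN r').app F).app (U.ι ''ᵁ W.unop) m = _
  rw [mulN_app_app, mulN_app_app]
  have h3 : sec r' (U.ι ''ᵁ W.unop) = X.presheaf.map (homOfLE hW).op r • sec s' (U.ι ''ᵁ W.unop) := by
    rw [← res_sec r' hW, ← res_sec s' hW, h, res_smul]
    rfl
  rw [h3]
  exact (tmul_smul _ _ _).trans (smul_tmul _ _ _).symm

theorem Hm_restrict_mulN {N : X.Modules} (r' s' : Coh.structureModule X ⟶ N) (U : X.Opens) (r : Γ(X, U))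
    (h : sec r' U = r • sec s' U) (F : X.Modules) (b : ℕ) (x : Coh.HHon X F U b) :
    Hm ((Scheme.Modules.restrictFunctor U.ι).map ((mulN r').app F)) b x =
      Hm ((Scheme.Modules.restrictFunctor U.ι).map ((mulN s').app F)) b (fn U r • x) := by
  have h1 : Sheaf.H.map ((SheafOfModules.toSheaf (U : Scheme.{u}).ringCatSheaf).map
      ((Scheme.Modules.restrictFunctor U.ι).map ((mulN r').app F))) b x =
      Sheaf.H.map ((SheafOfModules.toSheaf (U : Scheme.{u}).ringCatSheaf).map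
        ((Scheme.Modules.restrictFunctor U.ι).map ((mulN s').app F))) b
        (Sheaf.H.map (Coh.smulAb (F.restrict U.ι) (fn U r)) b x) := by
    rw [restrict_mulN r' s' U r h F, Sheaf.H.map_comp_apply]
  exact h1

theorem Hm_injective_of_isIso {M N : X.Modules} (φ : M ⟶ N) [IsIso φ] (b : ℕ) : Function.Injective (Hm φ b) := by
  intro x y hxy
  have := congrArg (Hm (inv φ) b) hxy
  rwa [Hm_comp, Hm_comp, IsIso.hom_inv_id, Hm_id, Hm_id] at this

theorem isIso_restrict_mulN {N : X.Modules} (s' : Coh.structureModule X ⟶ N) (U : X.Opens) (h : IsGen (sec s' U))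
    (F : X.Modules) : IsIso ((Scheme.Modules.restrictFunctor U.ι).map ((mulN s').app F)) := by
  rw [Ega3B.TensorIso.isIso_iff_app_bijective]
  intro W
  have hW : U.ι ''ᵁ W ≤ U := U.ι_image_le W
  change Function.Bijective ((((mulN s').app F)).app (U.ι ''ᵁ W))
  have h1 : IsGen (sec s' (U.ι ''ᵁ W)) := by
    rw [← res_sec s' hW]
    exact h.res hW
  have h2 := tmul_gen_bijective (F := F) h1
  have h3 : ⇑(((mulN s').app F).app (U.ι ''ᵁ W)) = fun t => tmul t (sec s' (U.ι ''ᵁ W)) := by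
    funext t
    exact mulN_app_app s' F _ t
  rw [h3]
  exact h2

theorem mp_mulN_injective {N : X.Modules} (s' : Coh.structureModule X ⟶ N) (U : X.Opens) (h : IsGen (sec s' U))
    (F : X.Modules) (b : ℕ) :
    Function.Injective (mp (toAbF X) (fr U) ((mulN s').app F) b) := by
  intro x y hxy
  have h1 := congrArg (onE _ U b) hxy
  have := isIso_restrict_mulN s' U h F
  exact (onE F U b).injective (Hm_injective_of_isIso _ b ((onE_mp _ U b x).symm.trans (h1.trans (onE_mp _ U b y))))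

/-- `mulN` at `F`. -/
noncomputable abbrev mulA {N : X.Modules} (t : Coh.structureModule X ⟶ N) (F : X.Modules) :
    F ⟶ (DCoh.tensorRightMod N).obj F := (mulN t).app F

theorem mulA_naturality {N F F' : X.Modules} (t : Coh.structureModule X ⟶ N) (φ : F ⟶ F') :
    φ ≫ mulA t F' = mulA t F ≫ (DCoh.tensorRightMod N).map φ := (mulN t).naturality φ

/-- The extension property for all large exponents. -/
theorem ext_large [IsNoetherian X] (hG : PicF.IsInvertible G) (s : Coh.structureModule X ⟶ G) (b : ℕ)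
    (F : X.Modules) (hF : Coh.IsQCoh F) (t : Ext (fr (CohB1.genLocus G s)) ((toAbF X).obj F) b) (n₀ : ℕ) :
    ∃ n, n₀ ≤ n ∧ ∃ y : Ext (fr (⊤ : X.Opens)) ((toAbF X).obj ((T G n).obj F)) b,
      rs (toAbF X) (inc (CohB1.genLocus G s)) _ b y =
        mp (toAbF X) (fr (CohB1.genLocus G s)) (sg (T G) (σ s) n F) b t := by
  obtain ⟨n, y, hy⟩ := (extKer hG s b F hF).1 t
  obtain ⟨e, he⟩ := hcomp s F n n₀
  refine ⟨n + n₀, by omega, mp (toAbF X) (fr ⊤) (sg (T G) (σ s) n₀ ((T G n).obj F) ≫ e) b y, ?_⟩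
  rw [rs_mp, hy, ← mp_comp, he]

theorem ne_zero_of_smul {N : X.Modules} (s' : Coh.structureModule X ⟶ N) (U : X.Opens) (h : IsGen (sec s' U))
    (r' : Coh.structureModule X ⟶ N) (r : Γ(X, U)) (hr : r ≠ 0) (hr' : sec r' U = r • sec s' U) : r' ≠ 0 := by
  rintro rfl
  apply hr
  apply h.ext
  rw [← hr', zero_smul]
  rfl

/-- Multiplications on `H^b(X, F ⊗ G^n)` by sections of powers of `G` are injective for large `n`. -/
def Inj (G : X.Modules) (F : X.Modules) (b : ℕ) : Prop :=
  ∃ n₀ : ℕ, ∀ n, n₀ ≤ n → ∀ (m : ℕ) (t : Coh.structureModule X ⟶ CohB1.tensorPow G m), t ≠ 0 →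
    Function.Injective (mp (toAbF X) (fr (⊤ : X.Opens)) (mulA t ((T G n).obj F)) b)

theorem smul_eq_zero [IsNoetherian X] (hG : PicF.IsInvertible G) (s : Coh.structureModule X ⟶ G) (b : ℕ)
    (F : X.Modules) (hF : Coh.IsQCoh F) (hinj : Inj G F b) (r : Γ(X, CohB1.genLocus G s)) (hr : r ≠ 0)
    (x : Coh.HHon X F (CohB1.genLocus G s) b) (hx : fn _ r • x = 0) : x = 0 := by
  obtain ⟨n₀, hinj⟩ := hinj
  obtain ⟨U, hU⟩ : ∃ U, U = CohB1.genLocus G s := ⟨_, rfl⟩
  obtain ⟨t, rfl⟩ := (onE F (CohB1.genLocus G s) b).surjective x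
  obtain ⟨n, hn, y, hy⟩ := ext_large hG s b F hF t n₀
  obtain ⟨m, hm⟩ := AmpleGlobGen.exists_extend_fun_top hG s r
  obtain ⟨t', ht'⟩ := hm m le_rfl
  have hgen : ∀ j, IsGen (sec (Weight.powHom s j) (CohB1.genLocus G s)) := fun j => by
    rw [Weight.sec_powHom]
    exact (isGen_sec_genLocus s).pow j
  have hr' : sec (homOf t') (CohB1.genLocus G s) = r • sec (Weight.powHom s m) (CohB1.genLocus G s) := by
    rw [sec_homOf, Weight.sec_powHom]
    exact ht'
  have hne : homOf t' ≠ 0 := ne_zero_of_smul _ _ (hgen m) _ r hr hr'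
  -- `r' t = 0`
  have h1 : mp (toAbF X) (fr _) (mulA (homOf t') F) b t = 0 := by
    apply (onE _ _ b).injective
    refine (onE_mp _ _ b t).trans ?_
    refine (Hm_restrict_mulN (homOf t') (Weight.powHom s m) _ r hr' F b _).trans ?_
    rw [hx, map_zero, map_zero]
  have h2 : rs (toAbF X) (inc (CohB1.genLocus G s)) _ b
      (mp (toAbF X) (fr ⊤) (mulA (homOf t') ((T G n).obj F)) b y) = 0 := by
    rw [rs_mp, hy, ← mp_comp]
    have h3 : sg (T G) (σ s) n F ≫ mulA (homOf t') ((T G n).obj F) =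
        mulA (homOf t') F ≫ (T G m).map (sg (T G) (σ s) n F) :=
      mulA_naturality (homOf t') (sg (T G) (σ s) n F)
    rw [h3, mp_comp, h1, map_zero]
  have hFn : Coh.IsQCoh ((T G n).obj F) := PerfB.TensInv.isQCoh_tensorRightMod (isInvertible_tensorPow hG n) _ hF
  have hFnm : Coh.IsQCoh ((T G m).obj ((T G n).obj F)) :=
    PerfB.TensInv.isQCoh_tensorRightMod (isInvertible_tensorPow hG m) _ hFn
  obtain ⟨M, hM⟩ := (extKer hG s b _ hFnm).2 _ h2
  have hsM : Weight.powHom s M ≠ 0 := by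
    have : (1 : Γ(X, CohB1.genLocus G s)) ≠ 0 := fun h => hr (by rw [← one_mul r, h, zero_mul])
    exact ne_zero_of_smul _ _ (hgen M) _ 1 this (one_smul _ _).symm
  have hinj2 : Function.Injective (mp (toAbF X) (fr (⊤ : X.Opens))
      (mulA (Weight.powHom s M) ((T G m).obj ((T G n).obj F))) b) := by
    obtain ⟨e, he⟩ : ∃ e : (T G m).obj ((T G n).obj F) ≅ (T G (n + m)).obj F, True := ⟨tensPowAdd F G n m, trivial⟩
    have h4 := hinj (n + m) (by omega) M (Weight.powHom s M) hsM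
    intro a c hac
    have h5 : Function.Injective (mp (toAbF X) (fr (⊤ : X.Opens)) e.hom b) := by
      intro a c h
      have := congrArg (mp (toAbF X) (fr (⊤ : X.Opens)) e.inv b) h
      rwa [← mp_comp, ← mp_comp, e.hom_inv_id, mp_id, mp_id] at this
    apply h5
    apply h4
    rw [← mp_comp, ← mp_comp, mulA_naturality, mp_comp, mp_comp, hac]
  have hy0 : y = 0 := by
    apply hinj n hn m (homOf t') hne
    rw [map_zero]
    apply hinj2
    rw [map_zero]
    exact hM
  rw [hy0, map_zero] at hy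
  have ht0 : t = 0 := by
    apply mp_mulN_injective (Weight.powHom s n) (CohB1.genLocus G s) (hgen n) F b
    rw [map_zero]
    exact hy.symm
  rw [ht0, map_zero]

/-- Vanishing of `H^b(X_s, F)` from vanishing of `H^b(X, F ⊗ G^n)`, `n` large. -/
theorem subsingleton_HHon [IsNoetherian X] (hG : PicF.IsInvertible G) (s : Coh.structureModule X ⟶ G) (b : ℕ)
    (F : X.Modules) (hF : Coh.IsQCoh F) (n₀ : ℕ)
    (h : ∀ n, n₀ ≤ n → Subsingleton (Coh.HH X (CohB1.tensorMod F (CohB1.tensorPow G n)) b)) (U : X.Opens)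
    (hU : U = CohB1.genLocus G s) : Subsingleton (Coh.HHon X F U b) := by
  subst hU
  refine subsingleton_of_forall_eq 0 fun x => ?_
  obtain ⟨t, rfl⟩ := (onE F (CohB1.genLocus G s) b).surjective x
  obtain ⟨n, hn, y, hy⟩ := ext_large hG s b F hF t n₀
  have h1 : Subsingleton (Ext (fr (⊤ : X.Opens)) ((toAbF X).obj ((T G n).obj F)) b) :=
    @Equiv.subsingleton _ _ (HHTopEquiv ((T G n).obj F) b).symm.toEquiv (h n hn)
  rw [h1.elim y 0, map_zero] at hy
  have hgen : IsGen (sec (Weight.powHom s n) (CohB1.genLocus G s)) := by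
    rw [Weight.sec_powHom]
    exact (isGen_sec_genLocus s).pow n
  have ht0 : t = 0 := by
    apply mp_mulN_injective (Weight.powHom s n) (CohB1.genLocus G s) hgen F b
    rw [map_zero]
    exact hy.symm
  rw [ht0, map_zero]

end K660.TF
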