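import Groth.Agent.Divis.StalkMod
import Groth.Prelude.Def_TorSh

/-!
# Torsion-freeness on an affine cover
-/

set_option autoImplicit false
universe u

open CategoryTheory CategoryTheory.Limits AlgebraicGeometry Opposite TopologicalSpace

namespace K660.TFLoc

open Groth.Agent

/-- A quasi-coherent module on an integral scheme is torsion-free if its sections are on the members of an affine
cover. -/
theorem isTorsionFree_of_cover {Z : Scheme.{u}} [IsIntegral Z] (M : Z.Modules) (hM : Coh.IsQCoh M)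
    (h : ∀ z : Z, ∃ V : Z.Opens, IsAffineOpen V ∧ z ∈ V ∧ ∀ (r : Γ(Z, V)) (t : Γ(M, V)), r ≠ 0 → r • t = 0 → t = 0) :
    TorSh.IsTorsionFree M := by
  intro x
  obtain ⟨V, hV, hx, hr⟩ := h x
  have : Nonempty V := ⟨⟨x, hx⟩⟩
  have : IsDomain Γ(Z, V) := inferInstance
  refine Divis.StalkMod.stalk_elim M hM hV x hx ?_
  intro _ _ _ _ l hl halg _
  refine ⟨fun r hreg => ?_⟩
  intro a b hab
  dsimp only at hab
  rw [← sub_eq_zero]
  obtain ⟨d, hd⟩ : ∃ d, d = a - b := ⟨_, rfl⟩
  rw [← hd]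
  have hrd : r • d = 0 := by rw [hd, smul_sub, hab, sub_self]
  obtain ⟨⟨m, s⟩, hms⟩ := IsLocalizedModule.surj (hV.primeIdealOf ⟨x, hx⟩).asIdeal.primeCompl l d
  obtain ⟨⟨r', s'⟩, hrs⟩ := IsLocalization.surj (hV.primeIdealOf ⟨x, hx⟩).asIdeal.primeCompl r
  dsimp only at hms hrs
  have h0 : l (r' • m) = 0 := by
    rw [map_smul, ← algebraMap_smul (Z.presheaf.stalk x) r', ← hrs, ← hms]
    have h1 : s • d = (algebraMap Γ(Z, V) (Z.presheaf.stalk x) s) • d := (algebraMap_smul (Z.presheaf.stalk x) (s : Γ(Z, V)) d).symm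
    rw [h1, ← mul_smul, mul_assoc, mul_comm, mul_smul, hrd, smul_zero]
  obtain ⟨c, hc⟩ := (IsLocalizedModule.eq_iff_exists (hV.primeIdealOf ⟨x, hx⟩).asIdeal.primeCompl l).1
    (h0.trans (map_zero l).symm)
  rw [smul_zero] at hc
  have hc' : ((c : Γ(Z, V)) * r') • m = 0 := by rw [mul_smul]; exact hc
  have hc0 : (c : Γ(Z, V)) ≠ 0 := fun h => c.2 (by rw [h]; exact Ideal.zero_mem _)
  have hr0 : r' ≠ 0 := by
    intro h
    rw [h, map_zero] at hrs
    have h2 : algebraMap Γ(Z, V) (Z.presheaf.stalk x) s' = 0 := by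
      apply hreg.left
      dsimp only
      rw [hrs, mul_zero]
    have h3 := IsLocalization.map_units (Z.presheaf.stalk x) s'
    rw [h2] at h3
    exact not_isUnit_zero h3
  have hm := hr _ m (mul_ne_zero hc0 hr0) hc'
  rw [hm, map_zero] at hms
  have h4 := IsLocalization.map_units (Z.presheaf.stalk x) s
  have h5 : (algebraMap Γ(Z, V) (Z.presheaf.stalk x) s) • d = 0 :=
    (algebraMap_smul (Z.presheaf.stalk x) (s : Γ(Z, V)) d).trans hms
  exact (h4.smul_eq_zero).1 h5

end K660.TFLoc
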