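import Groth.Agent.Vanish.K660.TF
import Groth.Agent.Vanish.K660.TFLoc
import Groth.Agent.Vanish.K660.Rows2
import Groth.Agent.Ega1.AmpFam
import Groth.Agent.VarietyB.GGStalk
import Groth.Agent.Localalg.VanPull
import Groth.Agent.Ega3B.RpushAff
import Groth.Agent.Dual3.K477.ExtCoh
import Groth.Agent.CurvesB.OmegaStalkDict

/-!
# Torsion-freeness of `R^b f_*(ω ⊗ P)`, `f` a surjective morphism of projective varieties, smooth source
-/

set_option autoImplicit false
universe u

open CategoryTheory CategoryTheory.Limits CategoryTheory.Abelian AlgebraicGeometry Opposite TopologicalSpace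

namespace K660.TFP

open Groth.Agent Groth.Agent.Fdesc.LocGen ExtKerAbs ExtKer KolUp K660.Frame K660.TF InjP
open Groth.Agent.CohqB.DevSupport Groth.Agent.PerfA.ExtZero
open Groth.Agent.Grpsch.PicGrp Groth.Agent.Fga.JacFactor Groth.Agent.Divis.EffCartier
open K909.AltInterface K931.Eff Semi

variable {X : Scheme.{u}}

theorem mp_top_injective {M N : X.Modules} (φ : M ⟶ N) (b : ℕ) (h : Function.Injective (Hm φ b)) :
    Function.Injective (mp (toAbF X) (fr (⊤ : X.Opens)) φ b) := by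
  have key : ∀ x : Coh.HH X M b, CohtopA.Flasque.HTopEquiv (X := X.toTopCat) (Coh.toAb N) b (Hm φ b x) =
      mp (toAbF X) (fr (⊤ : X.Opens)) φ b (CohtopA.Flasque.HTopEquiv (X := X.toTopCat) (Coh.toAb M) b x) := fun x =>
    CurvesA.TopDeg.HTopEquiv_map (X := X.toTopCat) ((toAbF X).map φ) b x
  intro a c hac
  obtain ⟨x, rfl⟩ := (CohtopA.Flasque.HTopEquiv (X := X.toTopCat) (Coh.toAb M) b).surjective a
  obtain ⟨y, rfl⟩ := (CohtopA.Flasque.HTopEquiv (X := X.toTopCat) (Coh.toAb M) b).surjective c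
  refine congrArg _ (h ((CohtopA.Flasque.HTopEquiv (X := X.toTopCat) (Coh.toAb N) b).injective ?_))
  exact (key x).trans (hac.trans (key y).symm)

theorem Hm_of_iso {M M' : X.Modules} (e : M ≅ M') {N : X.Modules} (t : Coh.structureModule X ⟶ N) (b : ℕ)
    (h : Function.Injective (Hm (mulA t M') b)) : Function.Injective (Hm (mulA t M) b) := by
  intro x y hxy
  have h1 : Hm (mulA t M') b (Hm e.hom b x) = Hm (mulA t M') b (Hm e.hom b y) := by
    rw [Hm_comp, Hm_comp, mulA_naturality, ← Hm_comp, ← Hm_comp, hxy]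
  exact Hm_injective_of_isIso e.hom b (h h1)

theorem PosP.mul_sa {c d : Pic X} (h : PosP c) (h' : SA d) : PosP (c * d) := by
  obtain ⟨C, hC, h⟩ := h
  refine ⟨C, hC, fun N₀ => ?_⟩
  obtain ⟨N, hN, hN'⟩ := h N₀
  refine ⟨N, hN, ?_⟩
  rw [mul_pow, mul_right_comm]
  exact hN'.mul (h'.pow N)

theorem GGc.eff [Nonempty X] {c : Pic X} (h : GGc c) : Eff c := by
  obtain ⟨L, hL, rfl, hg⟩ := h
  obtain ⟨x⟩ := ‹Nonempty X›
  obtain ⟨s, hs⟩ := VarietyB.GenLocusTensor.exists_mem_genLocus hL hg x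
  rw [eff_mk]
  exact ⟨s, K931.Eff.ne_zero_of_mem_genLocus s hs⟩

theorem eff_inv_dcl [IsIntegral X] {C : X.IdealSheafData} (hC : BlowUp.IsEffCartierIdeal C) : Eff ((dcl C hC)⁻¹) := by
  have h1 : Eff (mk (Coh.structureModule X) isInvertible_structureModule /
      mk (ClSub.idealMod C) (Dix.IdealModCartier.isInvertible_idealMod hC)) :=
    (exists_mono_iff _ _).1 ⟨ClSub.idealModι C, inferInstance⟩
  have h2 : mk (Coh.structureModule X) isInvertible_structureModule = 1 := rfl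
  rw [h2, one_div] at h1
  exact h1

theorem PosP.eff [IsIntegral X] {c : Pic X} (h : PosP c) : ∃ μ : ℕ, 0 < μ ∧ Eff (c ^ μ) := by
  obtain ⟨C, hC, h⟩ := h
  obtain ⟨N, hN, m, hm, hg⟩ := h 1
  refine ⟨N * m, Nat.mul_pos (by omega) hm, ?_⟩
  have h1 : Eff ((dcl C hC)⁻¹) := eff_inv_dcl hC
  have h2 := (GGc.eff hg).mul (h1.pow m)
  have h3 : (c ^ N * dcl C hC) ^ m * ((dcl C hC)⁻¹) ^ m = c ^ (N * m) := by
    rw [← mul_pow, mul_inv_cancel_right, ← pow_mul]
  rwa [h3] at h2

theorem SA.pull {Z : Scheme.{u}} (f : X ⟶ Z) {c : Pic Z} (h : SA c) : SA (pull f c) := by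
  obtain ⟨m, hm, L, hL, h, hg⟩ := h
  refine ⟨m, hm, (Scheme.Modules.pullback f).obj L, isInvertible_pullback f hL, ?_,
    VarietyB.GGStalk.isGloballyGenerated_pullback f L hg⟩
  rw [← map_pow, h]
  rfl

section main

variable {k : Type u} [Field k] [IsAlgClosed k] [CharZero k] (hAlt : Alt k) (hDesc : Desc k) (hEV : EV k)
    [X.Over (Spec (CommRingCat.of k))] [IsIntegral X] [IsProper (X ↘ Spec (CommRingCat.of k))]
    [Smooth (X ↘ Spec (CommRingCat.of k))] (n : ℕ) (hn : topologicalKrullDim X = n)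
    (A : X.Modules) (hA : CohB1.IsAmple A) {W : X.Modules}
    (hW : ExtPow.IsExtPow n (Omega.sheaf (X ↘ Spec (CommRingCat.of k))) W) {P : X.Modules}
    (hP : PicF.IsInvertible P) (hPP : PosP (mk P hP)) {G : X.Modules} (hG : PicF.IsInvertible G)
    (hGs : SA (mk G hG)) (hGe : Eff (mk G hG))

include hAlt hDesc hEV hn hA hW hP hPP hG hGs hGe

theorem inj (b : ℕ) : TF.Inj G (CohB1.tensorMod W P) b := by
  refine ⟨1, fun j hj m t ht => ?_⟩
  have hGj := isInvertible_tensorPow hG j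
  have hPG := isInvertible_tensorMod hP hGj
  apply mp_top_injective
  refine Hm_of_iso (Ega2.Tens.assoc W P (CohB1.tensorPow G j)) t b ?_
  have hcl : mk (CohB1.tensorMod P (CohB1.tensorPow G j)) hPG = mk P hP * mk G hG ^ j := by
    rw [← mk_tensorPow hG, mk_mul_mk]
  obtain ⟨μ, hμ, he⟩ := PosP.eff hPP
  refine injP hAlt hDesc hEV n hn A hA hW hPG ?_ (isInvertible_tensorPow hG m) t ht (μ * m) ?_ b
  · rw [hcl]
    exact PosP.mul_sa hPP (hGs.pow j)
  · rw [hcl, mul_pow, mk_tensorPow hG, div_eq_mul_inv, mul_assoc, ← pow_mul, pow_mul (mk P hP)]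
    refine (he.pow m).mul ?_
    have h1 : mk G hG ^ (j * (μ * m)) * (mk G hG ^ m)⁻¹ = mk G hG ^ (j * (μ * m) - m) := by
      rw [mul_inv_eq_iff_eq_mul, ← pow_add, Nat.sub_add_cancel]
      calc m = 1 * (1 * m) := by ring
        _ ≤ j * (μ * m) := Nat.mul_le_mul hj (Nat.mul_le_mul_right m hμ)
    rw [h1]
    exact hGe.pow _

omit hPP hGs hGe in
/-- (no module torsion over the functions of `X_s`). -/
theorem smul_eq_zero' (hPP : PosP (mk P hP)) (hGs : SA (mk G hG)) (s : Coh.structureModule X ⟶ G) (b : ℕ)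
    (hWq : Coh.IsQCoh W) (U : X.Opens) (hU : U = CohB1.genLocus G s) (r : Γ(X, U)) (hr : r ≠ 0)
    (x : Coh.HHon X (CohB1.tensorMod W P) U b) (hx : fn U r • x = 0) : x = 0 := by
  have hcomp : CompactSpace X := hA.2.1
  have hLN : IsLocallyNoetherian X := LocallyOfFiniteType.isLocallyNoetherian (X ↘ Spec (CommRingCat.of k))
  have hN : IsNoetherian X := {}
  subst hU
  have hne : Nonempty (CohB1.genLocus G s : X.Opens) := by
    by_contra hemp
    have hbot : CohB1.genLocus G s = ⊥ := by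
      ext x
      constructor
      · exact fun hx => (hemp ⟨⟨x, hx⟩⟩).elim
      · exact fun hx => hx.elim
    have : Subsingleton Γ(X, CohB1.genLocus G s) := by
      rw [hbot]
      infer_instance
    exact hr (Subsingleton.elim _ _)
  obtain ⟨⟨z, hz⟩⟩ := hne
  have hGe : Eff (mk G hG) := by
    rw [eff_mk]
    exact ⟨s, K931.Eff.ne_zero_of_mem_genLocus s hz⟩
  exact TF.smul_eq_zero hG s b _ (Ega2.TensGen.isQCoh_tensor hWq hP)
    (inj hAlt hDesc hEV n hn A hA hW hP hPP hG hGs hGe b) r hr x hx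

end main

theorem torsionFree (k : Type u) [Field k] [IsAlgClosed k] [CharZero k] (hAlt : Alt k) (hDesc : Desc k) (hEV : EV k)
    (X : Scheme.{u}) [X.Over (Spec (CommRingCat.of k))] [IsIntegral X] [IsProper (X ↘ Spec (CommRingCat.of k))]
    [Smooth (X ↘ Spec (CommRingCat.of k))] (n : ℕ) (hn : topologicalKrullDim X = n)
    (A : X.Modules) (hA : CohB1.IsAmple A) (Z : Scheme.{u}) [IsIntegral Z] [Z.IsSeparated] (K : Z.Modules) (hK : CohB1.IsAmple K)
    (f : X ⟶ Z) [Surjective f] [IsSeparated f] {W : X.Modules}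
    (hW : ExtPow.IsExtPow n (Omega.sheaf (X ↘ Spec (CommRingCat.of k))) W) {P : X.Modules}
    (hP : PicF.IsInvertible P) (hPP : PosP (mk P hP)) [HasInjectiveResolutions X.Modules] (b : ℕ) :
    TorSh.IsTorsionFree ((Coh.Rpush f b).obj (CohB1.tensorMod W P)) := by
  have hcomp : CompactSpace X := hA.2.1
  have hLN : IsLocallyNoetherian X := LocallyOfFiniteType.isLocallyNoetherian (X ↘ Spec (CommRingCat.of k))
  have hN : IsNoetherian X := {}
  have hqc : QuasiCompact f := inferInstance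
  have hcZ : CompactSpace Z := hK.2.1
  have hWq : Coh.IsQCoh W := K477.ExtCoh.isQCoh_of_isExtPow (CurvesB.OmegaStalkDict.isQCoh_omega _) hW
  have hF : Coh.IsQCoh (CohB1.tensorMod W P) := Ega2.TensGen.isQCoh_tensor hWq hP
  refine TFLoc.isTorsionFree_of_cover _ (CohqA.RelCoh.isQCoh_Rpush f _ hF b) fun z => ?_
  obtain ⟨m, u, hz, haff⟩ := hK.2.2 z
  refine ⟨CohB1.genLocus _ u, haff, hz, fun r t hr hrt => ?_⟩
  obtain ⟨e, he⟩ := Ega3B.RpushAff.exists_equiv f _ hF haff b
  apply e.injective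
  rw [map_zero]
  have hKm := isInvertible_tensorPow hK.1 (m + 1)
  have hGs : SA (mk ((Scheme.Modules.pullback f).obj (CohB1.tensorPow K (m + 1))) (isInvertible_pullback f hKm)) := by
    have h1 : Amp (mk K hK.1) := (amp_mk hK.1).2 hK
    have h2 := SA.pull f (((Amp.sa h1)).pow (m + 1))
    rwa [← mk_tensorPow hK.1, pull_mk] at h2
  refine smul_eq_zero' hAlt hDesc hEV n hn A hA hW hP (isInvertible_pullback f hKm) hPP hGs (pullHom f u) b hWq
    (f ⁻¹ᵁ CohB1.genLocus _ u) (Ega1.AmpFam.genLocus_pullHom f hKm u).symm (f.app _ r) ?_ (e t) ?_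
  · intro h
    have hdom : IsDominant f := inferInstance
    exact hr (Localalg.VanPull.app_injective f _ (h.trans (map_zero _).symm))
  · have := he r t
    rw [hrt, map_zero] at this
    exact this.symm

end K660.TFP
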