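import Groth.Agent.Vanish.K660.Semi
import Groth.Agent.Sga2.ESZ
import Groth.Agent.CInt.K139.FamExt
import Groth.Agent.Sga5.SmoothField
import Groth.Agent.Fga.HShift

/-!
# Vanishing for big modules with ample `L^N ⊗ A`

`esz_inv`: Enriques–Severi–Zariski for invertible modules on a projective manifold.
`van`: if `L^N ⊗ A` is ample for all ample `A` and all `N ≥ 0`, and `L` is big, then `H^b(X, L⁻¹) = 0` for `b < n`
(modulo `Alt`, `Desc`, `EV`).
-/

set_option autoImplicit false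
universe u

open CategoryTheory CategoryTheory.Limits AlgebraicGeometry Opposite TopologicalSpace

namespace K660.Van

open Groth.Agent Groth.Agent.Grpsch.PicGrp Groth.Agent.Fga.JacFactor Groth.Agent.Divis.EffCartier
open Groth.Agent.Fdesc.LocGen
open K909.AltInterface KolUp K931.Eff Semi

variable {k : Type u} [Field k] [IsAlgClosed k] {X : Scheme.{u}}

theorem lt_depth (f : X ⟶ Spec (CommRingCat.of k)) [IsIntegral X] [Smooth f] {n : ℕ} (hn : topologicalKrullDim X = n)
    {F : X.Modules} (hF : PicF.IsInvertible F) {b : ℕ} (hb : b < n) (x : X) (hx : IsClosed ({x} : Set X)) :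
    (b : ℕ∞) < LocCoh.depth (X.presheaf.stalk x) (F.presheaf.stalk x) := by
  have h1 : SmoothOfRelativeDimension n f :=
    Picfga.CurveRelDim.smoothOfRelativeDimension_of_topologicalKrullDim_eq k X f n hn
  obtain ⟨h2, h3⟩ := (Lefpen.H703.ClosedSmooth.smoothOfRelativeDimension_iff f n).1 h1 x hx
  obtain ⟨h4, -⟩ := Dcoh.StalkFF.FF_of_isFinLocFree (Kol.isFinLocFree_of_isInvertible hF) x
  refine lt_of_lt_of_le ?_ (K139.FamExt.depth_self_le_of_flat (X.presheaf.stalk x) (F.presheaf.stalk x))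
  have h5 := Sga5.SmoothField.depth_eq (X.presheaf.stalk x)
  rw [h3] at h5
  have h6 : (n : ℕ∞) = LocCoh.depth (X.presheaf.stalk x) (X.presheaf.stalk x) := by
    have : ((n : ℕ∞) : WithBot ℕ∞) = ((LocCoh.depth (X.presheaf.stalk x) (X.presheaf.stalk x) : ℕ∞) : WithBot ℕ∞) := by
      rw [← h5]; rfl
    exact WithBot.coe_injective this
  rw [← h6]
  exact_mod_cast hb

/-- The lemma of Enriques–Severi–Zariski for an invertible module on a projective manifold. -/
theorem esz_inv (f : X ⟶ Spec (CommRingCat.of k)) [IsIntegral X] [IsProper f] [Smooth f] {n : ℕ}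
    (hn : topologicalKrullDim X = n) {A P : X.Modules} (hAP : ClSub.IsInverseOf A P) (hA : CohB1.IsAmple A)
    {F : X.Modules} (hF : PicF.IsInvertible F) {b : ℕ} (hb : b < n) :
    ∃ m₀ : ℕ, ∀ m, m₀ ≤ m → ∀ i ≤ b, Subsingleton (Coh.HH X (CohB1.tensorMod F (CohB1.tensorPow P m)) i) := by
  let _ : X.Over (Spec (CommRingCat.of k)) := ⟨f⟩
  have : IsProper (X ↘ Spec (CommRingCat.of k)) := inferInstanceAs (IsProper f)
  exact Sga2.ESZ.esz k X hAP hA F (PerfA.CohSerre.isCoh_of_isFinLocFree (Kol.isFinLocFree_of_isInvertible hF)) b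
    fun x hx => lt_depth f hn hF hb x hx

/-- Vanishing for big modules `L` such that all `L^N ⊗ A` are ample. -/
theorem van [CharZero k] (hAlt : Alt k) (hDesc : Desc k) (hEV : EV k) (f : X ⟶ Spec (CommRingCat.of k))
    [IsIntegral X] [IsProper f] [Smooth f] (n : ℕ) (hn : topologicalKrullDim X = n) {L Linv : X.Modules}
    (hL : PicF.IsInvertible L) (hLinv : ClSub.IsInverseOf Linv L)
    (hNA : ∀ a : Pic X, Amp a → ∀ N : ℕ, Amp (mk L hL ^ N * a)) (ν : ℕ) (a : Pic X) (ha : Amp a)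
    (hbig : Eff (mk L hL ^ ν / a)) (b : ℕ) (hb : b < n) : Subsingleton (Coh.HH X Linv b) := by
  obtain ⟨A, hA, rfl, hAa⟩ := ha
  obtain ⟨P, hP, hPm⟩ := exists_mk (mk A hA)⁻¹
  have hsep : X.IsSeparated := by
    rw [Scheme.isSeparated_iff, ← terminal.comp_from f, IsSeparated.comp_iff]
    infer_instance
  have hcomp : CompactSpace X := hAa.2.1
  have hAP : ClSub.IsInverseOf A P := by
    rw [isInverseOf_iff hA hP, ← hPm, mul_inv_cancel]
  have hLi : PicF.IsInvertible Linv := (Dix.IdealModCartier.isInvertible_of_isInverseOf hLinv).1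
  obtain ⟨m₀, hm₀⟩ := esz_inv f hn hAP hAa hLi hb
  obtain ⟨m₁, -, hm₁⟩ := K931.Eff.Amp.eventually_eff ((amp_mk hA).2 hAa) 1
  set m := max m₀ m₁ with hm
  have hEm := hm₁ m (le_max_right _ _)
  rw [mul_one] at hEm
  obtain ⟨B, hB, hBd⟩ := Eff.exists_div hEm
  obtain ⟨C₀, hC₀, hCd⟩ := Eff.exists_div hbig
  have hC₀m := KolUp.isEff_pow hC₀ (m + 1)
  have hsurj := kolc f n hn A hAa hL hLinv hAlt hDesc hEV (B * C₀ ^ (m + 1)) B (isEff_mul hB hC₀m) hB
    (fun x hx => mem_support_mul hx) (fun N₀ => ⟨ν * (m + 1) + N₀, by omega, ?_⟩) b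
  · have hB' := Dix.IdealModCartier.isInvertible_idealMod hB
    have e : mk (CohB1.tensorMod Linv (ClSub.idealMod B)) (isInvertible_tensorMod hLi hB') =
        mk (CohB1.tensorMod Linv (CohB1.tensorPow P m)) (isInvertible_tensorMod hLi (isInvertible_tensorPow hP m)) := by
      rw [← mk_mul_mk hLi hB', ← mk_mul_mk hLi (isInvertible_tensorPow hP m), mk_tensorPow hP, ← hPm, inv_pow]
      congr 1
    obtain ⟨i⟩ := (mk_eq_iff _ _).1 e
    have h0 : Subsingleton (Coh.HH X (CohB1.tensorMod Linv (ClSub.idealMod B)) b) :=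
      Fga.HShift.subsingleton_of_iso i.symm b (hm₀ m (le_max_left _ _) b le_rfl)
    exact ⟨fun s t => by
      obtain ⟨s', rfl⟩ := hsurj s
      obtain ⟨t', rfl⟩ := hsurj t
      rw [Subsingleton.elim s' t']⟩
  · have e : mk L hL ^ (ν * (m + 1) + N₀) * dcl (B * C₀ ^ (m + 1)) (isEff_mul hB hC₀m) = mk L hL ^ N₀ * mk A hA := by
      rw [dcl_mul hB hC₀m, hBd, dcl_pow hC₀, hCd, inv_div, div_pow, pow_add, pow_mul, pow_succ (mk A hA) m,
        div_eq_mul_inv]
      set y := (mk L hL ^ ν) ^ (m + 1)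
      rw [show y * mk L hL ^ N₀ * ((mk A hA ^ m)⁻¹ * (mk A hA ^ m * mk A hA * y⁻¹)) =
        mk L hL ^ N₀ * mk A hA * (y * y⁻¹) * (mk A hA ^ m * (mk A hA ^ m)⁻¹) by
          simp only [mul_comm, mul_left_comm, mul_assoc]]
      rw [mul_inv_cancel, mul_inv_cancel, mul_one, mul_one]
    rw [e]
    exact Amp.sa (hNA _ ((amp_mk hA).2 hAa) N₀)

end K660.Van
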